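import Cfsg.Agent.Lib.Goldschmidt.Spread

/-!
# A big piece forces a normal 2-complement

If an irreducible group `F` of automorphisms of an elementary abelian 2-group has a piece family with
`|U| ≤ |W|`, then `F` has a normal 2-complement. In two blocks the stabiliser modulo the centraliser of
both cycles is abelian. In a spread the relation "`U'` lies in the `W` of `U`" is either a tournament,
so that no involution exists, or symmetric, and then the matrix `1 + R` over `ZMod 2` squares to zero
and has trace one.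
-/

set_option autoImplicit false
set_option linter.unusedSectionVars false

namespace CfsgLib.Goldschmidt

open Subgroup

universe u

variable {V : Type u} [CommGroup V] [Finite V]

/-- `F` has a normal subgroup of odd order and 2-power index. -/
abbrev HasTwoComplement (F : Subgroup (MulAut V)) : Prop :=
  ∃ K : Subgroup F, K.Normal ∧ Odd (Nat.card K) ∧ ∀ f : F, ∃ n : ℕ, f ^ (2 ^ n) ∈ K

theorem IsPieceFamily.orbit {F : Subgroup (MulAut V)} {P : Set (Subgroup V × Subgroup V)}
    (hP : IsPieceFamily F P) {p : Subgroup V × Subgroup V} (hp : p ∈ P) :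
    IsPieceFamily F {q | ∃ f ∈ F, mapPair f p = q} ∧
      IsTransFam F {q | ∃ f ∈ F, mapPair f p = q} ∧ p ∈ {q | ∃ f ∈ F, mapPair f p = q} := by
  have hsub : ∀ q, (∃ f ∈ F, mapPair f p = q) → q ∈ P := by
    rintro q ⟨f, hf, rfl⟩; exact hP.map_mem f hf p hp
  refine ⟨⟨?_, fun q hq => hP.isCompl q (hsub q hq), fun q hq => hP.ne_bot q (hsub q hq),
    fun q hq => hP.card_le q (hsub q hq), fun q hq r hr => hP.eq_of_meet q (hsub q hq) r (hsub r hr),
    fun q hq => hP.exists_cycle q (hsub q hq)⟩, ?_, 1, one_mem F, mapPair_one p⟩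
  · rintro f hf q ⟨e, he, rfl⟩
    exact ⟨f * e, mul_mem hf he, mapPair_mul f e p⟩
  · rintro q ⟨e, he, rfl⟩ r ⟨f, hf, rfl⟩
    exact ⟨f * e⁻¹, mul_mem hf (inv_mem he), by rw [← mapPair_mul, inv_mul_cancel_right]⟩

theorem even_card_of_ne_bot (h2 : ∀ x : V, x ^ 2 = 1) {X : Subgroup V} (hX : X ≠ ⊥) :
    Even (Nat.card X) := by
  obtain ⟨x, hx⟩ := Subgroup.ne_bot_iff_exists_ne_one.1 hX
  have hord : orderOf x = 2 := orderOf_eq_prime (Subtype.ext (h2 x)) hx
  exact even_iff_two_dvd.2 (hord ▸ orderOf_dvd_natCard x)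

theorem card_mul_eq {p : Subgroup V × Subgroup V} (h : IsCompl p.1 p.2) :
    Nat.card p.1 * Nat.card p.2 = Nat.card V := by
  rw [← Nat.card_prod]
  refine Nat.card_eq_of_bijective (fun z : p.1 × p.2 => (z.1 : V) * z.2) ⟨?_, ?_⟩
  · rintro ⟨a, c⟩ ⟨b, d⟩ hab
    have hab' : (a : V) * c = b * d := hab
    have hmem : (b : V)⁻¹ * a = (d : V) * (c : V)⁻¹ := by
      rw [eq_mul_inv_iff_mul_eq, mul_assoc, hab', inv_mul_cancel_left]
    have h1 : (b : V)⁻¹ * a ∈ p.1 ⊓ p.2 :=
      mem_inf.2 ⟨mul_mem (inv_mem b.2) a.2, hmem ▸ mul_mem d.2 (inv_mem c.2)⟩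
    rw [h.inf_eq_bot, mem_bot] at h1
    exact Prod.ext (Subtype.ext (inv_mul_eq_one.1 h1).symm)
      (Subtype.ext (mul_inv_eq_one.1 (hmem ▸ h1)).symm)
  · intro x
    obtain ⟨a, ha, c, hc, hac⟩ := IsPieceCycle.exists_mul h x
    exact ⟨(⟨a, ha⟩, ⟨c, hc⟩), hac⟩

/-- Elements commuting with a transitive cycle act on `W` with order dividing that of the cycle. -/
theorem pow_orderOf_apply {U W : Subgroup V} {g d : MulAut V} (hc : IsPieceCycle U W g)
    (hd : d * g = g * d) (hdW : ∀ x ∈ W, d x ∈ W) {x : V} (hx : x ∈ W) :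
    (d ^ orderOf g) x = x := by
  by_cases hx1 : x = 1
  · rw [hx1, map_one]
  have hdx1 : d x ≠ 1 := fun h => hx1 (d.injective (h.trans (map_one d).symm))
  obtain ⟨n, hn⟩ := hc.trans x hx hx1 (d x) (hdW x hx) hdx1
  have key : ∀ k : ℕ, (d ^ k) x = (g ^ (n * k)) x := by
    intro k
    induction k with
    | zero => rw [pow_zero, mul_zero, pow_zero]
    | succ k ih =>
      have hcomm : d * g ^ (n * k) = g ^ (n * k) * d := ((show Commute d g from hd).pow_right (n * k)).eq
      rw [pow_succ', MulAut.mul_apply, ih, ← MulAut.mul_apply, hcomm, MulAut.mul_apply, ← hn,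
        ← MulAut.mul_apply, ← pow_add, mul_add, mul_one]
  rw [key, mul_comm n, pow_mul, pow_orderOf_eq_one, one_pow, MulAut.one_apply]

theorem two_block_complement {F : Subgroup (MulAut V)} {P : Set (Subgroup V × Subgroup V)}
    (hP : IsPieceFamily F P) (h2 : ∀ x : V, x ^ 2 = 1) {p q : Subgroup V × Subgroup V} (hp : p ∈ P)
    (hq : q ∈ P) (hqp : q ≠ p) (hpq : p.1 = q.2) (hqp' : q.1 = p.2)
    (hall : ∀ r ∈ P, r = p ∨ r = q) : HasTwoComplement F := by
  classical
  obtain ⟨g, hgF, hg, hgN⟩ := hP.exists_cycle p hp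
  obtain ⟨h, hhF, hh, hhN⟩ := hP.exists_cycle q hq
  -- the stabiliser
  let F0 : Subgroup F :=
    { carrier := {f | mapPair (f : MulAut V) p = p}
      one_mem' := mapPair_one p
      mul_mem' := fun {a b} ha hb => by
        show mapPair ((a : MulAut V) * (b : MulAut V)) p = p
        rw [mapPair_mul, hb, ha]
      inv_mem' := fun {a} ha => by
        show mapPair ((a : MulAut V)⁻¹) p = p
        conv_lhs => rw [← ha]
        rw [← mapPair_mul, inv_mul_cancel, mapPair_one] }
  have hfix_q : ∀ f : F, f ∈ F0 → mapPair (f : MulAut V) q = q := by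
    intro f hf
    rcases hall _ (hP.map_mem f f.2 q hq) with h1 | h1
    · exfalso; apply hqp
      have hf' : mapPair (f : MulAut V) p = p := hf
      have h3 := congrArg (mapPair (f : MulAut V)⁻¹) (h1.trans hf'.symm)
      rwa [← mapPair_mul, ← mapPair_mul, inv_mul_cancel, mapPair_one, mapPair_one] at h3
    · exact h1
  have hF0 : ∀ f : F, f * f ∈ F0 := by
    intro f
    show mapPair ((f : MulAut V) * (f : MulAut V)) p = p
    rw [mapPair_mul]
    rcases hall _ (hP.map_mem f f.2 p hp) with h1 | h1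
    · rw [h1, h1]
    · rw [h1]
      rcases hall _ (hP.map_mem f f.2 q hq) with h3 | h3
      · exact h3
      · exfalso; apply hqp
        have h4 := congrArg (mapPair (f : MulAut V)⁻¹) (h3.trans h1.symm)
        rwa [← mapPair_mul, ← mapPair_mul, inv_mul_cancel, mapPair_one, mapPair_one] at h4
  have hF0n : F0.Normal := by
    refine ⟨fun a ha f => ?_⟩
    show mapPair ((f : MulAut V) * (a : MulAut V) * (f : MulAut V)⁻¹) p = p
    rw [mapPair_mul, mapPair_mul]
    rcases hall _ (hP.map_mem _ (inv_mem f.2) p hp) with h1 | h1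
    · rw [h1, show mapPair (a : MulAut V) p = p from ha]
      conv_lhs => rw [← h1]
      rw [← mapPair_mul, mul_inv_cancel, mapPair_one]
    · rw [h1, hfix_q a ha]
      conv_lhs => rw [← h1]
      rw [← mapPair_mul, mul_inv_cancel, mapPair_one]
  -- commutators centralise both cycles
  have hcomm : ∀ (k : MulAut V), (∀ f : F, f ∈ F0 → (f : MulAut V) * k * (f : MulAut V)⁻¹ ∈ zpowers k) →
      ∀ d ∈ (commutator ↥F0), ((d : F) : MulAut V) * k = k * ((d : F) : MulAut V) := by
    intro k hk
    let Z : Subgroup ↥F0 :=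
      (centralizer ({k} : Set (MulAut V))).comap (F.subtype.comp F0.subtype)
    suffices hZ : commutator ↥F0 ≤ Z by
      intro d hd
      have := mem_centralizer_singleton_iff.1 (hZ hd)
      exact this
    rw [commutator_eq_closure, closure_le]
    rintro _ ⟨a, b, rfl⟩
    have hconj : ∀ (x : MulAut V) (n : ℤ), x * k ^ n * x⁻¹ = (x * k * x⁻¹) ^ n :=
      fun x n => (map_zpow (MulAut.conj x).toMonoidHom k n)
    obtain ⟨i, hi⟩ := mem_zpowers_iff.1 (hk (a : F)⁻¹ (inv_mem a.2))
    obtain ⟨j, hj⟩ := mem_zpowers_iff.1 (hk (b : F)⁻¹ (inv_mem b.2))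
    simp only [Z, SetLike.mem_coe, mem_comap, mem_centralizer_singleton_iff, commutatorElement_def,
      map_mul, map_inv, MonoidHom.coe_comp, Function.comp_apply, coe_subtype, coe_inv, inv_inv] at hi hj ⊢
    set A := ((a : F) : MulAut V)
    set B := ((b : F) : MulAut V)
    have hA : ∀ n : ℤ, A⁻¹ * k ^ n * A = (A⁻¹ * k * A) ^ n := fun n => by
      have := hconj A⁻¹ n; rwa [inv_inv] at this
    have hB : ∀ n : ℤ, B⁻¹ * k ^ n * B = (B⁻¹ * k * B) ^ n := fun n => by
      have := hconj B⁻¹ n; rwa [inv_inv] at this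
    have hBA : A⁻¹ * (B⁻¹ * k * B) * A = B⁻¹ * (A⁻¹ * k * A) * B := by
      rw [← hj, ← hi, hA, hB, ← hi, ← hj, ← zpow_mul, ← zpow_mul, mul_comm i j]
    calc A * B * A⁻¹ * B⁻¹ * k = A * B * (A⁻¹ * (B⁻¹ * k * B) * A) * A⁻¹ * B⁻¹ := by group
      _ = A * B * (B⁻¹ * (A⁻¹ * k * A) * B) * A⁻¹ * B⁻¹ := by rw [hBA]
      _ = k * (A * B * A⁻¹ * B⁻¹) := by group
  have hodd : ∀ d ∈ commutator ↥F0, Odd (orderOf d) := by
    intro d hd
    set D := ((d : F) : MulAut V)
    have hDg : D * g = g * D := hcomm g (fun f hf => hgN f f.2 hf) d hd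
    have hDh : D * h = h * D := hcomm h (fun f hf => hhN f f.2 (hfix_q f hf)) d hd
    have hDp : mapPair D p = p := (d : ↥F0).2
    have hDq : mapPair D q = q := hfix_q (d : F) d.2
    have hp2 : ∀ x ∈ p.2, D x ∈ p.2 := fun x hx => (congrArg Prod.snd hDp).le (mem_map_auto hx)
    have hq2 : ∀ x ∈ q.2, D x ∈ q.2 := fun x hx => (congrArg Prod.snd hDq).le (mem_map_auto hx)
    have hpow : D ^ (orderOf g * orderOf h) = 1 := by
      apply MulEquiv.ext
      intro x
      rw [MulAut.one_apply]
      obtain ⟨a, ha, c, hc, rfl⟩ := IsPieceCycle.exists_mul (hP.isCompl p hp) x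
      have hfixa : (D ^ (orderOf g * orderOf h)) a = a := by
        rw [mul_comm, pow_mul]
        have := pow_orderOf_apply hh hDh hq2 (hpq ▸ ha)
        clear_value D
        induction orderOf g with
        | zero => rw [pow_zero, MulAut.one_apply]
        | succ n ih => rw [pow_succ, MulAut.mul_apply, this, ih]
      have hfixc : (D ^ (orderOf g * orderOf h)) c = c := by
        rw [pow_mul]
        have := pow_orderOf_apply hg hDg hp2 hc
        clear_value D
        induction orderOf h with
        | zero => rw [pow_zero, MulAut.one_apply]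
        | succ n ih => rw [pow_succ, MulAut.mul_apply, this, ih]
      rw [map_mul, hfixa, hfixc]
    have hM : ∀ (r : Subgroup V × Subgroup V) (k : MulAut V), r ∈ P → IsPieceCycle r.1 r.2 k →
        Odd (orderOf k) := by
      intro r k hr hk
      have h3 := hk.orderOf_eq (hP.isCompl r hr) (hP.snd_ne_bot hr)
      obtain ⟨m, hm⟩ := even_card_of_ne_bot h2 (hP.snd_ne_bot hr)
      exact ⟨m - 1, by omega⟩
    refine Odd.of_dvd_nat ((hM p g hp hg).mul (hM q h hq hh)) ?_
    apply orderOf_dvd_of_pow_eq_one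
    exact Subtype.ext (Subtype.ext hpow)
  -- the odd elements of the stabiliser
  have hclosed : ∀ a b : ↥F0, Odd (orderOf a) → Odd (orderOf b) → Odd (orderOf (a * b)) := by
    intro a b ha hb
    have hmem : (a * b) ^ (orderOf a * orderOf b) ∈ commutator ↥F0 := by
      rw [← Abelianization.ker_of, MonoidHom.mem_ker, map_pow, map_mul, mul_pow, ← map_pow, ← map_pow,
        pow_mul, pow_orderOf_eq_one, one_pow, mul_comm (orderOf a), pow_mul, pow_orderOf_eq_one, one_pow,
        map_one, one_mul]
    refine Odd.of_dvd_nat ((ha.mul hb).mul (hodd _ hmem)) ?_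
    apply orderOf_dvd_of_pow_eq_one
    rw [pow_mul, pow_orderOf_eq_one]
  let K : Subgroup F :=
    { carrier := {f | f ∈ F0 ∧ Odd (orderOf f)}
      one_mem' := ⟨one_mem F0, by rw [orderOf_one]; exact odd_one⟩
      mul_mem' := fun {a b} ha hb => ⟨mul_mem ha.1 hb.1, by
        have := hclosed ⟨a, ha.1⟩ ⟨b, hb.1⟩ (by rw [← orderOf_coe]; exact ha.2)
          (by rw [← orderOf_coe]; exact hb.2)
        rwa [← orderOf_coe] at this⟩
      inv_mem' := fun {a} ha => ⟨inv_mem ha.1, by rw [orderOf_inv]; exact ha.2⟩ }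
  refine ⟨K, ⟨fun a ha f => ⟨hF0n.conj_mem a ha.1 f, ?_⟩⟩, ?_, fun f => ?_⟩
  · have := MulEquiv.orderOf_eq (MulAut.conj f) a
    rw [MulAut.conj_apply] at this
    rw [this]; exact ha.2
  · rw [← Nat.not_even_iff_odd, even_iff_two_dvd]
    intro h3
    obtain ⟨x, hx⟩ := exists_prime_orderOf_dvd_card' (G := K) 2 h3
    have h4 : Odd (orderOf (x : F)) := x.2.2
    rw [orderOf_coe, hx] at h4
    exact Nat.not_odd_iff_even.2 even_two h4
  · obtain ⟨a, m, hm, ho⟩ := Nat.exists_eq_two_pow_mul_odd (orderOf_pos (f * f)).ne'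
    refine ⟨a + 1, ?_⟩
    have he : f ^ 2 ^ (a + 1) = (f * f) ^ 2 ^ a := by rw [pow_succ', pow_mul, sq]
    rw [he]
    refine ⟨pow_mem (hF0 f) _, ?_⟩
    rw [orderOf_pow' _ (by positivity), ho, Nat.gcd_mul_right_left, Nat.mul_div_cancel_left _ (by positivity)]
    exact hm

section Spread

variable {F : Subgroup (MulAut V)} {P : Set (Subgroup V × Subgroup V)} (hP : IsPieceFamily F P)
  (htr : IsTransFam F P) (h2 : ∀ x : V, x ^ 2 = 1)
  (hcov : ∀ x : V, x ≠ 1 → ∃ r ∈ P, x ∈ r.1)
  (hfree : ∀ r ∈ P, ∃ s ∈ P, ¬ s.1 ≤ r.2 ∧ s ≠ r)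
include hP htr h2 hcov hfree

omit h2 hcov hfree in
theorem card_fst_eq {r s : Subgroup V × Subgroup V} (hr : r ∈ P) (hs : s ∈ P) :
    Nat.card r.1 = Nat.card s.1 := by
  obtain ⟨f, -, hf⟩ := htr r hr s hs
  rw [← hf]
  exact (card_map_auto f r.1).symm

/-- A member meeting some `W` outside `1` lies inside it. -/
theorem le_snd_of_meet {r s : Subgroup V × Subgroup V} (hr : r ∈ P) (hs : s ∈ P) {w : V} (hw : w ≠ 1)
    (hws : w ∈ s.1) (hwr : w ∈ r.2) : s.1 ≤ r.2 := by
  by_contra hno
  obtain ⟨g, hgF, hg, -⟩ := hP.exists_cycle r hr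
  by_cases hsr : s = r
  · exact hw (hP.inf_eq_bot hr (hsr ▸ hws) hwr)
  · exact hw (IsPieceFamily.free_inf_eq_bot hP hr hgF hg hs hsr hno hws hwr)

/-- A non-trivial subgroup in which every covering member is contained contains an odd number of members. -/
theorem odd_members {X : Subgroup V} (hX : X ≠ ⊥)
    (h : ∀ w ∈ X, w ≠ 1 → ∀ s ∈ P, w ∈ s.1 → s.1 ≤ X) :
    ∀ r ∈ P, Nat.card {s : P // (s : Subgroup V × Subgroup V).1 ≤ X} * (Nat.card r.1 - 1) =
        Nat.card X - 1 ∧ Odd (Nat.card {s : P // (s : Subgroup V × Subgroup V).1 ≤ X}) := by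
  classical
  intro r hr
  haveI := Fintype.ofFinite V
  haveI := Fintype.ofFinite P
  have hcount : ∀ Y : Subgroup V, (Finset.univ.filter fun x : V => x ∈ Y ∧ x ≠ 1).card = Nat.card Y - 1 := by
    intro Y
    have h1 : (Finset.univ.filter fun x : V => x ∈ Y ∧ x ≠ 1) =
        (Finset.univ.filter (· ∈ Y)).erase 1 := by ext x; simp [and_comm]
    rw [h1, Finset.card_erase_of_mem (by simp [one_mem]), Nat.card_eq_fintype_card, Fintype.card_subtype]
  have hu : (Finset.univ.filter fun x : V => x ∈ X ∧ x ≠ 1) =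
      (Finset.univ.filter fun s : P => (s : Subgroup V × Subgroup V).1 ≤ X).biUnion
        (fun s => Finset.univ.filter fun x : V => x ∈ (s : Subgroup V × Subgroup V).1 ∧ x ≠ 1) := by
    ext x
    simp only [Finset.mem_filter, Finset.mem_univ, true_and, Finset.mem_biUnion]
    constructor
    · rintro ⟨hx, hx1⟩
      obtain ⟨s, hs, hxs⟩ := hcov x hx1
      exact ⟨⟨s, hs⟩, h x hx hx1 s hs hxs, hxs, hx1⟩
    · rintro ⟨s, hsX, hxs, hx1⟩
      exact ⟨hsX hxs, hx1⟩
  have hc := congrArg Finset.card hu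
  rw [hcount, Finset.card_biUnion (fun a _ b _ hab => Finset.disjoint_left.2 fun x hxa hxb => by
    simp only [Finset.mem_filter, Finset.mem_univ, true_and] at hxa hxb
    exact hab (Subtype.ext (hP.eq_of_mem a.2 b.2 hxa.2 hxa.1 hxb.1))),
    Finset.sum_congr rfl (fun s _ => (hcount _).trans (by rw [card_fst_eq hP htr s.2 hr])),
    Finset.sum_const, smul_eq_mul, ← Fintype.card_subtype, ← Nat.card_eq_fintype_card] at hc
  refine ⟨hc.symm, ?_⟩
  obtain ⟨m, hm⟩ := even_card_of_ne_bot h2 hX
  have h4 : 0 < Nat.card X := Nat.card_pos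
  have h3 : Odd (Nat.card X - 1) := ⟨m - 1, by omega⟩
  rw [hc, Nat.odd_mul] at h3
  exact h3.1

/-- The relation `U_b ≤ W_a`. -/
theorem spread_complement {p : Subgroup V × Subgroup V} (hp : p ∈ P) : HasTwoComplement F := by
  classical
  haveI := Fintype.ofFinite P
  set R : P → P → Prop := fun a b => (b : Subgroup V × Subgroup V).1 ≤ (a : Subgroup V × Subgroup V).2
    with hR
  have hRne : ∀ a b : P, R a b → b ≠ a := fun a b h e =>
    hP.ne_of_le a.2 h (congrArg Subtype.val e)
  have hmapR : ∀ f : MulAut V, ∀ a b : Subgroup V × Subgroup V, (mapPair f b).1 ≤ (mapPair f a).2 ↔ b.1 ≤ a.2 :=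
    fun f a b => Subgroup.map_le_map_iff_of_injective f.injective
  have htop : (⊤ : Subgroup V) ≠ ⊥ := by
    intro h
    exact hP.ne_bot p hp (eq_bot_iff.2 (h ▸ le_top))
  have hN : Odd (Nat.card P) ∧ Nat.card P * (Nat.card p.1 - 1) = Nat.card V - 1 := by
    have h1 := odd_members hP htr h2 hcov hfree htop (fun _ _ _ _ _ _ => le_top) p hp
    have h3 : Nat.card {s : P // (s : Subgroup V × Subgroup V).1 ≤ ⊤} = Nat.card P :=
      Nat.card_congr (Equiv.subtypeUnivEquiv fun _ => le_top)
    rw [h3, card_top] at h1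
    exact ⟨h1.2, h1.1⟩
  have hout : ∀ a : P, Nat.card {b : P // R a b} * (Nat.card p.1 - 1) = Nat.card p.2 - 1 ∧
      Odd (Nat.card {b : P // R a b}) := by
    intro a
    have h1 := odd_members hP htr h2 hcov hfree (hP.snd_ne_bot a.2)
      (fun w hw hw1 s hs hws => le_snd_of_meet hP htr h2 hcov hfree a.2 hs hw1 hws hw) p hp
    obtain ⟨f, -, hf⟩ := htr (a : Subgroup V × Subgroup V) a.2 p hp
    have h4 : Nat.card p.2 = Nat.card (a : Subgroup V × Subgroup V).2 := by
      rw [← hf]; exact card_map_auto f _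
    rw [h4]
    exact h1
  by_cases hsym : ∀ a b : P, R a b → R b a
  · -- the symmetric case is impossible
    exfalso
    by_cases hsmall : Nat.card p.2 = Nat.card p.1
    · have huniq : ∀ a : P, ∃! b : P, R a b := by
        intro a
        have h1 := (hout a).1
        rw [hsmall] at h1
        have h3 : 1 < Nat.card p.1 := (Subgroup.one_lt_card_iff_ne_bot _).2 (hP.ne_bot p hp)
        have h4 : Nat.card {b : P // R a b} = 1 := by
          have h5 : 0 < Nat.card p.1 - 1 := by omega
          exact Nat.eq_of_mul_eq_mul_right h5 (by rw [h1, one_mul])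
        obtain ⟨hs, ⟨⟨b, hb⟩⟩⟩ := Nat.card_eq_one_iff_unique.1 h4
        exact ⟨b, hb, fun c hc => congrArg Subtype.val (Subsingleton.elim (⟨c, hc⟩ : {b : P // R a b}) ⟨b, hb⟩)⟩
      choose σ hσ hσu using huniq
      have hinv : ∀ a, σ (σ a) = a := fun a => (hσu (σ a) a (hsym _ _ (hσ a))).symm
      let e : Equiv.Perm P := Function.Involutive.toPerm σ hinv
      obtain ⟨a, ha⟩ := Equiv.Perm.exists_fixed_point_of_prime (p := 2) (n := 1) (σ := e)
        (by rw [← Nat.card_eq_fintype_card, ← even_iff_two_dvd, Nat.not_even_iff_odd]; exact hN.1)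
        (Equiv.ext fun x => by rw [pow_one, sq]; exact hinv x)
      exact hRne a (σ a) (hσ a) ha
    · have hcommon : ∀ a c : P, Odd (Nat.card {b : P // R a b ∧ R c b}) := by
        intro a c
        set X := (a : Subgroup V × Subgroup V).2 ⊓ (c : Subgroup V × Subgroup V).2 with hXdef
        have hX : X ≠ ⊥ := by
          intro hX
          have hinj : Function.Injective fun z : (a : Subgroup V × Subgroup V).2 × (c : Subgroup V × Subgroup V).2 =>
              (z.1 : V) * z.2 := by
            rintro ⟨x, y⟩ ⟨x', y'⟩ hxy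
            have hxy' : (x : V) * y = x' * y' := hxy
            have hmem : (x' : V)⁻¹ * x = (y' : V) * (y : V)⁻¹ := by
              rw [eq_mul_inv_iff_mul_eq, mul_assoc, hxy', inv_mul_cancel_left]
            have h1 : (x' : V)⁻¹ * x ∈ X :=
              mem_inf.2 ⟨mul_mem (inv_mem x'.2) x.2, hmem ▸ mul_mem y'.2 (inv_mem y.2)⟩
            rw [hX, mem_bot] at h1
            exact Prod.ext (Subtype.ext (inv_mul_eq_one.1 h1).symm)
              (Subtype.ext (mul_inv_eq_one.1 (hmem ▸ h1)).symm)
          have h1 := Nat.card_le_card_of_injective _ hinj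
          rw [Nat.card_prod] at h1
          have hsz : ∀ x : P, Nat.card (x : Subgroup V × Subgroup V).2 = Nat.card p.2 := by
            intro x
            obtain ⟨f, -, hf⟩ := htr p hp _ x.2
            rw [← hf]; exact card_map_auto f _
          rw [hsz a, hsz c, ← card_mul_eq (hP.isCompl p hp)] at h1
          have h3 : Nat.card p.2 ≤ Nat.card p.1 := Nat.le_of_mul_le_mul_right h1 Nat.card_pos
          exact hsmall (le_antisymm h3 (hP.card_le p hp))
        have h1 := (odd_members hP htr h2 hcov hfree hX (fun w hw hw1 s hs hws => le_inf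
          (le_snd_of_meet hP htr h2 hcov hfree a.2 hs hw1 hws (mem_inf.1 hw).1)
          (le_snd_of_meet hP htr h2 hcov hfree c.2 hs hw1 hws (mem_inf.1 hw).2)) p hp).2
        have e : {b : P // R a b ∧ R c b} ≃ {s : P // (s : Subgroup V × Subgroup V).1 ≤ X} :=
          Equiv.subtypeEquivRight fun b => le_inf_iff.symm
        rw [Nat.card_congr e]
        exact h1
      let B : Matrix P P (ZMod 2) := Matrix.of fun a b => 1 + if R a b then 1 else 0
      have hcast : ∀ n : ℕ, Odd n → (n : ZMod 2) = 1 := fun n hn => (ZMod.natCast_eq_one_iff_odd).2 hn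
      have hsum : ∀ (Q : P → Prop) [DecidablePred Q], (∑ b : P, if Q b then (1 : ZMod 2) else 0) = (Nat.card {b : P // Q b} : ZMod 2) := by
        intro Q _
        rw [Finset.sum_boole, Nat.card_eq_fintype_card, Fintype.card_subtype]
      have hB : B * B = 0 := by
        ext a c
        rw [Matrix.mul_apply, Matrix.zero_apply]
        have hterm : ∀ b : P, B a b * B b c = 1 + (if R a b then 1 else 0) + (if R c b then 1 else 0) +
            (if R a b ∧ R c b then 1 else 0) := by
          intro b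
          have hbc : R b c ↔ R c b := ⟨hsym b c, hsym c b⟩
          simp only [B, Matrix.of_apply, hbc]
          by_cases h1 : R a b <;> by_cases h3 : R c b <;> simp [h1, h3] <;> decide
        rw [Finset.sum_congr rfl (fun b _ => hterm b), Finset.sum_add_distrib, Finset.sum_add_distrib,
          Finset.sum_add_distrib, hsum, hsum, hsum, hcast _ (hout a).2, hcast _ (hout c).2,
          hcast _ (hcommon a c), Finset.sum_const, nsmul_one, Finset.card_univ, ← Nat.card_eq_fintype_card,
          hcast _ hN.1]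
        decide
      have htrace : B.trace = 1 := by
        have hdiag : ∀ a : P, ¬ R a a := fun a h => hRne a a h rfl
        simp only [Matrix.trace, Matrix.diag, B, Matrix.of_apply, hdiag, if_false, add_zero]
        rw [Finset.sum_const, nsmul_one, Finset.card_univ, ← Nat.card_eq_fintype_card, hcast _ hN.1]
      have h1 := (Matrix.isNilpotent_trace_of_isNilpotent (M := B) ⟨2, by rw [sq, hB]⟩).eq_zero
      rw [htrace] at h1
      exact one_ne_zero h1
  · -- the relation is a tournament: there are no involutions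
    push Not at hsym
    obtain ⟨r, s, hrs, hsr⟩ := hsym
    have hasym : ∀ a b : P, R a b → ¬ R b a := by
      intro a b hab hba
      obtain ⟨f, hf, hfa⟩ := htr _ a.2 _ r.2
      obtain ⟨g, hgF, hg, -⟩ := hP.exists_cycle _ r.2
      have hfb : (mapPair f (b : Subgroup V × Subgroup V)).1 ≤ (r : Subgroup V × Subgroup V).2 :=
        hfa ▸ (hmapR f _ _).2 hab
      obtain ⟨n, hn⟩ := IsPieceFamily.inside_orbit hP r.2 hgF hg (hP.map_mem f hf _ b.2) hfb s.2 hrs
      apply hsr
      have h1 := (hmapR (g ^ n * f) (b : Subgroup V × Subgroup V) a).2 hba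
      rw [mapPair_mul, mapPair_mul, hn, hfa, IsPieceFamily.mapPair_pow_self hg n] at h1
      exact h1
    have htot : ∀ a b : P, a ≠ b → ¬ R a b → R b a := by
      intro a b hab hnab
      obtain ⟨f, hf, hfa⟩ := htr _ a.2 _ s.2
      obtain ⟨g, hgF, hg, -⟩ := hP.exists_cycle _ s.2
      have hfb : ¬ (mapPair f (b : Subgroup V × Subgroup V)).1 ≤ (s : Subgroup V × Subgroup V).2 := by
        rw [← hfa, hmapR]; exact hnab
      have hne : mapPair f (b : Subgroup V × Subgroup V) ≠ s := by
        rw [← hfa]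
        intro h
        apply hab
        have := congrArg (mapPair f⁻¹) h
        rw [← mapPair_mul, ← mapPair_mul, inv_mul_cancel, mapPair_one, mapPair_one] at this
        exact Subtype.ext this.symm
      have hrne : (r : Subgroup V × Subgroup V) ≠ s := fun h => hRne r s hrs (Subtype.ext h).symm
      obtain ⟨n, hn⟩ := IsPieceFamily.free_orbit hP s.2 hgF hg (hP.map_mem f hf _ b.2) hne hfb
        (card_fst_eq hP htr (hP.map_mem f hf _ b.2) s.2) r.2 hrne hsr
      have h1 : (mapPair (g ^ n * f) (a : Subgroup V × Subgroup V)).1 ≤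
          (mapPair (g ^ n * f) (b : Subgroup V × Subgroup V)).2 := by
        rw [mapPair_mul, mapPair_mul, hn, hfa, IsPieceFamily.mapPair_pow_self hg n]
        exact hrs
      exact (hmapR _ _ _).1 h1
    -- counting the ordered pairs gives `|U| = 2`
    have hcount : Nat.card P * (Nat.card P - 1) = 2 * ∑ a : P, Nat.card {b : P // R a b} := by
      have hone : ∀ a b : P, ((if R a b then 1 else 0) + if R b a then 1 else 0) = if a = b then 0 else 1 := by
        intro a b
        by_cases hab : a = b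
        · subst hab
          have hd : ¬ R a a := fun h => hRne a a h rfl
          simp [hd]
        · by_cases h1 : R a b
          · simp [h1, hasym a b h1, hab]
          · simp [h1, htot a b hab h1, hab]
      have hdeg : ∀ a : P, Nat.card {b : P // R a b} = ∑ b : P, if R a b then 1 else 0 := by
        intro a
        rw [Finset.sum_boole, Nat.card_eq_fintype_card, Fintype.card_subtype, Nat.cast_id]
      have hkey : ∑ a : P, ∑ b : P, (if a = b then 0 else 1) = Nat.card P * (Nat.card P - 1) := by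
        have : ∀ a : P, ∑ b : P, (if a = b then 0 else 1) = Nat.card P - 1 := by
          intro a
          rw [Finset.sum_ite, Finset.sum_const_zero, zero_add, Finset.sum_const, smul_eq_mul, mul_one,
            Nat.card_eq_fintype_card]
          rw [show (Finset.univ.filter fun b : P => ¬ a = b) = Finset.univ.erase a by ext b; simp [eq_comm],
            Finset.card_erase_of_mem (Finset.mem_univ a), Finset.card_univ]
        rw [Finset.sum_congr rfl (fun a _ => this a), Finset.sum_const, smul_eq_mul, Finset.card_univ,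
          Nat.card_eq_fintype_card]
      rw [← hkey, ← Finset.sum_congr rfl (fun a _ => Finset.sum_congr rfl fun b _ => hone a b)]
      simp only [Finset.sum_add_distrib, hdeg, two_mul]
      rw [Finset.sum_comm (f := fun a b => if R b a then 1 else 0)]
    have hq : Nat.card p.1 = 2 := by
      have hk : (∑ a : P, Nat.card {b : P // R a b}) * (Nat.card p.1 - 1) = Nat.card P * (Nat.card p.2 - 1) := by
        rw [Finset.sum_mul, Finset.sum_congr rfl (fun a _ => (hout a).1), Finset.sum_const, smul_eq_mul,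
          Finset.card_univ, ← Nat.card_eq_fintype_card]
      have h1 : Nat.card P * ((Nat.card P - 1) * (Nat.card p.1 - 1)) = Nat.card P * (2 * (Nat.card p.2 - 1)) := by
        rw [← mul_assoc, hcount, mul_assoc, hk]; ring
      have hpos : 0 < Nat.card P := Nat.card_pos_iff.2 ⟨⟨⟨p, hp⟩⟩, inferInstance⟩
      have h3 := Nat.eq_of_mul_eq_mul_left hpos h1
      have h5 := hN.2
      rw [← card_mul_eq (hP.isCompl p hp)] at h5
      have hu : 2 ≤ Nat.card p.1 := (Subgroup.one_lt_card_iff_ne_bot _).2 (hP.ne_bot p hp)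
      have hw : 2 ≤ Nat.card p.2 := (Subgroup.one_lt_card_iff_ne_bot _).2 (hP.snd_ne_bot hp)
      obtain ⟨u, hu'⟩ := Nat.exists_eq_add_of_le hu
      obtain ⟨w, hw'⟩ := Nat.exists_eq_add_of_le hw
      obtain ⟨n, hn'⟩ := Nat.exists_eq_add_of_le (Nat.one_le_iff_ne_zero.2 hpos.ne')
      rw [hu', hw', hn'] at h5
      rw [hu', hw', hn', Nat.add_sub_cancel_left, show 2 + u - 1 = u + 1 by omega,
        show 2 + w - 1 = w + 1 by omega] at h3
      rw [show 2 + u - 1 = u + 1 by omega] at h5
      have h7 : (1 + n) * (u + 1) + 1 = (2 + u) * (2 + w) := by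
        have h8 : 4 ≤ (2 + u) * (2 + w) := le_trans (by norm_num) (Nat.mul_le_mul (Nat.le_add_right 2 u) (Nat.le_add_right 2 w))
        omega
      have h9 : u * (w + 1) = 0 := by nlinarith
      rcases Nat.mul_eq_zero.1 h9 with h | h <;> omega
    refine ⟨⊤, inferInstance, ?_, fun f => ⟨0, mem_top _⟩⟩
    rw [← Nat.not_even_iff_odd, even_iff_two_dvd, card_top]
    intro h3
    obtain ⟨t, ht⟩ := exists_prime_orderOf_dvd_card' (G := F) 2 h3
    have ht1 : (t : MulAut V) ≠ 1 := fun h => by
      rw [show t = 1 from Subtype.ext h, orderOf_one] at ht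
      exact absurd ht (by norm_num)
    obtain ⟨x, hx⟩ : ∃ x : V, (t : MulAut V) x ≠ x := by
      by_contra hno
      push Not at hno
      exact ht1 (MulEquiv.ext hno)
    have hx1 : x ≠ 1 := fun h => hx (by rw [h, map_one])
    obtain ⟨a, ha, hxa⟩ := hcov x hx1
    let b : P := ⟨mapPair (t : MulAut V) a, hP.map_mem _ t.2 a ha⟩
    have hab : (⟨a, ha⟩ : P) ≠ b := by
      intro h
      have hmem : (t : MulAut V) x ∈ a.1 :=
        (congrArg (fun z : P => (z : Subgroup V × Subgroup V).1) h).symm.le (mem_map_auto hxa)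
      have hc : Nat.card a.1 = 2 := (card_fst_eq hP htr ha hp).trans hq
      obtain ⟨y, hy, huniq⟩ := (Nat.card_eq_two_iff' (1 : a.1)).1 hc
      have e1 := huniq ⟨x, hxa⟩ (fun h => hx1 (congrArg Subtype.val h))
      have e2 := huniq ⟨_, hmem⟩ (fun h => hx1 ((t : MulAut V).injective ((congrArg Subtype.val h).trans (map_one _).symm)))
      exact hx (congrArg Subtype.val (e2.trans e1.symm))
    have htt : (t : MulAut V) * (t : MulAut V) = 1 := by
      have := pow_orderOf_eq_one t
      rw [ht, sq] at this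
      exact congrArg Subtype.val this
    have hba : mapPair (t : MulAut V) (b : Subgroup V × Subgroup V) = a := by
      show mapPair (t : MulAut V) (mapPair (t : MulAut V) a) = a
      rw [← mapPair_mul, htt, mapPair_one]
    have hiff : R ⟨a, ha⟩ b ↔ R b ⟨a, ha⟩ := by
      have := hmapR (t : MulAut V) a (b : Subgroup V × Subgroup V)
      rw [hba] at this
      exact this.symm
    by_cases h : R ⟨a, ha⟩ b
    · exact hasym _ _ h (hiff.1 h)
    · exact h (hiff.2 (htot _ _ hab h))

end Spread

/-- **A big piece forces a normal 2-complement.** -/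
theorem hasTwoComplement_of_pieceFamily {F : Subgroup (MulAut V)} {P : Set (Subgroup V × Subgroup V)}
    (hP : IsPieceFamily F P) (hne : P.Nonempty) (hirr : IsIrred F) (h2 : ∀ x : V, x ^ 2 = 1) :
    HasTwoComplement F := by
  obtain ⟨p, hp⟩ := hne
  obtain ⟨hP0, htr, hp0⟩ := hP.orbit hp
  rcases two_or_spread hP0 htr hirr hp0 with ⟨q, hq, hqp, h1, h3, hall⟩ | ⟨hcov, hfree⟩
  · exact two_block_complement hP0 h2 hp0 hq hqp h3.symm h1 hall
  · exact spread_complement hP0 htr h2 hcov hfree hp0

end CfsgLib.Goldschmidt
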