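import Cfsg.Agent.Lib.Goldschmidt.Defs
import Cfsg.Agent.Lib.PCore.Basic
import Cfsg.Agent.S1249

/-!
# The image of `A` in the reduced centralizer of an element centralising `A`

For `A ≤ C(x)` strongly closed in a Sylow 2-subgroup of `G`, its image in `CenBar x = C(x)/O(C(x))` is
strongly closed in a Sylow 2-subgroup and isomorphic to `A`.
-/

set_option autoImplicit false

namespace CfsgLib.Goldschmidt

open Subgroup CfsgLib.Walter.RankFour

universe u

variable {G : Type u} [Group G] [Finite G]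

local instance : Fact (Nat.Prime 2) := ⟨Nat.prime_two⟩

/-- `CenBar x` is core-free. -/
theorem cenBar_core (x : G) : Cfsg.pPrimeCore 2 (CenBar x) = ⊥ :=
  CfsgLib.PCore.pPrimeCore_quotient_pPrimeCore

/-- A 2-element of the core of a centralizer is trivial. -/
theorem eq_one_of_bar_eq {x : G} {R : Subgroup G} (hR : IsPGroup 2 ↥R) {a : ↥(cen x)}
    (ha : (a : G) ∈ R) (h : bar x a = 1) : a = 1 := by
  have h1 : a ∈ R.subgroupOf (cen x) ⊓ Cfsg.pPrimeCore 2 ↥(cen x) :=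
    ⟨ha, (QuotientGroup.eq_one_iff a).1 h⟩
  have h2 : R.subgroupOf (cen x) ⊓ Cfsg.pPrimeCore 2 ↥(cen x) = ⊥ :=
    CfsgLib.PCore.inf_eq_bot_of_isPGroup_coprime (hR.comap_of_injective _ (subtype_injective _))
      CfsgLib.PCore.pPrimeCore_coprime
  rwa [h2, mem_bot] at h1

/-- The projection to `CenBar x` is injective on 2-subgroups. -/
theorem bar_inj_two {x : G} {R : Subgroup G} (hR : IsPGroup 2 ↥R) {a b : ↥(cen x)}
    (ha : (a : G) ∈ R) (hb : (b : G) ∈ R) (h : bar x a = bar x b) : a = b := by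
  have := eq_one_of_bar_eq hR (a := a * b⁻¹) (mul_mem ha (inv_mem hb))
    (by rw [map_mul, map_inv, h, mul_inv_cancel])
  exact mul_inv_eq_one.1 this

theorem mem_img {x : G} {X : Subgroup G} {y : CenBar x} :
    y ∈ img x X ↔ ∃ a ∈ X, ∃ h : a ∈ cen x, bar x ⟨a, h⟩ = y := by
  constructor
  · rintro ⟨⟨a, ha⟩, haX, rfl⟩
    exact ⟨a, haX, ha, rfl⟩
  · rintro ⟨a, haX, h, rfl⟩
    exact ⟨⟨a, h⟩, haX, rfl⟩

theorem bar_mem_img {x : G} {X : Subgroup G} {a : G} (ha : a ∈ X) (h : a ∈ cen x) :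
    bar x ⟨a, h⟩ ∈ img x X := mem_img.2 ⟨a, ha, h, rfl⟩

/-- The image of a 2-subgroup has the same order. -/
theorem card_img {x : G} {X : Subgroup G} (hX : IsPGroup 2 ↥X) (hXc : X ≤ cen x) :
    Nat.card ↥(img x X) = Nat.card ↥X := by
  refine (Nat.card_congr (Equiv.ofBijective
    (fun a : X => (⟨bar x ⟨a, hXc a.2⟩, bar_mem_img a.2 _⟩ : ↥(img x X))) ⟨fun a b h => ?_, ?_⟩)).symm
  · exact Subtype.ext (congrArg Subtype.val
      (bar_inj_two hX (a := ⟨a, hXc a.2⟩) (b := ⟨b, hXc b.2⟩) a.2 b.2 (congrArg Subtype.val h)) :)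
  · rintro ⟨y, hy⟩
    obtain ⟨a, ha, h, rfl⟩ := mem_img.1 hy
    exact ⟨⟨a, ha⟩, rfl⟩

theorem img_isMulCommutative {x : G} {X : Subgroup G} (hX : IsMulCommutative ↥X) :
    IsMulCommutative ↥(img x X) := by
  refine ⟨⟨fun a b => Subtype.ext ?_⟩⟩
  obtain ⟨c, hc, h1, hac⟩ := mem_img.1 a.2
  obtain ⟨d, hd, h2, hbd⟩ := mem_img.1 b.2
  show (a : CenBar x) * b = b * a
  rw [← hac, ← hbd, ← map_mul, ← map_mul]
  refine congrArg _ (Subtype.ext ?_)
  show c * d = d * c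
  exact congrArg Subtype.val (hX.1.comm (⟨c, hc⟩ : X) ⟨d, hd⟩)

theorem img_isElementary {x : G} {X : Subgroup G} (hX : Cfsg.IsElementaryAbelian 2 X) :
    Cfsg.IsElementaryAbelian 2 (img x X) := by
  refine ⟨img_isMulCommutative hX.1, fun a ha => ?_⟩
  obtain ⟨c, hc, h1, rfl⟩ := mem_img.1 ha
  rw [← map_pow, ← map_one (bar x)]
  exact congrArg _ (Subtype.ext (hX.2 c hc))

/-- `A` stays strongly closed in a Sylow 2-subgroup of `CenBar x` that is the image of a Sylow 2-subgroup of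
`G` containing any prescribed 2-subgroup `R ≥ A` of `C(x)`. -/
theorem exists_sylow_cen {x : G} {A : Subgroup G} (S : Sylow 2 G)
    (hsc : Cfsg.IsStronglyClosed A (S : Subgroup G)) {R : Subgroup G} (hR : IsPGroup 2 ↥R)
    (hRc : R ≤ cen x) (hAR : A ≤ R) :
    ∃ (P : Sylow 2 G) (T : Sylow 2 (CenBar x)), R ≤ (P : Subgroup G) ∧
      Cfsg.IsStronglyClosed A (P : Subgroup G) ∧ (T : Subgroup (CenBar x)) = img x (P : Subgroup G) ∧
      Cfsg.IsStronglyClosed (img x A) (T : Subgroup (CenBar x)) := by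
  obtain ⟨Q, hQ⟩ := (hR.comap_of_injective (cen x).subtype (subtype_injective _)).exists_le_sylow
  obtain ⟨P, hP⟩ := (Q.2.map (cen x).subtype).exists_le_sylow
  have hRP : R ≤ (P : Subgroup G) := fun r hr => hP ⟨⟨r, hRc hr⟩, hQ hr, rfl⟩
  have hscP : Cfsg.IsStronglyClosed A (P : Subgroup G) := Cfsg.Agent.S1249.result S P A (hAR.trans hRP) hsc
  have hQP : (Q : Subgroup ↥(cen x)) = (P : Subgroup G).subgroupOf (cen x) :=
    (Q.3 (P.2.comap_of_injective _ (subtype_injective _)) fun y hy => hP ⟨y, hy, rfl⟩).symm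
  have himg : ((Q.mapSurjective (QuotientGroup.mk'_surjective (Cfsg.pPrimeCore 2 ↥(cen x)))) :
      Subgroup (CenBar x)) = img x (P : Subgroup G) := by
    rw [Sylow.coe_mapSurjective, hQP]
    rfl
  refine ⟨P, Q.mapSurjective (QuotientGroup.mk'_surjective _), hRP, hscP, himg, ?_, ?_⟩
  · rw [himg]
    exact Subgroup.map_mono fun y hy => hscP.1 hy
  intro y hy h hh
  rw [himg] at hh
  obtain ⟨a, ha, hac, rfl⟩ := mem_img.1 hy
  obtain ⟨k, rfl⟩ := QuotientGroup.mk'_surjective _ h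
  set v : ↥(cen x) := k * ⟨a, hac⟩ * k⁻¹ with hv
  have hh' : bar x v ∈ img x (P : Subgroup G) := by
    rw [hv, map_mul, map_mul, map_inv]; exact hh
  show bar x k * bar x ⟨a, hac⟩ * (bar x k)⁻¹ ∈ img x A
  rw [← map_inv, ← map_mul, ← map_mul, ← hv]
  -- a 2-element over the image of `Q` is conjugate into `Q` by the core
  let N : Subgroup ↥(cen x) := (img x (P : Subgroup G)).comap (bar x)
  have hQN : (Q : Subgroup ↥(cen x)) ≤ N := fun q hq => by
    show bar x q ∈ img x (P : Subgroup G)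
    exact ⟨q, by rwa [hQP] at hq, rfl⟩
  have hvN : v ∈ N := hh'
  have hv2 : IsPGroup 2 ↥(zpowers (⟨v, hvN⟩ : N)) := by
    have h1 : IsPGroup 2 ↥(zpowers a) :=
      P.2.to_le (zpowers_le.2 (hscP.1 ha))
    obtain ⟨n, hn⟩ := IsPGroup.iff_card.1 h1
    refine IsPGroup.of_card (n := n) ?_
    rw [Nat.card_zpowers] at hn ⊢
    rw [← hn, Subgroup.orderOf_mk, hv, ← MulAut.conj_apply, MulEquiv.orderOf_eq, Subgroup.orderOf_mk]
  obtain ⟨Q', hQ'⟩ := hv2.exists_le_sylow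
  obtain ⟨o, ho⟩ := MulAction.exists_smul_eq N Q' (Q.subtype hQN)
  -- `o` may be taken in the core
  obtain ⟨q, hq, hqo⟩ : ∃ q ∈ (Q : Subgroup ↥(cen x)), bar x (q⁻¹ * (o : ↥(cen x))) = 1 := by
    obtain ⟨q, hq, hqe⟩ := (o.2 : bar x (o : ↥(cen x)) ∈ img x (P : Subgroup G))
    refine ⟨q, by rw [hQP]; exact hq, ?_⟩
    rw [map_mul, map_inv, hqe, inv_mul_cancel]
  have hov : (o : ↥(cen x)) * v * (o : ↥(cen x))⁻¹ ∈ (Q : Subgroup ↥(cen x)) := by
    have h1 : MulAut.conj o ⟨v, hvN⟩ ∈ ((Q.subtype hQN : Sylow 2 N) : Subgroup N) := by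
      rw [← ho]
      exact Subgroup.smul_mem_pointwise_smul _ (MulAut.conj o) _ (hQ' (mem_zpowers _))
    simpa [Sylow.coe_subtype, Subgroup.mem_subgroupOf] using h1
  set c : ↥(cen x) := q⁻¹ * (o : ↥(cen x)) with hc
  have hcv : c * v * c⁻¹ ∈ (Q : Subgroup ↥(cen x)) := by
    rw [show c * v * c⁻¹ = q⁻¹ * ((o : ↥(cen x)) * v * (o : ↥(cen x))⁻¹) * q by rw [hc]; group]
    exact mul_mem (mul_mem (inv_mem hq) hov) hq
  rw [hQP, mem_subgroupOf] at hcv
  have hmem : ((c * v * c⁻¹ : ↥(cen x)) : G) ∈ A := by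
    have e : ((c * v * c⁻¹ : ↥(cen x)) : G) = ((c * k : ↥(cen x)) : G) * a * ((c * k : ↥(cen x)) : G)⁻¹ := by
      rw [hv]; simp only [Subgroup.coe_mul, Subgroup.coe_inv]; group
    rw [e] at hcv ⊢
    exact hscP.2 a ha _ hcv
  refine mem_img.2 ⟨_, hmem, (c * v * c⁻¹).2, ?_⟩
  show bar x (c * v * c⁻¹) = bar x v
  rw [map_mul, map_mul, map_inv, show bar x c = 1 from hqo, one_mul, inv_one, mul_one]

namespace Setting

variable (E : Setting G)

theorem isPGroup_A : IsPGroup 2 ↥E.A := E.S.2.to_le E.sc.1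

theorem comm_A : IsMulCommutative ↥E.A := E.elem.1

theorem commute_A {a b : G} (ha : a ∈ E.A) (hb : b ∈ E.A) : a * b = b * a :=
  congrArg Subtype.val (E.elem.1.1.comm (⟨a, ha⟩ : E.A) ⟨b, hb⟩)

theorem le_cen {u : G} (hu : u ∈ E.A) : E.A ≤ cen u :=
  fun a ha => mem_centralizer_singleton_iff.2 (E.commute_A ha hu)

/-- The standard local situation at `x ∈ C(A)`. -/
theorem exists_local {x : G} (hx : E.A ≤ cen x) :
    ∃ (P : Sylow 2 G) (T : Sylow 2 (CenBar x)), Cfsg.IsStronglyClosed E.A (P : Subgroup G) ∧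
      (T : Subgroup (CenBar x)) = img x (P : Subgroup G) ∧
      Cfsg.IsStronglyClosed (img x E.A) (T : Subgroup (CenBar x)) := by
  obtain ⟨P, T, -, h1, h2, h3⟩ := exists_sylow_cen E.S E.sc E.isPGroup_A hx le_rfl
  exact ⟨P, T, h1, h2, h3⟩

end Setting

end CfsgLib.Goldschmidt
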