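import Mathlib
import Cfsg.Agent.Lib.Goldschmidt.Centralizer
import Cfsg.Agent.Lib.Goldschmidt.BigPiece
import Cfsg.Agent.Lib.ProductFusion.Main
import Cfsg.Agent.Lib.ThreeFree.ClosedSubgroup
import Cfsg.Agent.Lib.Involutions.BrauerSuzuki
import Cfsg.Agent.Lib.Components.Basic
import Cfsg.Agent.S2791
import Cfsg.Agent.S1249

/-!
# A minimal strongly closed elementary subgroup: first facts

Fusion in `S` is induced by `N(A)`.  Hence a minimal elementary strongly closed `A` gives a `Setting`, its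
order is at least four, a normal 2-complement of its automizer forces `S ≤ C(A)`, and an element of `C_S(A)`
centralising every component moved by `A` is trivial.
-/

set_option autoImplicit false
set_option linter.unusedSectionVars false
set_option linter.style.haveILetI false

namespace CfsgLib.Goldschmidt

open Subgroup CfsgLib.Walter.RankFour
open scoped commutatorElement

universe u

local instance : Fact (Nat.Prime 2) := ⟨Nat.prime_two⟩

variable {G : Type u} [Group G] [Finite G]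

theorem sc_le_normalizer {A : Subgroup G} {P : Subgroup G} (h : Cfsg.IsStronglyClosed A P) :
    P ≤ normalizer (A : Set G) := by
  refine le_normalizer_iff.2 fun n hn a ha => h.2 a ha n ?_
  exact mul_mem (mul_mem hn (h.1 ha)) (inv_mem hn)

/-- The normaliser of an abelian strongly closed subgroup of `S` controls the fusion of sets in `S`. -/
theorem exists_normalizer_fusion (S : Sylow 2 G) {A : Subgroup G} (hA : IsMulCommutative ↥A)
    (hsc : Cfsg.IsStronglyClosed A (S : Subgroup G)) {B : Set G} (hB : B ⊆ (S : Subgroup G)) {g : G}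
    (hg : ∀ b ∈ B, g * b * g⁻¹ ∈ (S : Subgroup G)) :
    ∃ n ∈ normalizer (A : Set G), ∀ b ∈ B, g * b * g⁻¹ = n * b * n⁻¹ := by
  obtain ⟨T, hAT, hT⟩ := Cfsg.Agent.S2791.result S A hA hsc
  have hTN := sc_le_normalizer (Cfsg.Agent.S1249.result S T A hAT hsc)
  obtain ⟨⟨k, hkN⟩, hk⟩ := MulAction.exists_smul_eq ↥(normalizer (A : Set G)) (S.subtype (sc_le_normalizer hsc))
    (T.subtype hTN)
  have hkT : ∀ b ∈ (S : Subgroup G), k * b * k⁻¹ ∈ (T : Subgroup G) := by
    intro b hb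
    have h1 : MulAut.conj (⟨k, hkN⟩ : ↥(normalizer (A : Set G))) ⟨b, sc_le_normalizer hsc hb⟩ ∈
        ((T.subtype hTN : Sylow 2 _) : Subgroup ↥(normalizer (A : Set G))) := by
      rw [← hk]
      exact Subgroup.smul_mem_pointwise_smul _ (MulAut.conj (⟨k, hkN⟩ : ↥(normalizer (A : Set G)))) _
        (show (⟨b, _⟩ : ↥(normalizer (A : Set G))) ∈ (S.subtype (sc_le_normalizer hsc) : Subgroup _) from hb)
    simpa [Sylow.coe_subtype, Subgroup.mem_subgroupOf] using h1
  obtain ⟨-, hfus⟩ := hT ((fun b => k * b * k⁻¹) '' B) (by rintro _ ⟨b, hb, rfl⟩; exact hkT b (hB hb))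
  obtain ⟨x, hx, he⟩ := hfus (k * g * k⁻¹) (by
    rintro _ ⟨_, ⟨b, hb, rfl⟩, rfl⟩
    show k * g * k⁻¹ * (k * b * k⁻¹) * (k * g * k⁻¹)⁻¹ ∈ (T : Subgroup G)
    rw [show k * g * k⁻¹ * (k * b * k⁻¹) * (k * g * k⁻¹)⁻¹ = k * (g * b * g⁻¹) * k⁻¹ by group]
    exact hkT _ (hg b hb))
  refine ⟨k⁻¹ * x * k, mul_mem (mul_mem (inv_mem hkN) hx) hkN, fun b hb => ?_⟩
  have := he _ ⟨b, hb, rfl⟩
  calc g * b * g⁻¹ = k⁻¹ * (k * g * k⁻¹ * (k * b * k⁻¹) * (k * g * k⁻¹)⁻¹) * k := by group
    _ = _ := by rw [this]; group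

/-- Invariant subgroups are strongly closed. -/
theorem sc_of_invariant (S : Sylow 2 G) {A V : Subgroup G} (hA : IsMulCommutative ↥A)
    (hsc : Cfsg.IsStronglyClosed A (S : Subgroup G)) (hV : V ≤ (S : Subgroup G))
    (hN : normalizer (A : Set G) ≤ normalizer (V : Set G)) :
    Cfsg.IsStronglyClosed V (S : Subgroup G) := by
  refine ⟨hV, fun x hx g hg => ?_⟩
  obtain ⟨n, hn, he⟩ := exists_normalizer_fusion S hA hsc (B := {x})
    (Set.singleton_subset_iff.2 (hV hx)) (g := g) (by simpa using hg)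
  rw [he x rfl]
  exact (mem_normalizer_iff.1 (hN hn) x).1 hx

theorem isPGroup_ne_bot_exists_invol {A : Subgroup G} (hp : IsPGroup 2 ↥A) (hA : A ≠ ⊥) :
    ∃ a ∈ A, a ≠ 1 ∧ a ^ 2 = 1 := by
  haveI : Nontrivial ↥A := (Subgroup.nontrivial_iff_ne_bot A).2 hA
  obtain ⟨n, hn, hc⟩ := hp.nontrivial_iff_card.1 inferInstance
  obtain ⟨a, ha⟩ := exists_prime_orderOf_dvd_card' (G := ↥A) 2 (hc ▸ dvd_pow_self 2 hn.ne')
  refine ⟨a, a.2, fun e => ?_, ?_⟩
  · rw [show a = 1 from Subtype.ext e, orderOf_one] at ha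
    exact absurd ha (by norm_num)
  · rw [← Subgroup.coe_pow, ← ha, pow_orderOf_eq_one, Subgroup.coe_one]

/-- A minimal elementary strongly closed subgroup gives a setting. -/
theorem exists_setting (S : Sylow 2 G) {A : Subgroup G} (hA : A ≠ ⊥) (hAc : IsMulCommutative ↥A)
    (hsc : Cfsg.IsStronglyClosed A (S : Subgroup G))
    (hgood : ∀ A' : Subgroup G, Cfsg.IsElementaryAbelian 2 A' →
      Cfsg.IsStronglyClosed A' (S : Subgroup G) → A' ≠ ⊥ → ∀ x : G, orderOf x = 2 → x ∈ (S : Subgroup G) →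
      x ∈ centralizer (A' : Set G) → GoodComps (img x A')) : Nonempty (Setting G) := by
  classical
  let O₁ : Subgroup G :=
    { carrier := {x | x ∈ A ∧ x ^ 2 = 1}
      one_mem' := ⟨one_mem A, one_pow 2⟩
      mul_mem' := fun {a b} ha hb => ⟨mul_mem ha.1 hb.1, by
        rw [(show Commute a b from congrArg Subtype.val (hAc.1.comm (⟨a, ha.1⟩ : A) ⟨b, hb.1⟩)).mul_pow,
          ha.2, hb.2, one_mul]⟩
      inv_mem' := fun {a} ha => ⟨inv_mem ha.1, by rw [inv_pow, ha.2, inv_one]⟩ }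
  have hO : Cfsg.IsElementaryAbelian 2 O₁ ∧ Cfsg.IsStronglyClosed O₁ (S : Subgroup G) ∧ O₁ ≠ ⊥ := by
    refine ⟨⟨⟨⟨fun a b => Subtype.ext
      (congrArg Subtype.val (hAc.1.comm (⟨a, a.2.1⟩ : A) ⟨b, b.2.1⟩) :)⟩⟩, fun a ha => ha.2⟩,
      ⟨fun a ha => hsc.1 ha.1, fun x hx g hg => ⟨hsc.2 x hx.1 g hg, by rw [conj_pow, hx.2, mul_one, mul_inv_cancel]⟩⟩, ?_⟩
    obtain ⟨a, ha, ha1, ha2⟩ := isPGroup_ne_bot_exists_invol (S.2.to_le hsc.1) hA
    intro e
    have : a ∈ O₁ := ⟨ha, ha2⟩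
    rw [e, mem_bot] at this
    exact ha1 this
  obtain ⟨A₀, hA₀⟩ := (Set.toFinite {A' : Subgroup G | Cfsg.IsElementaryAbelian 2 A' ∧
    Cfsg.IsStronglyClosed A' (S : Subgroup G) ∧ A' ≠ ⊥}).exists_minimal ⟨O₁, hO⟩
  obtain ⟨h1, h2, h3⟩ := hA₀.1
  refine ⟨⟨S, A₀, h3, h1, h2, fun V hV hN => ?_, fun x hx hxS hxA => hgood A₀ h1 h2 h3 x hx hxS hxA⟩⟩
  by_contra hne
  push Not at hne
  have hVel : Cfsg.IsElementaryAbelian 2 V :=
    ⟨⟨⟨fun a b => Subtype.ext (congrArg Subtype.val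
      (h1.1.1.comm (⟨a, hV a.2⟩ : A₀) ⟨b, hV b.2⟩) :)⟩⟩, fun a ha => h1.2 a (hV ha)⟩
  exact hne.2 (le_antisymm hV (hA₀.2 ⟨hVel, sc_of_invariant S h1.1 h2 (hV.trans h2.1) hN, hne.1⟩ hV))

/-- A non-abelian simple group has trivial centre. -/
theorem center_bot_of_simple_noncomm [IsSimpleGroup G] (hnc : ¬ IsMulCommutative G) :
    Subgroup.center G = ⊥ :=
  (inferInstance : (Subgroup.center G).Normal).eq_bot_or_eq_top.resolve_right fun e =>
    hnc ⟨⟨fun a b => Subgroup.mem_center_iff.1 (e ▸ mem_top b) a⟩⟩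

namespace Setting

variable (E : Setting G)

theorem pow_two_A {a : G} (ha : a ∈ E.A) : a ^ 2 = 1 := E.elem.2 a ha

theorem S_le_normalizer : (E.S : Subgroup G) ≤ normalizer (E.A : Set G) := sc_le_normalizer E.sc

/-- `Z*` excludes order two. -/
theorem four_le_card [IsSimpleGroup G] (hnc : ¬ IsMulCommutative G) : 4 ≤ Nat.card ↥E.A := by
  haveI : Nontrivial ↥E.A := (Subgroup.nontrivial_iff_ne_bot _).2 E.ne_bot
  obtain ⟨n, hn, hc⟩ := E.isPGroup_A.nontrivial_iff_card.1 inferInstance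
  rcases Nat.lt_or_ge n 2 with hlt | hge
  swap
  · calc 4 = 2 ^ 2 := rfl
      _ ≤ 2 ^ n := Nat.pow_le_pow_right (by norm_num) hge
      _ = _ := hc.symm
  exfalso
  obtain ⟨a, ha⟩ := Subgroup.ne_bot_iff_exists_ne_one.1 E.ne_bot
  have hc2 : Nat.card ↥E.A = 2 := by rw [hc, show n = 1 by omega, pow_one]
  have huniq : ∀ b ∈ E.A, b ≠ 1 → b = (a : G) := by
    intro b hb hb1
    obtain ⟨y, -, hy⟩ := (Nat.card_eq_two_iff' (1 : ↥E.A)).1 hc2
    exact congrArg Subtype.val ((hy ⟨b, hb⟩ fun e => hb1 (congrArg Subtype.val e)).trans (hy a ha).symm)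
  have ha1 : (a : G) ≠ 1 := fun e => ha (Subtype.ext e)
  have ha2 : (a : G) ^ 2 = 1 := E.pow_two_A a.2
  have hiso : Cfsg.IsIsolatedInvolution (a : G) := by
    refine ⟨orderOf_eq_prime ha2 ha1, fun g hcm => ?_⟩
    set b := g * (a : G) * g⁻¹ with hb
    have hb2 : b ^ 2 = 1 := by rw [hb, conj_pow, ha2, mul_one, mul_inv_cancel]
    have hzb : IsPGroup 2 (zpowers b) := by
      intro y
      refine ⟨1, Subtype.ext ?_⟩
      obtain ⟨i, hi⟩ := mem_zpowers_iff.1 y.2
      show (y : G) ^ (2 ^ 1) = 1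
      rw [← hi, pow_one, ← zpow_natCast, ← zpow_mul, mul_comm, zpow_mul, zpow_natCast, hb2, one_zpow]
    have hsup : IsPGroup 2 (E.A ⊔ zpowers b : Subgroup G) := by
      refine E.isPGroup_A.to_sup_of_normal_left' hzb (zpowers_le.2 ?_)
      refine centralizer_le_normalizer _ (mem_centralizer_iff.2 fun c hc => ?_)
      by_cases h : c = 1
      · simp [h]
      · rw [huniq c hc h]; exact hcm.eq
    obtain ⟨P, hP⟩ := hsup.exists_le_sylow
    have hscP := Cfsg.Agent.S1249.result E.S P E.A (le_sup_left.trans hP) E.sc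
    refine huniq b (hscP.2 a a.2 g (hP (mem_sup_right (mem_zpowers b)))) fun e => ha1 ?_
    rwa [hb, conj_eq_one_iff] at e
  have hz := CfsgLib.Involutions.zstar G (a : G) hiso
  have hcen : (a : G) ∈ Subgroup.center G := by
    refine mem_center_iff.2 fun g => ?_
    have := hz g
    rw [CfsgLib.ThreeFree.pPrimeCore_eq_bot_of_simple (exists_not_comm_pair hnc), mem_bot,
      mul_inv_eq_one, mul_inv_eq_iff_eq_mul] at this
    exact this
  rw [center_bot_of_simple_noncomm hnc, mem_bot] at hcen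
  exact ha1 hcen
where
  exists_not_comm_pair {X : Type u} [Group X] (h : ¬ IsMulCommutative X) : ∃ a b : X, a * b ≠ b * a := by
    by_contra hno
    push Not at hno
    exact h ⟨⟨hno⟩⟩

/-- If the automizer of `A` has a normal subgroup of odd order and 2-power index, `S` centralises `A`. -/
theorem le_centralizer_of_twoComplement [IsSimpleGroup G] (hnc : ¬ IsMulCommutative G)
    (hF : ∃ K : Subgroup ↥E.aut, K.Normal ∧ Odd (Nat.card K) ∧ ∀ f : ↥E.aut, ∃ n : ℕ, f ^ (2 ^ n) ∈ K) :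
    (E.S : Subgroup G) ≤ centralizer (E.A : Set G) := by
  obtain ⟨K, hK, hodd, hpow⟩ := hF
  haveI := hK
  let φ : ↥(normalizer (E.A : Set G)) →* ↥E.aut ⧸ K :=
    (QuotientGroup.mk' K).comp E.A.normalizerMonoidHom.rangeRestrict
  have hφ : Function.Surjective φ :=
    (QuotientGroup.mk'_surjective K).comp (MonoidHom.rangeRestrict_surjective _)
  have hp : IsPGroup 2 (↥E.aut ⧸ K) := by
    intro y
    obtain ⟨f, rfl⟩ := QuotientGroup.mk'_surjective K y
    obtain ⟨n, hn⟩ := hpow f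
    exact ⟨n, by rw [← map_pow, QuotientGroup.mk'_apply, QuotientGroup.eq_one_iff]; exact hn⟩
  let ψ : ↥(E.S : Subgroup G) →* ↥E.aut ⧸ K := φ.comp (Subgroup.inclusion E.S_le_normalizer)
  have hψ : Function.Surjective ψ := by
    rw [← MonoidHom.range_eq_top]
    obtain ⟨n, hn⟩ := IsPGroup.iff_card.1 (hp.to_subgroup ⊤)
    have h1 : ψ.range.index ∣ ((E.S : Subgroup G).subgroupOf (normalizer (E.A : Set G))).index := by
      have : ψ.range = ((E.S : Subgroup G).subgroupOf (normalizer (E.A : Set G))).map φ := by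
        rw [MonoidHom.range_comp, Subgroup.inclusion_range]
      rw [this]
      exact index_map_dvd _ hφ
    have h2 : ¬ 2 ∣ ψ.range.index := fun h =>
      E.S.not_dvd_index ((h.trans h1).trans (relIndex_dvd_index_of_le E.S_le_normalizer))
    obtain ⟨m, hm⟩ := hp.index ψ.range
    rw [hm] at h2
    have hm0 : m = 0 := by
      by_contra hne
      exact h2 (dvd_pow_self 2 hne)
    rw [← index_eq_one, hm, hm0, pow_zero]
  have hperf : _root_.commutator G = ⊤ := by
    refine (inferInstance : (_root_.commutator G).Normal).eq_bot_or_eq_top.resolve_left fun e => hnc ⟨⟨fun a b => ?_⟩⟩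
    have : ⁅a, b⁆ ∈ _root_.commutator G := commutator_mem_commutator (mem_top a) (mem_top b)
    rw [e, mem_bot, commutatorElement_eq_one_iff_mul_comm] at this
    exact this
  -- every element of `S` maps into the commutator
  set C := _root_.commutator (↥E.aut ⧸ K) with hC
  have hker : ∀ s : ↥(E.S : Subgroup G), ψ s ∈ C := by
    intro s
    have hfoc : (E.S : Subgroup G).focalSubgroup ≤ (C.comap ψ).map (E.S : Subgroup G).subtype := by
      rw [focalSubgroup_def, closure_le]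
      rintro _ ⟨hg, x, hx, v, rfl⟩
      have hy : v * x⁻¹ * v⁻¹ ∈ (E.S : Subgroup G) := by
        have : x⁻¹ * ⁅x, v⁆ ∈ (E.S : Subgroup G) := mul_mem (inv_mem hx) hg
        rwa [show x⁻¹ * ⁅x, v⁆ = v * x⁻¹ * v⁻¹ by rw [commutatorElement_def]; group] at this
      obtain ⟨n, hn, he⟩ := exists_normalizer_fusion E.S E.comm_A E.sc (B := {x⁻¹})
        (Set.singleton_subset_iff.2 (inv_mem hx)) (g := v) (by simpa using hy)
      refine ⟨⟨_, hg⟩, ?_, rfl⟩
      show φ ⟨⁅x, v⁆, _⟩ ∈ C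
      have e : (⟨⁅x, v⁆, E.S_le_normalizer hg⟩ : ↥(normalizer (E.A : Set G))) =
          ⟨x, E.S_le_normalizer hx⟩ * ⟨n, hn⟩ * ⟨x, E.S_le_normalizer hx⟩⁻¹ * ⟨n, hn⟩⁻¹ := by
        refine Subtype.ext ?_
        show ⁅x, v⁆ = x * n * x⁻¹ * n⁻¹
        rw [commutatorElement_def, show x * v * x⁻¹ * v⁻¹ = x * (v * x⁻¹ * v⁻¹) by group, he _ rfl]
        group
      rw [e, map_mul, map_mul, map_mul, map_inv, map_inv, ← commutatorElement_def]
      exact commutator_mem_commutator (mem_top _) (mem_top _)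
    have hmem : (s : G) ∈ (E.S : Subgroup G).focalSubgroup := by
      rw [← commutator_inf_eq_focalSubgroup E.S, hperf, top_inf_eq]
      exact s.2
    obtain ⟨t, ht, hts⟩ := hfoc hmem
    rw [show s = t from Subtype.ext hts.symm]
    exact ht
  have htriv : ∀ y : ↥E.aut ⧸ K, y = 1 := by
    have hCtop : C = ⊤ := eq_top_iff.2 fun y _ => by
      obtain ⟨s, rfl⟩ := hψ y
      exact hker s
    haveI := hp.isNilpotent
    by_contra h
    push Not at h
    obtain ⟨y, hy⟩ := h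
    haveI : Nontrivial (↥E.aut ⧸ K) := ⟨⟨y, 1, hy⟩⟩
    exact Group.IsSolvable.commutator_lt_top_of_nontrivial (↥E.aut ⧸ K) |>.ne hCtop
  have hKtop : ∀ f : ↥E.aut, f ∈ K := fun f => (QuotientGroup.eq_one_iff f).1 (htriv _)
  intro s hs
  set f : ↥E.aut := E.A.normalizerMonoidHom.rangeRestrict ⟨s, E.S_le_normalizer hs⟩ with hf
  obtain ⟨k, hk⟩ := E.S.isPGroup' ⟨s, hs⟩
  have hs1 : s ^ 2 ^ k = 1 := congrArg Subtype.val hk
  have h2 : orderOf (⟨f, hKtop f⟩ : K) ∣ 2 ^ k :=
    orderOf_dvd_of_pow_eq_one (Subtype.ext (by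
      show f ^ 2 ^ k = 1
      have e : (⟨s, E.S_le_normalizer hs⟩ : ↥(normalizer (E.A : Set G))) ^ 2 ^ k = 1 := Subtype.ext hs1
      exact ((map_pow E.A.normalizerMonoidHom.rangeRestrict _ _).symm.trans
        ((congrArg _ e).trans (map_one _)) :)))
  obtain ⟨i, -, hi⟩ := (Nat.dvd_prime_pow Nat.prime_two).1 h2
  have hi0 : i = 0 := by
    by_contra hne
    have : 2 ∣ Nat.card K := (dvd_pow_self 2 hne).trans (hi ▸ orderOf_dvd_natCard _)
    exact (Nat.not_even_iff_odd.2 hodd) (even_iff_two_dvd.2 this)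
  rw [hi0, pow_zero, orderOf_eq_one_iff] at hi
  have hf1 : f = 1 := congrArg Subtype.val hi
  refine mem_centralizer_iff.2 fun a ha => ?_
  have := congrArg (fun m : ↥E.aut => (((m : MulAut ↥E.A) ⟨a, ha⟩ : ↥E.A) : G)) hf1
  simp [hf] at this
  exact (mul_inv_eq_iff_eq_mul.1 this).symm

/-- When `S` centralises `A` the automizer has odd order. -/
theorem odd_card_aut (h : (E.S : Subgroup G) ≤ centralizer (E.A : Set G)) : Odd (Nat.card ↥E.aut) := by
  have hle : (E.S : Subgroup G).subgroupOf (normalizer (E.A : Set G)) ≤ E.A.normalizerMonoidHom.ker := by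
    intro n hn
    rw [MonoidHom.mem_ker]
    refine MulEquiv.ext fun a => Subtype.ext ?_
    show (n : G) * a * (n : G)⁻¹ = a
    rw [← mem_centralizer_iff.1 (h (mem_subgroupOf.1 hn)) a a.2, mul_inv_cancel_right]
  have h1 : Nat.card ↥E.aut ∣ (E.S : Subgroup G).index := by
    unfold aut
    rw [← index_ker]
    exact (index_dvd_of_le hle).trans (relIndex_dvd_index_of_le E.S_le_normalizer)
  exact Nat.odd_iff.2 (Nat.two_dvd_ne_zero.1 fun h' => E.S.not_dvd_index (h'.trans h1))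

end Setting

/-- Conjugation as a map of centralizers. -/
noncomputable def cenConj {n w v : G} (h : n * w * n⁻¹ = v) : ↥(cen w) ≃* ↥(cen v) :=
  ((cen w).equivMapOfInjective (MulAut.conj n).toMonoidHom (MulAut.conj n).injective).trans
    (MulEquiv.subgroupCongr (by
      ext y
      simp only [Subgroup.mem_map, cen, mem_centralizer_singleton_iff]
      subst h
      constructor
      · rintro ⟨x, hx, rfl⟩
        show n * x * n⁻¹ * (n * w * n⁻¹) = n * w * n⁻¹ * (n * x * n⁻¹)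
        rw [show n * x * n⁻¹ * (n * w * n⁻¹) = n * (x * w) * n⁻¹ by group, hx]; group
      · intro hy
        refine ⟨n⁻¹ * y * n, ?_, by simp [mul_assoc]⟩
        rw [show n⁻¹ * y * n * w = n⁻¹ * (y * (n * w * n⁻¹)) * n by group, hy]; group))

theorem cenConj_coe {n w v : G} (h : n * w * n⁻¹ = v) (x : ↥(cen w)) :
    (cenConj h x : G) = n * x * n⁻¹ := rfl

/-- Conjugation as a map of reduced centralizers. -/
noncomputable def cenBarConj {n w v : G} (h : n * w * n⁻¹ = v) : CenBar w ≃* CenBar v :=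
  QuotientGroup.congr _ _ (cenConj h) (CfsgLib.PCore.map_pPrimeCore_equiv (cenConj h))

theorem cenBarConj_bar {n w v : G} (h : n * w * n⁻¹ = v) (x : ↥(cen w)) :
    cenBarConj h (bar w x) = bar v (cenConj h x) := rfl

theorem map_img_conj {n w v : G} (h : n * w * n⁻¹ = v) (X : Subgroup G) :
    (img w X).map (cenBarConj h).toMonoidHom = img v (X.map (MulAut.conj n).toMonoidHom) := by
  ext y
  constructor
  · rintro ⟨_, hy, rfl⟩
    obtain ⟨a, ha, hac, rfl⟩ := mem_img.1 hy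
    exact mem_img.2 ⟨_, ⟨a, ha, rfl⟩, (cenConj h ⟨a, hac⟩).2, rfl⟩
  · intro hy
    obtain ⟨_, ⟨a, ha, rfl⟩, hc, rfl⟩ := mem_img.1 hy
    have hac : a ∈ cen w := by
      have hc' : n * a * n⁻¹ * v = v * (n * a * n⁻¹) := mem_centralizer_singleton_iff.1 hc
      subst h
      refine mem_centralizer_singleton_iff.2 ?_
      calc a * w = n⁻¹ * (n * a * n⁻¹ * (n * w * n⁻¹)) * n := by group
        _ = n⁻¹ * (n * w * n⁻¹ * (n * a * n⁻¹)) * n := by rw [hc']
        _ = w * a := by group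
    exact ⟨_, bar_mem_img ha hac, rfl⟩

theorem map_conj_of_mem_normalizer {A : Subgroup G} {n : G} (hn : n ∈ normalizer (A : Set G)) :
    A.map (MulAut.conj n).toMonoidHom = A := by
  ext y
  simp only [Subgroup.mem_map]
  constructor
  · rintro ⟨x, hx, rfl⟩; exact (mem_normalizer_iff.1 hn x).1 hx
  · intro hy
    refine ⟨n⁻¹ * y * n, ?_, by simp [mul_assoc]⟩
    have := (mem_normalizer_iff.1 (inv_mem hn) y).1 hy
    rwa [inv_inv] at this

/-- The components moved by `A` go to components moved by `A`. -/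
theorem IsAComp.map_conj {n w v : G} (h : n * w * n⁻¹ = v) {A : Subgroup G}
    (hn : n ∈ normalizer (A : Set G)) {L : Subgroup (CenBar w)} (hL : IsAComp (img w A) L) :
    IsAComp (img v A) (L.map (cenBarConj h).toMonoidHom) := by
  refine ⟨CfsgLib.Components.isComponent_map_equiv _ hL.1, fun hle => hL.2 fun y hy => ?_⟩
  have hy' : cenBarConj h y ∈ img v A := by
    rw [← map_conj_of_mem_normalizer hn, ← map_img_conj h]
    exact mem_map_of_mem _ hy
  refine mem_centralizer_iff.2 fun l hl => (cenBarConj h).injective ?_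
  rw [map_mul, map_mul]
  exact mem_centralizer_iff.1 (hle hy') _ (mem_map_of_mem _ hl)

namespace Setting

variable (E : Setting G)

/-- The elements of `C_S(A)` centralising every component moved by `A`. -/
def compKer : Subgroup G where
  carrier := {s | s ∈ (E.S : Subgroup G) ∧ s ∈ centralizer (E.A : Set G) ∧
    ∀ u ∈ E.A, u ≠ 1 → ∀ L : Subgroup (CenBar u), IsAComp (img u E.A) L →
      ∀ h : s ∈ cen u, bar u ⟨s, h⟩ ∈ centralizer (L : Set (CenBar u))}
  one_mem' := ⟨one_mem _, one_mem _, fun u _ _ L _ h => by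
    rw [show (⟨1, h⟩ : ↥(cen u)) = 1 from rfl, map_one]; exact one_mem _⟩
  mul_mem' := by
    rintro a b ⟨a1, a2, a3⟩ ⟨b1, b2, b3⟩
    refine ⟨mul_mem a1 b1, mul_mem a2 b2, fun u hu hu1 L hL h => ?_⟩
    have hac : a ∈ cen u := mem_centralizer_singleton_iff.2 (mem_centralizer_iff.1 a2 u hu).symm
    have hbc : b ∈ cen u := mem_centralizer_singleton_iff.2 (mem_centralizer_iff.1 b2 u hu).symm
    rw [show (⟨a * b, h⟩ : ↥(cen u)) = ⟨a, hac⟩ * ⟨b, hbc⟩ from rfl, map_mul]
    exact mul_mem (a3 u hu hu1 L hL hac) (b3 u hu hu1 L hL hbc)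
  inv_mem' := by
    rintro a ⟨a1, a2, a3⟩
    refine ⟨inv_mem a1, inv_mem a2, fun u hu hu1 L hL h => ?_⟩
    have hac : a ∈ cen u := by simpa using inv_mem h
    rw [show (⟨a⁻¹, h⟩ : ↥(cen u)) = ⟨a, hac⟩⁻¹ from rfl, map_inv]
    exact inv_mem (a3 u hu hu1 L hL hac)

/-- `compKer` is invariant under the conjugations inside `S` by `N(A)`. -/
theorem conj_mem_compKer {s n : G} (hs : s ∈ E.compKer) (hn : n ∈ normalizer (E.A : Set G))
    (hns : n * s * n⁻¹ ∈ (E.S : Subgroup G)) : n * s * n⁻¹ ∈ E.compKer := by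
  obtain ⟨-, s2, s3⟩ := hs
  have hni := inv_mem hn
  refine ⟨hns, mem_centralizer_iff.2 fun a ha => ?_, fun u hu hu1 L hL h => ?_⟩
  · have ha' : n⁻¹ * a * n ∈ E.A := by
      have := (mem_normalizer_iff.1 hni a).1 ha
      rwa [inv_inv] at this
    calc a * (n * s * n⁻¹) = n * (n⁻¹ * a * n * s) * n⁻¹ := by group
      _ = n * (s * (n⁻¹ * a * n)) * n⁻¹ := by rw [mem_centralizer_iff.1 s2 _ ha']
      _ = _ := by group
  · set w := n⁻¹ * u * n with hw
    have hwA : w ∈ E.A := by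
      have := (mem_normalizer_iff.1 hni u).1 hu
      rwa [inv_inv] at this
    have hw1 : w ≠ 1 := fun e => hu1 (by rw [show u = n * w * n⁻¹ by rw [hw]; group, e]; group)
    have he : n⁻¹ * u * n⁻¹⁻¹ = w := by rw [hw]; group
    have hsw : s ∈ cen w := mem_centralizer_singleton_iff.2 (mem_centralizer_iff.1 s2 w hwA).symm
    have hL' := IsAComp.map_conj he hni hL
    refine mem_centralizer_iff.2 fun l hl => (cenBarConj he).injective ?_
    rw [map_mul, map_mul]
    have e : cenBarConj he (bar u ⟨n * s * n⁻¹, h⟩) = bar w ⟨s, hsw⟩ := by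
      rw [cenBarConj_bar]
      exact congrArg _ (Subtype.ext (by rw [cenConj_coe]; group))
    rw [e]
    exact mem_centralizer_iff.1 (s3 w hwA hw1 _ hL' hsw) _ (mem_map_of_mem _ hl)

theorem compKer_sc : Cfsg.IsStronglyClosed E.compKer (E.S : Subgroup G) := by
  refine ⟨fun s hs => hs.1, fun s hs g hg => ?_⟩
  obtain ⟨n, hn, he⟩ := exists_normalizer_fusion E.S E.comm_A E.sc (B := {s})
    (Set.singleton_subset_iff.2 hs.1) (g := g) (by simpa using hg)
  rw [he s rfl] at hg ⊢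
  exact E.conj_mem_compKer hs hn hg

/-- An element of `C_S(A)` centralising all components moved by `A` is trivial. -/
theorem eq_one_of_centralizes_all [IsSimpleGroup G] (hnc : ¬ IsMulCommutative G) (hex : E.HasComp) {s : G}
    (hs : s ∈ (E.S : Subgroup G)) (hsA : s ∈ centralizer (E.A : Set G))
    (hc : ∀ u ∈ E.A, u ≠ 1 → ∀ L : Subgroup (CenBar u), IsAComp (img u E.A) L →
      ∀ h : s ∈ cen u, bar u ⟨s, h⟩ ∈ centralizer (L : Set (CenBar u))) : s = 1 := by
  have hdisj : E.A ⊓ E.compKer = ⊥ := by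
    refine (E.irr (E.A ⊓ E.compKer) inf_le_left (le_normalizer_iff.2 fun n hn a ha => ?_)).resolve_right fun e => ?_
    · have ha' := (mem_normalizer_iff.1 hn a).1 ha.1
      exact ⟨ha', E.conj_mem_compKer ha.2 hn (E.sc.1 ha')⟩
    · obtain ⟨u, hu, hu1, L, hL⟩ := hex
      refine hL.2 fun y hy => ?_
      obtain ⟨a, ha, hac, rfl⟩ := mem_img.1 hy
      rw [← e] at ha
      exact ha.2.2.2 u hu hu1 L hL hac
  let D : CfsgLib.ProductFusion.Pair G :=
    { P := E.S, S₁ := E.A, S₂ := E.compKer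
      comm := fun a ha b hb => mem_centralizer_iff.1 hb.2.1 a ha
      disj := hdisj, sc₁ := E.sc, sc₂ := E.compKer_sc }
  have hcm := CfsgLib.ProductFusion.commutator_le_pPrimeCore D
  have hne : ∃ a b : G, a * b ≠ b * a := by
    by_contra hno
    push Not at hno
    exact hnc ⟨⟨hno⟩⟩
  rw [CfsgLib.ThreeFree.pPrimeCore_eq_bot_of_simple hne, le_bot_iff] at hcm
  by_contra hs1
  have htop : ∀ U : Subgroup G, U ≠ ⊥ → normalClosure (U : Set G) = ⊤ := fun U hU =>
    (normalClosure_normal (s := (U : Set G))).eq_bot_or_eq_top.resolve_left fun e =>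
      hU (eq_bot_iff.2 fun y hy => e ▸ subset_normalClosure hy)
  change ⁅normalClosure (E.A : Set G), normalClosure (E.compKer : Set G)⁆ = ⊥ at hcm
  have hR : E.compKer ≠ ⊥ := fun e => hs1 (by
    have : s ∈ E.compKer := ⟨hs, hsA, hc⟩
    rwa [e, mem_bot] at this)
  rw [htop _ E.ne_bot, htop _ hR, commutator_eq_bot_iff_le_centralizer] at hcm
  obtain ⟨a, b, hab⟩ := hne
  exact hab (mem_centralizer_iff.1 (hcm (mem_top a)) b (mem_top b)).symm

end Setting

end CfsgLib.Goldschmidt
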