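import Cfsg.Agent.Lib.Goldschmidt.Centralizer
import Cfsg.Agent.Lib.Components.Local

/-!
# No component moved by `A` has a centre meeting `A`

If `L` is such a component, the elements inducing transvection-like maps `A → A ∩ Z(L)` and their conjugates
under `N(A)` span, by irreducibility, all of `A`; one of them fixes `u` and moves `A` outside `C_A(L)`,
which no element of `C(u)` normalising `L` can do.
-/

set_option autoImplicit false
set_option linter.unusedSectionVars false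

namespace CfsgLib.Goldschmidt

open Subgroup CfsgLib.Walter.RankFour

universe u

local instance : Fact (Nat.Prime 2) := ⟨Nat.prime_two⟩

/-- What the argument uses about a component whose centre meets `B`. -/
structure CoverAt {H : Type u} [Group H] (B L : Subgroup H) : Prop where
  eight_le : ∀ W g, CompCycle B L W g → 8 ≤ Nat.card W
  card_le : Nat.card ↥(B ⊓ L ⊓ centralizer (L : Set H)) ≤ 4
  exists_move : ∃ t ∈ L, t ∈ normalizer (B : Set H) ∧ ∃ b ∈ B,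
    t * b * t⁻¹ * b⁻¹ ≠ 1 ∧ ∀ c ∈ B, t * c * t⁻¹ * c⁻¹ ∈ centralizer (L : Set H)
  two_elt : ∀ x ∈ normalizer (L : Set H), x ∈ normalizer (B : Set H) → (∃ k : ℕ, x ^ 2 ^ k = 1) →
    ∀ b ∈ B, x * b * x⁻¹ * b⁻¹ ∈ centralizer (L : Set H)

variable {G : Type u} [Group G] [Finite G]

theorem mem_piece' {A : Subgroup G} {u : G} {L : Subgroup (CenBar u)} {x : G} :
    x ∈ piece A u L ↔ x ∈ A ∧ ∃ h : x ∈ cen u, bar u ⟨x, h⟩ ∈ L := by
  simp only [piece, mem_inf, Subgroup.mem_map, mem_comap, subtype_apply]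
  refine and_congr_right fun _ => ⟨?_, fun ⟨h, hL⟩ => ⟨⟨x, h⟩, hL, rfl⟩⟩
  rintro ⟨y, hy, rfl⟩
  exact ⟨y.2, hy⟩

theorem conjA {A : Subgroup G} {n a : G} (hn : n ∈ normalizer (A : Set G)) (ha : a ∈ A) :
    n * a * n⁻¹ ∈ A := (mem_normalizer_iff.1 hn a).1 ha

theorem conjA' {A : Subgroup G} {n a : G} (hn : n ∈ normalizer (A : Set G)) (ha : a ∈ A) :
    n⁻¹ * a * n ∈ A := by simpa using conjA (inv_mem hn) ha

namespace Setting

variable (E : Setting G)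

/-- An element of `CenBar u` normalising the image of `A` lifts into `N(A) ∩ C(u)`. -/
theorem exists_lift {u : G} (hu : u ∈ E.A) {x : CenBar u}
    (hx : x ∈ normalizer (img u E.A : Set (CenBar u))) :
    ∃ y : ↥(cen u), (y : G) ∈ normalizer (E.A : Set G) ∧ bar u y = x := by
  have h := CfsgLib.Components.map_normalizer_quotient (p := 2)
    (O := Cfsg.pPrimeCore 2 ↥(cen u)) CfsgLib.PCore.pPrimeCore_coprime
    (P := E.A.subgroupOf (cen u)) (E.isPGroup_A.comap_of_injective _ (subtype_injective _))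
  obtain ⟨y, hy, hyx⟩ := h.ge hx
  refine ⟨y, ?_, hyx⟩
  rw [mem_normalizer_iff]
  refine fun s => ⟨fun hs => (mem_normalizer_iff.1 hy ⟨s, E.le_cen hu hs⟩).1 hs, fun hs => ?_⟩
  have hsC : s ∈ cen u := by
    have h1 : (y : G)⁻¹ * ((y : G) * s * (y : G)⁻¹) * y ∈ cen u :=
      mul_mem (mul_mem (inv_mem y.2) (E.le_cen hu hs)) y.2
    simpa [mul_assoc] using h1
  exact (mem_normalizer_iff.1 hy ⟨s, hsC⟩).2 hs

/-- Two elements of `C(u)` commuting modulo the core whose commutator lies in `A` commute. -/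
theorem comm_eq_one {u : G} {y z : ↥(cen u)} (h : bar u y * bar u z = bar u z * bar u y)
    (hA : (y : G) * z * (y : G)⁻¹ * (z : G)⁻¹ ∈ E.A) : (y : G) * z * (y : G)⁻¹ * (z : G)⁻¹ = 1 := by
  have h1 : bar u (y * z * y⁻¹ * z⁻¹) = 1 := by
    rw [map_mul, map_mul, map_mul, map_inv, map_inv, h, mul_inv_cancel_right, mul_inv_cancel]
  exact congrArg Subtype.val (eq_one_of_bar_eq E.isPGroup_A (a := y * z * y⁻¹ * z⁻¹) hA h1)

theorem comm_mul_right {x a b : G} (hx : x ∈ normalizer (E.A : Set G)) (ha : a ∈ E.A) (hb : b ∈ E.A) :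
    x * (a * b) * x⁻¹ * (a * b)⁻¹ = (x * a * x⁻¹ * a⁻¹) * (x * b * x⁻¹ * b⁻¹) := by
  have hc : (x * b * x⁻¹ * b⁻¹) * a⁻¹ = a⁻¹ * (x * b * x⁻¹ * b⁻¹) :=
    E.commute_A (mul_mem (conjA hx hb) (inv_mem hb)) (inv_mem ha)
  calc x * (a * b) * x⁻¹ * (a * b)⁻¹ = x * a * x⁻¹ * ((x * b * x⁻¹ * b⁻¹) * a⁻¹) := by group
    _ = _ := by rw [hc]; group

/-- Some element of `R` fixes `u` and moves `A` outside `U`. -/
theorem exists_fix_move {y u : G} {W U₁ U V : Subgroup G} (hy : y ∈ normalizer (E.A : Set G))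
    (hyodd : Odd (orderOf y)) (hyfix : ∀ c ∈ U₁, y * c * y⁻¹ = c) (hWA : W ≤ E.A) (hU₁ : U₁ ≤ E.A)
    (hVU : V ≤ U₁) (hV : Nat.card V ≤ 4) (hgen : ∀ a ∈ E.A, ∃ w ∈ W, a * w ∈ U₁)
    (hW : 8 ≤ Nat.card W) (hWy : ∀ w ∈ W, y * w * y⁻¹ * w⁻¹ ∈ W)
    (htr : ∀ v ∈ W, v ≠ 1 → ∀ w ∈ W, w ≠ 1 → ∃ i : ℕ, y ^ i * v * (y ^ i)⁻¹ = w)
    (hu : u ∈ E.A) {x₁ : G} (hx₁N : x₁ ∈ normalizer (E.A : Set G))
    (hx₁U : ∀ c ∈ U₁, x₁ * c * x₁⁻¹ = c) (hx₁V : ∀ a ∈ E.A, x₁ * a * x₁⁻¹ * a⁻¹ ∈ V)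
    (hx₁ : ∃ a ∈ E.A, x₁ * a * x₁⁻¹ * a⁻¹ ∉ U) :
    ∃ x ∈ normalizer (E.A : Set G), (∀ c ∈ U₁, x * c * x⁻¹ = c) ∧
      (∀ a ∈ E.A, x * a * x⁻¹ * a⁻¹ ∈ V) ∧ x * u * x⁻¹ = u ∧ ∃ a ∈ E.A, x * a * x⁻¹ * a⁻¹ ∉ U := by
  classical
  have hVA : V ≤ E.A := hVU.trans hU₁
  let R : Subgroup G :=
    { carrier := {x | x ∈ normalizer (E.A : Set G) ∧ (∀ c ∈ U₁, x * c * x⁻¹ = c) ∧
        ∀ a ∈ E.A, x * a * x⁻¹ * a⁻¹ ∈ V}
      one_mem' := ⟨one_mem _, fun c _ => by group, fun a _ => by simp⟩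
      mul_mem' := by
        rintro p q ⟨hp1, hp2, hp3⟩ ⟨hq1, hq2, hq3⟩
        refine ⟨mul_mem hp1 hq1, fun c hc => ?_, fun a ha => ?_⟩
        · calc p * q * c * (p * q)⁻¹ = p * (q * c * q⁻¹) * p⁻¹ := by group
            _ = c := by rw [hq2 c hc, hp2 c hc]
        · have hv := hq3 a ha
          rw [show p * q * a * (p * q)⁻¹ * a⁻¹ = p * (q * a * q⁻¹ * a⁻¹) * p⁻¹ * (p * a * p⁻¹ * a⁻¹) by group,
            hp2 _ (hVU hv)]
          exact mul_mem hv (hp3 a ha)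
      inv_mem' := by
        rintro p ⟨hp1, hp2, hp3⟩
        refine ⟨inv_mem hp1, fun c hc => ?_, fun a ha => ?_⟩
        · nth_rw 1 [← hp2 c hc]; group
        · have hv := inv_mem (hp3 _ (conjA (inv_mem hp1) ha))
          rwa [show (p * (p⁻¹ * a * p⁻¹⁻¹) * p⁻¹ * (p⁻¹ * a * p⁻¹⁻¹)⁻¹)⁻¹ = p⁻¹ * a * p⁻¹⁻¹ * a⁻¹ by group] at hv }
  by_contra hcon
  push Not at hcon
  -- `K ≤ R₁`
  have hK : ∀ x ∈ R, x * u * x⁻¹ = u → ∀ a ∈ E.A, x * a * x⁻¹ * a⁻¹ ∈ U :=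
    fun x hx hxu => hcon x hx.1 hx.2.1 hx.2.2 hxu
  -- the kernel
  let Ker : Subgroup G :=
    { carrier := {a | a ∈ E.A ∧ ∀ x ∈ R, x * a * x⁻¹ * a⁻¹ ∈ U}
      one_mem' := ⟨one_mem _, fun x _ => by simp⟩
      mul_mem' := by
        rintro a b ⟨ha, ha'⟩ ⟨hb, hb'⟩
        exact ⟨mul_mem ha hb, fun x hx => by
          rw [E.comm_mul_right hx.1 ha hb]; exact mul_mem (ha' x hx) (hb' x hx)⟩
      inv_mem' := by
        rintro a ⟨ha, ha'⟩
        refine ⟨inv_mem ha, fun x hx => ?_⟩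
        have h1 := E.comm_mul_right hx.1 ha (inv_mem ha)
        simp only [mul_inv_cancel, mul_one, inv_one] at h1
        rw [← inv_eq_of_mul_eq_one_right h1.symm]
        exact inv_mem (ha' x hx) }
  have hKerU : ∀ c ∈ U₁, c ∈ Ker := fun c hc => ⟨hU₁ hc, fun x hx => by simp [hx.2.1 c hc]⟩
  have hKerne : ¬ W ≤ Ker := by
    intro hle
    obtain ⟨a, ha, hna⟩ := hx₁
    obtain ⟨w, hw, hwa⟩ := hgen a ha
    refine hna ?_
    have haK : a ∈ Ker := by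
      simpa using mul_mem (hKerU _ hwa) (inv_mem (hle hw))
    exact haK.2 x₁ ⟨hx₁N, hx₁U, hx₁V⟩
  -- conjugation by `y`
  have hyR : ∀ x ∈ R, y * x * y⁻¹ ∈ R := by
    rintro x ⟨h1, h2, h3⟩
    refine ⟨mul_mem (mul_mem hy h1) (inv_mem hy), fun c hc => ?_, fun a ha => ?_⟩
    · have hyc : y⁻¹ * c * y = c := by nth_rw 1 [← hyfix c hc]; group
      calc y * x * y⁻¹ * c * (y * x * y⁻¹)⁻¹ = y * (x * (y⁻¹ * c * y) * x⁻¹) * y⁻¹ := by group
        _ = c := by rw [hyc, h2 c hc, hyfix c hc]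
    · have hv := h3 _ (conjA' hy ha)
      rw [show y * x * y⁻¹ * a * (y * x * y⁻¹)⁻¹ * a⁻¹ =
        y * (x * (y⁻¹ * a * y) * x⁻¹ * (y⁻¹ * a * y)⁻¹) * y⁻¹ by group, hyfix _ (hVU hv)]
      exact hv
  have hcomm : ∀ x ∈ R, ∀ a ∈ E.A,
      y * x * y⁻¹ * (y * a * y⁻¹) * (y * x * y⁻¹)⁻¹ * (y * a * y⁻¹)⁻¹ = x * a * x⁻¹ * a⁻¹ := by
    intro x hx a ha
    calc y * x * y⁻¹ * (y * a * y⁻¹) * (y * x * y⁻¹)⁻¹ * (y * a * y⁻¹)⁻¹
        = y * (x * a * x⁻¹ * a⁻¹) * y⁻¹ := by group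
      _ = _ := hyfix _ (hVU (hx.2.2 a ha))
  -- the cosets of `R₁`
  let r : ↥R → (↥E.A → G) := fun x a => (x : G) * a * (x : G)⁻¹ * (a : G)⁻¹
  let rel : Setoid ↥R :=
    { r := fun p q => ∀ a : ↥E.A, (r p a)⁻¹ * r q a ∈ U
      iseqv := ⟨fun p a => by simp, fun {p q} h a => by simpa using inv_mem (h a),
        fun {p q s} h h' a => by simpa [mul_assoc] using mul_mem (h a) (h' a)⟩ }
  let Q := Quotient rel
  have hrel : ∀ p q : ↥R, r p ⟨u, hu⟩ = r q ⟨u, hu⟩ → rel.r p q := by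
    intro p q h a
    have hd : ((p⁻¹ * q : ↥R) : G) * u * ((p⁻¹ * q : ↥R) : G)⁻¹ = u := by
      have h' : (p : G) * u * (p : G)⁻¹ = (q : G) * u * (q : G)⁻¹ := mul_right_cancel h
      calc ((p⁻¹ * q : ↥R) : G) * u * ((p⁻¹ * q : ↥R) : G)⁻¹
          = (p : G)⁻¹ * ((q : G) * u * (q : G)⁻¹) * p := by simp [mul_assoc]
        _ = u := by rw [← h']; group
    have hd' := hK _ (p⁻¹ * q).2 hd a a.2
    have hfix := p.2.2.1 _ (hVU ((p⁻¹ * q).2.2.2 a a.2))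
    show ((p : G) * a * (p : G)⁻¹ * (a : G)⁻¹)⁻¹ * ((q : G) * a * (q : G)⁻¹ * (a : G)⁻¹) ∈ U
    have hcA := E.commute_A (inv_mem (hVA (p.2.2.2 a a.2))) (hVA (q.2.2.2 a a.2))
    rw [hcA, show (q : G) * a * (q : G)⁻¹ * (a : G)⁻¹ * ((p : G) * a * (p : G)⁻¹ * (a : G)⁻¹)⁻¹ =
      (p : G) * (((p⁻¹ * q : ↥R) : G) * a * ((p⁻¹ * q : ↥R) : G)⁻¹ * (a : G)⁻¹) * (p : G)⁻¹ by
        simp only [Subgroup.coe_mul, Subgroup.coe_inv]; group, hfix]
    exact hd'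
  have hQ : Nat.card Q ≤ 4 := by
    refine le_trans ?_ hV
    refine Nat.card_le_card_of_injective
      (fun q : Q => (⟨r q.out ⟨u, hu⟩, q.out.2.2.2 u hu⟩ : ↥V)) fun q q' h => ?_
    rw [← q.out_eq, ← q'.out_eq]
    exact Quotient.sound (hrel _ _ (congrArg Subtype.val h))
  let cy : ↥R → ↥R := fun x => ⟨y * x * y⁻¹, hyR x x.2⟩
  have hcy : ∀ p q, rel.r p q → rel.r (cy p) (cy q) := by
    intro p q h a
    have e : (a : G) = y * (y⁻¹ * a * y) * y⁻¹ := by group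
    show (y * p * y⁻¹ * a * (y * p * y⁻¹)⁻¹ * (a : G)⁻¹)⁻¹ *
      (y * q * y⁻¹ * a * (y * q * y⁻¹)⁻¹ * (a : G)⁻¹) ∈ U
    rw [e, hcomm p p.2 _ (conjA' hy a.2), hcomm q q.2 _ (conjA' hy a.2)]
    exact h ⟨_, conjA' hy a.2⟩
  let σ : Q → Q := Quotient.map cy hcy
  have hσiter : ∀ (n : ℕ) (x : ↥R) (hx : y ^ n * x * (y ^ n)⁻¹ ∈ R),
      σ^[n] (Quotient.mk rel x) = Quotient.mk rel ⟨_, hx⟩ := by
    intro n
    induction n with
    | zero =>
      intro x hx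
      exact congrArg (Quotient.mk rel) (Subtype.ext (show (x : G) = y ^ 0 * x * (y ^ 0)⁻¹ by group))
    | succ n ih =>
      intro x hx
      have hxn : y ^ n * x * (y ^ n)⁻¹ ∈ R := by
        clear ih hx
        induction n with
        | zero => simpa using x.2
        | succ n ih => rw [pow_succ', show y * y ^ n * x * (y * y ^ n)⁻¹ = y * (y ^ n * x * (y ^ n)⁻¹) * y⁻¹ by group]; exact hyR _ ih
      rw [Function.iterate_succ_apply', ih x hxn]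
      exact congrArg _ (Subtype.ext (show y * (y ^ n * x * (y ^ n)⁻¹) * y⁻¹ = y ^ (n + 1) * x * (y ^ (n + 1))⁻¹ by simp only [pow_succ']; group))
  have hord : ∀ q : Q, σ^[orderOf y] q = q := by
    intro q
    induction q using Quotient.ind with
    | _ x =>
      rw [hσiter (orderOf y) x (by simp [pow_orderOf_eq_one])]
      exact congrArg _ (Subtype.ext (by simp [pow_orderOf_eq_one]))
  have hbij : Function.Bijective σ := by
    refine (Finite.injective_iff_bijective).mp fun p q h => ?_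
    have h' := congrArg (σ^[orderOf y - 1]) h
    rw [← Function.iterate_succ_apply, ← Function.iterate_succ_apply,
      Nat.succ_eq_add_one, Nat.sub_add_cancel (orderOf_pos y), hord, hord] at h'
    exact h'
  let τ : Equiv.Perm Q := Equiv.ofBijective σ hbij
  have hτ : ∀ (n : ℕ) (q : Q), (τ ^ n) q = σ^[n] q := fun n q => by
    rw [Equiv.Perm.coe_pow]; rfl
  have hτy : τ ^ orderOf y = 1 := Equiv.ext fun q => by rw [hτ, hord]; rfl
  have hτ1 : τ (Quotient.mk rel 1) = Quotient.mk rel 1 :=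
    congrArg (Quotient.mk rel) (Subtype.ext (by show y * 1 * y⁻¹ = 1; simp))
  have hτ3 : τ ^ 3 = 1 := by
    let q₀ : Q := Quotient.mk rel 1
    have hp : ∀ q, τ q ≠ q₀ ↔ q ≠ q₀ := fun q =>
      ⟨fun h e => h (by rw [e]; exact hτ1), fun h e => h (τ.injective (e.trans hτ1.symm))⟩
    let τ' : Equiv.Perm {q // q ≠ q₀} := τ.subtypePerm hp
    have h6 : τ' ^ 6 = 1 := by
      have hc : Nat.card {q // q ≠ q₀} ≤ 3 := by
        have := Fintype.ofFinite Q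
        rw [Nat.card_eq_fintype_card, Fintype.card_subtype_compl, Fintype.card_subtype_eq,
          ← Nat.card_eq_fintype_card]
        omega
      refine orderOf_dvd_iff_pow_eq_one.1 ((orderOf_dvd_natCard τ').trans ?_)
      rw [Nat.card_perm]
      interval_cases Nat.card {q // q ≠ q₀} <;> norm_num [Nat.factorial]
    have hτ6 : τ ^ 6 = 1 := by
      refine Equiv.ext fun q => ?_
      by_cases hq : q = q₀
      · rw [hq]
        have hq0 : Function.IsFixedPt τ q₀ := hτ1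
        exact hq0.perm_pow 6
      · have := congrArg (fun e : Equiv.Perm {q // q ≠ q₀} => ((e ⟨q, hq⟩ : {q // q ≠ q₀}) : Q)) h6
        simpa [τ', Equiv.Perm.subtypePerm_pow] using this
    have hd : orderOf τ ∣ 3 := by
      have ho : Odd (orderOf τ) := hyodd.of_dvd_nat (orderOf_dvd_of_pow_eq_one hτy)
      exact (Nat.Coprime.dvd_of_dvd_mul_left (by simpa [Nat.coprime_two_right] using ho)
        (show orderOf τ ∣ 2 * 3 from orderOf_dvd_of_pow_eq_one hτ6))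
    exact orderOf_dvd_iff_pow_eq_one.1 hd
  -- so `y³` centralises `W`
  have hWne : ∀ w ∈ W, w ≠ 1 → w ∉ Ker := by
    intro w hw hw1 hwK
    apply hKerne
    intro v hv
    rcases eq_or_ne v 1 with rfl | hv1
    · exact one_mem _
    obtain ⟨i, rfl⟩ := htr w hw hw1 v hv hv1
    clear hv1 hv
    induction i with
    | zero => simpa using hwK
    | succ i ih =>
      rw [pow_succ', show y * y ^ i * w * (y * y ^ i)⁻¹ = y * (y ^ i * w * (y ^ i)⁻¹) * y⁻¹ by group]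
      set b := y ^ i * w * (y ^ i)⁻¹ with hb
      refine ⟨conjA hy ih.1, fun x hx => ?_⟩
      have hx' : y⁻¹ * x * y ∈ R := by
        obtain ⟨p, hp⟩ : ∃ p : ↥R, cy p = ⟨x, hx⟩ := by
          refine Finite.surjective_of_injective (f := cy) (fun p q h => ?_) _
          exact Subtype.ext (mul_left_cancel (mul_right_cancel (congrArg Subtype.val h)))
        rw [← show y * (p : G) * y⁻¹ = x from congrArg Subtype.val hp]
        simpa [mul_assoc] using p.2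
      have := hcomm _ hx' b ih.1
      rw [show y * (y⁻¹ * x * y) * y⁻¹ = x by group] at this
      rw [this]
      exact ih.2 _ hx'
  have hfix3 : ∀ w ∈ W, y ^ 3 * w * (y ^ 3)⁻¹ = w := by
    intro w hw
    by_contra hne
    have hy3 : y ^ 3 ∈ normalizer (E.A : Set G) := pow_mem hy 3
    have hW3 : y ^ 3 * w * (y ^ 3)⁻¹ * w⁻¹ ∈ W := by
      have hs : ∀ v ∈ W, y * v * y⁻¹ ∈ W := fun v hv => by simpa using mul_mem (hWy v hv) hv
      refine mul_mem ?_ (inv_mem hw)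
      rw [show y ^ 3 * w * (y ^ 3)⁻¹ = y * (y * (y * w * y⁻¹) * y⁻¹) * y⁻¹ by rw [pow_three]; group]
      exact hs _ (hs _ (hs w hw))
    refine hWne _ hW3 (fun h => hne (mul_inv_eq_one.1 h)) ⟨hWA hW3, fun x hx => ?_⟩
    have hwA := hWA hw
    have hw3A := conjA hy3 hwA
    rw [E.comm_mul_right hx.1 hw3A (inv_mem hwA)]
    have hinv : x * w⁻¹ * x⁻¹ * w⁻¹⁻¹ = (x * w * x⁻¹ * w⁻¹)⁻¹ := by
      have h1 := E.comm_mul_right hx.1 hwA (inv_mem hwA)
      simp only [mul_inv_cancel, mul_one, inv_one] at h1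
      exact (inv_eq_of_mul_eq_one_right h1.symm).symm
    rw [hinv]
    -- `x` and `y⁻³ x y³` agree modulo `U`
    obtain ⟨p, hp⟩ : ∃ p : ↥R, cy (cy (cy p)) = ⟨x, hx⟩ := by
      refine Finite.surjective_of_injective (f := fun p => cy (cy (cy p))) (fun p q h => ?_) _
      have hi : Function.Injective cy := fun p q h =>
        Subtype.ext (mul_left_cancel (mul_right_cancel (congrArg Subtype.val h)))
      exact hi (hi (hi h))
    have hq : Quotient.mk rel (cy (cy (cy p))) = Quotient.mk rel p := by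
      have := congrArg (fun e : Equiv.Perm Q => e (Quotient.mk rel p)) hτ3
      exact this
    have hU := Quotient.exact hq ⟨y ^ 3 * w * (y ^ 3)⁻¹, hw3A⟩
    rw [hp] at hU
    change (x * (y ^ 3 * w * (y ^ 3)⁻¹) * x⁻¹ * (y ^ 3 * w * (y ^ 3)⁻¹)⁻¹)⁻¹ *
      ((p : G) * (y ^ 3 * w * (y ^ 3)⁻¹) * (p : G)⁻¹ * (y ^ 3 * w * (y ^ 3)⁻¹)⁻¹) ∈ U at hU
    have hU2 := Quotient.exact hq ⟨w, hwA⟩
    have hxp : x = y ^ 3 * p * (y ^ 3)⁻¹ := by
      rw [← show (y * (y * (y * (p : G) * y⁻¹) * y⁻¹) * y⁻¹) = x from congrArg Subtype.val hp, pow_three]; group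
    have hsame : x * (y ^ 3 * w * (y ^ 3)⁻¹) * x⁻¹ * (y ^ 3 * w * (y ^ 3)⁻¹)⁻¹ =
        (p : G) * w * (p : G)⁻¹ * w⁻¹ := by
      have hyc : ∀ c ∈ U₁, y ^ 3 * c * (y ^ 3)⁻¹ = c := fun c hc => by
        calc y ^ 3 * c * (y ^ 3)⁻¹ = y * (y * (y * c * y⁻¹) * y⁻¹) * y⁻¹ := by rw [pow_three]; group
          _ = c := by rw [hyfix c hc, hyfix c hc, hyfix c hc]
      rw [hxp]
      calc _ = y ^ 3 * ((p : G) * w * (p : G)⁻¹ * w⁻¹) * (y ^ 3)⁻¹ := by group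
        _ = _ := hyc _ (hVU (p.2.2.2 w hwA))
    rw [hsame]
    rw [hp] at hU2
    change (x * w * x⁻¹ * w⁻¹)⁻¹ * ((p : G) * w * (p : G)⁻¹ * w⁻¹) ∈ U at hU2
    rw [E.commute_A (hVA (p.2.2.2 w hwA)) (inv_mem (hVA (hx.2.2 w hwA)))]
    exact hU2
  -- so `|W| ≤ 4`
  obtain ⟨w₀, hw₀, hw₀1⟩ : ∃ w ∈ W, w ≠ 1 := by
    by_contra h
    push Not at h
    rw [(eq_bot_iff_forall W).2 h, card_bot] at hW
    omega
  have hper : ∀ i : ℕ, y ^ i * w₀ * (y ^ i)⁻¹ = y ^ (i % 3) * w₀ * (y ^ (i % 3))⁻¹ := by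
    intro i
    induction i using Nat.strong_induction_on with
    | _ i ih =>
      rcases Nat.lt_or_ge i 3 with h | h
      · rw [Nat.mod_eq_of_lt h]
      · rw [Nat.mod_eq_sub_mod h, ← ih (i - 3) (by omega)]
        calc y ^ i * w₀ * (y ^ i)⁻¹ = y ^ (i - 3) * (y ^ 3 * w₀ * (y ^ 3)⁻¹) * (y ^ (i - 3))⁻¹ := by
              rw [show i = i - 3 + 3 by omega, pow_add, Nat.add_sub_cancel]; group
          _ = _ := by rw [hfix3 w₀ hw₀]
  have hsub : (W : Set G) ⊆ insert 1 ((fun k : Fin 3 => y ^ (k : ℕ) * w₀ * (y ^ (k : ℕ))⁻¹) '' Set.univ) := by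
    intro v hv
    rcases eq_or_ne v 1 with rfl | hv1
    · exact Set.mem_insert _ _
    obtain ⟨i, rfl⟩ := htr w₀ hw₀ hw₀1 v hv hv1
    exact Or.inr ⟨⟨i % 3, Nat.mod_lt _ (by norm_num)⟩, trivial, (hper i).symm⟩
  have h1 := Set.ncard_le_ncard hsub (Set.toFinite _)
  rw [← Nat.card_coe_set_eq] at h1
  have h2 := (Set.ncard_insert_le (1 : G)
    ((fun k : Fin 3 => y ^ (k : ℕ) * w₀ * (y ^ (k : ℕ))⁻¹) '' Set.univ))
  have h3 := Set.ncard_image_le (f := fun k : Fin 3 => y ^ (k : ℕ) * w₀ * (y ^ (k : ℕ))⁻¹)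
    (Set.toFinite (Set.univ : Set (Fin 3)))
  rw [Set.ncard_univ, Nat.card_fin] at h3
  change Nat.card W ≤ _ at h1
  omega

end Setting

/-- **`CentreFree`.** -/
theorem centreFree (E : Setting G)
    (hloc : ∀ u ∈ E.A, u ≠ 1 → ∀ T : Sylow 2 (CenBar u),
      Cfsg.IsStronglyClosed (img u E.A) (T : Subgroup (CenBar u)) →
        LocalFacts (T : Subgroup (CenBar u)) (img u E.A))
    (hcov : ∀ u ∈ E.A, u ≠ 1 → ∀ L : Subgroup (CenBar u), IsAComp (img u E.A) L →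
      img u E.A ⊓ L ⊓ centralizer (L : Set (CenBar u)) ≠ ⊥ → CoverAt (img u E.A) L) :
    E.CentreFree := by
  intro u hu hu1 L hL
  by_contra hne
  have hC := hcov u hu hu1 L hL hne
  obtain ⟨P, T, -, -, hTsc⟩ := E.exists_local (E.le_cen hu)
  have hLF := hloc u hu hu1 T hTsc
  obtain ⟨W₁, g, hg⟩ := hLF.exists_cycle L hL
  have hW8 := hC.eight_le W₁ g hg
  -- lifts
  obtain ⟨t, htL, htN, b, hb, hbne, htC⟩ := hC.exists_move
  obtain ⟨t₁, ht₁N, ht₁⟩ := E.exists_lift hu htN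
  obtain ⟨y₀, hy₀N, hy₀⟩ := E.exists_lift hu hg.cycle.mem_normalizer
  -- an odd power of the lift
  obtain ⟨y, hyN, hyodd, hyg⟩ : ∃ y : ↥(cen u), (y : G) ∈ normalizer (E.A : Set G) ∧
      Odd (orderOf (y : G)) ∧ bar u y = g := by
    obtain ⟨k, m, hm, hord⟩ := Nat.exists_eq_two_pow_mul_odd (orderOf_pos y₀).ne'
    obtain ⟨c, hc⟩ := hm
    have hgd : orderOf g ∣ m := by
      have h1 : orderOf g ∣ 2 ^ k * m := hord ▸ (hy₀ ▸ orderOf_map_dvd (bar u) y₀)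
      exact (Nat.Coprime.pow_right k (Nat.coprime_two_right.2 hg.odd)).dvd_of_dvd_mul_left h1
    obtain ⟨e, -, he⟩ := Nat.exists_mul_mod_eq_one_of_coprime
      (show Nat.Coprime (2 ^ k) m from Nat.Coprime.pow_left k (Nat.coprime_two_left.2 ⟨c, hc⟩))
      (show 1 < m by
        by_contra hm1
        have hg1 : g = 1 := orderOf_eq_one_iff.1 (Nat.dvd_one.1 (hgd.trans (by rw [show m = 1 by omega])))
        obtain ⟨w, hw, hw1⟩ : ∃ w ∈ W₁, w ≠ 1 := by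
          by_contra h
          push Not at h
          rw [(eq_bot_iff_forall W₁).2 h, card_bot] at hW8
          omega
        have := hg.of_fix w (hg.cycle.le hw) (by rw [hg1]; group)
        exact hw1 (mem_bot.1 (hg.inf_eq ▸ mem_inf.2 ⟨hw, this⟩)))
    refine ⟨(y₀ ^ 2 ^ k) ^ e, by simpa using pow_mem (pow_mem hy₀N (2 ^ k)) e, ?_, ?_⟩
    · rw [Subgroup.orderOf_coe]
      refine (show Odd m from ⟨c, hc⟩).of_dvd_nat (orderOf_dvd_of_pow_eq_one ?_)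
      rw [← pow_mul, ← pow_mul, show 2 ^ k * (e * m) = 2 ^ k * m * e by ring, pow_mul, ← hord,
        pow_orderOf_eq_one, one_pow]
    · rw [map_pow, map_pow, hy₀, ← pow_mul]
      conv_rhs => rw [← pow_one g]
      refine (pow_eq_pow_iff_modEq).2 ?_
      exact Nat.ModEq.of_dvd hgd (by rw [Nat.ModEq, he, Nat.one_mod_eq_one.2]; rintro rfl; simp [Nat.mod_one] at he)
  set U : Subgroup G := piece E.A u (centralizer (L : Set (CenBar u))) with hU
  set V : Subgroup G := piece E.A u (L ⊓ centralizer (L : Set (CenBar u))) with hV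
  set W : Subgroup G := piece E.A u W₁ with hW
  have hUA : U ≤ E.A := inf_le_left
  have hVU : V ≤ U := by
    intro x hx
    obtain ⟨hxA, h, hxL⟩ := mem_piece'.1 hx
    exact mem_piece'.2 ⟨hxA, h, hxL.2⟩
  have himgA : ∀ c (hc : c ∈ E.A), bar u ⟨c, E.le_cen hu hc⟩ ∈ img u E.A := fun c hc => bar_mem_img hc _
  have hinjA : ∀ a (ha : a ∈ E.A) c (hc : c ∈ E.A),
      bar u ⟨a, E.le_cen hu ha⟩ = bar u ⟨c, E.le_cen hu hc⟩ → a = c := fun a ha c hc h =>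
    congrArg Subtype.val (bar_inj_two E.isPGroup_A (a := ⟨a, E.le_cen hu ha⟩) (b := ⟨c, E.le_cen hu hc⟩) ha hc h)
  have hVcard : Nat.card V ≤ 4 := by
    refine le_trans (Nat.card_le_card_of_injective
      (fun x : V => (⟨bar u ⟨x, E.le_cen hu (mem_piece'.1 x.2).1⟩, ?_⟩ :
        ↥(img u E.A ⊓ L ⊓ centralizer (L : Set (CenBar u))))) ?_) hC.card_le
    · obtain ⟨hxA, h, hxL⟩ := mem_piece'.1 x.2
      exact ⟨⟨himgA _ hxA, hxL.1⟩, hxL.2⟩
    · intro a c h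
      exact Subtype.ext (hinjA _ (mem_piece'.1 a.2).1 _ (mem_piece'.1 c.2).1 (congrArg Subtype.val h))
  have hWcard : Nat.card W₁ ≤ Nat.card W := by
    have hmem : ∀ w ∈ W₁, ∃ a ∈ W, ∃ h : a ∈ cen u, bar u ⟨a, h⟩ = w := by
      intro w hw
      obtain ⟨a, ha, h, hae⟩ := mem_img.1 (hg.cycle.le hw)
      exact ⟨a, mem_piece'.2 ⟨ha, h, by rw [hae]; exact hw⟩, h, hae⟩
    choose f hf hfc hfe using hmem
    refine Nat.card_le_card_of_injective (fun w : W₁ => (⟨f w w.2, hf w w.2⟩ : W)) fun a c h => ?_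
    have h' : f a a.2 = f c c.2 := congrArg Subtype.val h
    apply Subtype.ext
    rw [← hfe a a.2, ← hfe c c.2]
    exact congrArg (bar u) (Subtype.ext h')
  -- what elements of `C(u)` lifting elements of `L` do
  have hfixU : ∀ x : ↥(cen u), bar u x ∈ L → (x : G) ∈ normalizer (E.A : Set G) →
      ∀ c ∈ U, (x : G) * c * (x : G)⁻¹ = c := by
    intro x hxL hxN c hc
    obtain ⟨hcA, h, hcC⟩ := mem_piece'.1 hc
    exact mul_inv_eq_one.1 (E.comm_eq_one (y := x) (z := ⟨c, h⟩) (mem_centralizer_iff.1 hcC _ hxL)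
      (mul_mem (conjA hxN hcA) (inv_mem hcA)))
  have hcommV : ∀ x : ↥(cen u), bar u x ∈ L → (x : G) ∈ normalizer (E.A : Set G) →
      (∀ c ∈ img u E.A, bar u x * c * (bar u x)⁻¹ * c⁻¹ ∈ centralizer (L : Set (CenBar u))) →
      ∀ a ∈ E.A, (x : G) * a * (x : G)⁻¹ * a⁻¹ ∈ V := by
    intro x hxL hxN hxC a ha
    refine mem_piece'.2 ⟨mul_mem (conjA hxN ha) (inv_mem ha),
      mul_mem (mul_mem (mul_mem x.2 (E.le_cen hu ha)) (inv_mem x.2)) (inv_mem (E.le_cen hu ha)), ?_⟩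
    show bar u (x * ⟨a, E.le_cen hu ha⟩ * x⁻¹ * (⟨a, E.le_cen hu ha⟩ : ↥(cen u))⁻¹) ∈ _
    rw [map_mul, map_mul, map_mul, map_inv, map_inv]
    refine ⟨?_, hxC _ (himgA a ha)⟩
    have hN := hLF.le_normalizer L hL.1 (himgA a ha)
    have h1 : bar u ⟨a, E.le_cen hu ha⟩ * (bar u x)⁻¹ * (bar u ⟨a, E.le_cen hu ha⟩)⁻¹ ∈ L :=
      (mem_normalizer_iff.1 hN _).1 (inv_mem hxL)
    simpa [mul_assoc] using mul_mem hxL h1
  have ht₁L : bar u t₁ ∈ L := by rw [ht₁]; exact htL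
  have hygL : bar u y ∈ L := by rw [hyg]; exact hg.mem
  -- `A` is spanned by the conjugates of `[t₁, A]`
  obtain ⟨n, hn, a₀, ha₀, hna⟩ : ∃ n ∈ normalizer (E.A : Set G), ∃ a ∈ E.A,
      n * ((t₁ : G) * a * (t₁ : G)⁻¹ * a⁻¹) * n⁻¹ ∉ U := by
    by_contra hcon
    push Not at hcon
    let X : Set G := {z | ∃ n ∈ normalizer (E.A : Set G), ∃ a ∈ E.A,
      z = n * ((t₁ : G) * a * (t₁ : G)⁻¹ * a⁻¹) * n⁻¹}
    have hXU : closure X ≤ U := (closure_le _).2 (by rintro _ ⟨n, hn, a, ha, rfl⟩; exact hcon n hn a ha)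
    have hinv : normalizer (E.A : Set G) ≤ normalizer (closure X : Set G) := by
      intro m hm
      have hmap : ∀ k ∈ normalizer (E.A : Set G), ∀ z ∈ closure X, k * z * k⁻¹ ∈ closure X := by
        intro k hk z hz
        induction hz using closure_induction with
        | mem z hz =>
          obtain ⟨n, hn, a, ha, rfl⟩ := hz
          exact subset_closure ⟨k * n, mul_mem hk hn, a, ha, by group⟩
        | one => simpa using one_mem _
        | mul p q _ _ hp hq =>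
          rw [show k * (p * q) * k⁻¹ = (k * p * k⁻¹) * (k * q * k⁻¹) by group]; exact mul_mem hp hq
        | inv p _ hp => rw [show k * p⁻¹ * k⁻¹ = (k * p * k⁻¹)⁻¹ by group]; exact inv_mem hp
      rw [mem_normalizer_iff]
      exact fun z => ⟨hmap m hm z, fun hz => by simpa [mul_assoc] using hmap _ (inv_mem hm) _ hz⟩
    rcases E.irr _ (hXU.trans hUA) hinv with h | h
    · obtain ⟨b₀, hb₀, hb₀c, rfl⟩ := mem_img.1 hb
      apply hbne
      have h1 : (t₁ : G) * b₀ * (t₁ : G)⁻¹ * b₀⁻¹ = 1 := by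
        rw [← mem_bot, ← h]
        exact subset_closure ⟨1, one_mem _, b₀, hb₀, by group⟩
      rw [← ht₁, ← map_inv, ← map_inv, ← map_mul, ← map_mul, ← map_mul,
        show t₁ * ⟨b₀, hb₀c⟩ * t₁⁻¹ * (⟨b₀, hb₀c⟩ : ↥(cen u))⁻¹ = 1 from Subtype.ext h1, map_one]
    · obtain ⟨b₀, hb₀, -, -⟩ := mem_img.1 hb
      apply hL.2
      intro c hc
      obtain ⟨c₀, hc₀, hc₀c, rfl⟩ := mem_img.1 hc
      exact (mem_piece'.1 ((h.ge.trans hXU) hc₀)).2.2
  -- the moving element fixing `u`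
  have hn' := conjA' hn hu
  obtain ⟨x, hxN, hxU, hxV, hxu, a₁, ha₁, hxa₁⟩ := E.exists_fix_move (y := (y : G)) (u := n⁻¹ * u * n)
    (W := W) (U₁ := U) (U := U.map (MulAut.conj n⁻¹).toMonoidHom) (V := V) hyN hyodd
    (hfixU y hygL hyN) inf_le_left hUA hVU hVcard
    (fun a ha => by
      obtain ⟨w, hw, hwc⟩ := hg.exists_mul _ (himgA a ha)
      obtain ⟨w₀, hw₀, hw₀c, rfl⟩ := mem_img.1 (hg.cycle.le hw)
      refine ⟨w₀, mem_piece'.2 ⟨hw₀, hw₀c, hw⟩, mem_piece'.2 ⟨mul_mem ha hw₀,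
        mul_mem (E.le_cen hu ha) hw₀c, ?_⟩⟩
      show bar u (⟨a, E.le_cen hu ha⟩ * ⟨w₀, hw₀c⟩) ∈ _
      rw [map_mul]; exact hwc)
    (hW8.trans hWcard)
    (fun w hw => by
      obtain ⟨hwA, h, hwW⟩ := mem_piece'.1 hw
      refine mem_piece'.2 ⟨mul_mem (conjA hyN hwA) (inv_mem hwA),
        mul_mem (mul_mem (mul_mem y.2 h) (inv_mem y.2)) (inv_mem h), ?_⟩
      show bar u (y * ⟨w, h⟩ * y⁻¹ * (⟨w, h⟩ : ↥(cen u))⁻¹) ∈ W₁
      rw [map_mul, map_mul, map_mul, map_inv, map_inv, hyg]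
      exact hg.cycle.move _ (hg.cycle.le hwW))
    (fun v hv hv1 w hw hw1 => by
      obtain ⟨hvA, hv', hvW⟩ := mem_piece'.1 hv
      obtain ⟨hwA, hw', hwW⟩ := mem_piece'.1 hw
      obtain ⟨i, hi⟩ := hg.cycle.trans _ hvW
        (fun h => hv1 (congrArg Subtype.val (eq_one_of_bar_eq E.isPGroup_A (a := ⟨v, hv'⟩) hvA h))) _ hwW
        (fun h => hw1 (congrArg Subtype.val (eq_one_of_bar_eq E.isPGroup_A (a := ⟨w, hw'⟩) hwA h)))
      refine ⟨i, congrArg Subtype.val (bar_inj_two E.isPGroup_A (a := y ^ i * ⟨v, hv'⟩ * (y ^ i)⁻¹)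
        (b := ⟨w, hw'⟩) ?_ hwA (by rw [map_mul, map_mul, map_inv, map_pow, hyg, hi]))⟩
      simpa using conjA (pow_mem hyN i) hvA)
    hn' (x₁ := (t₁ : G)) ht₁N (hfixU t₁ ht₁L ht₁N)
    (hcommV t₁ ht₁L ht₁N fun c hc => by rw [ht₁]; exact htC c hc)
    ⟨a₀, ha₀, fun hmem => hna (by
      obtain ⟨z, hz, hze⟩ := hmem
      rw [← hze]
      show n * (n⁻¹ * z * n⁻¹⁻¹) * n⁻¹ ∈ U
      simpa [mul_assoc] using hz)⟩
  -- move it back and take its 2-part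
  set z := n * x * n⁻¹ with hz
  have hzN : z ∈ normalizer (E.A : Set G) := mul_mem (mul_mem hn hxN) (inv_mem hn)
  have hza : ∀ a ∈ E.A, z * a * z⁻¹ * a⁻¹ ∈ V.map (MulAut.conj n).toMonoidHom ∧
      z * (z * a * z⁻¹ * a⁻¹) * z⁻¹ = z * a * z⁻¹ * a⁻¹ := by
    intro a ha
    have hv := hxV _ (conjA' hn ha)
    refine ⟨⟨_, hv, ?_⟩, ?_⟩
    · show n * (x * (n⁻¹ * a * n) * x⁻¹ * (n⁻¹ * a * n)⁻¹) * n⁻¹ = _
      rw [hz]; group
    · calc z * (z * a * z⁻¹ * a⁻¹) * z⁻¹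
          = n * (x * (x * (n⁻¹ * a * n) * x⁻¹ * (n⁻¹ * a * n)⁻¹) * x⁻¹) * n⁻¹ := by rw [hz]; group
        _ = _ := by rw [hxU _ (hVU hv), hz]; group
  obtain ⟨k, m, hm, hzord⟩ := Nat.exists_eq_two_pow_mul_odd (orderOf_pos z).ne'
  have hzm : ∀ a ∈ E.A, z ^ m * a * (z ^ m)⁻¹ * a⁻¹ = z * a * z⁻¹ * a⁻¹ := by
    intro a ha
    have hp : ∀ i : ℕ, z ^ i * a * (z ^ i)⁻¹ * a⁻¹ = (z * a * z⁻¹ * a⁻¹) ^ i := by
      intro i
      induction i with
      | zero => simp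
      | succ i ih =>
        have hfix : ∀ j : ℕ, z * (z * a * z⁻¹ * a⁻¹) ^ j * z⁻¹ = (z * a * z⁻¹ * a⁻¹) ^ j := fun j => by
          rw [← conj_pow, (hza a ha).2]
        calc z ^ (i + 1) * a * (z ^ (i + 1))⁻¹ * a⁻¹
            = z * (z ^ i * a * (z ^ i)⁻¹ * a⁻¹) * z⁻¹ * (z * a * z⁻¹ * a⁻¹) := by rw [pow_succ']; group
          _ = _ := by rw [ih, hfix, pow_succ]
    rw [hp]
    obtain ⟨c, rfl⟩ := hm
    rw [pow_succ, pow_mul, E.elem.2 _ (mul_mem (conjA hzN ha) (inv_mem ha)), one_pow, one_mul]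
  have hzu : z ^ m ∈ cen u := by
    refine pow_mem (mem_centralizer_singleton_iff.2 (mul_inv_eq_iff_eq_mul.1 ?_)) m
    calc z * u * z⁻¹ = n * (x * (n⁻¹ * u * n) * x⁻¹) * n⁻¹ := by rw [hz]; group
      _ = u := by rw [hxu]; group
  set zm : ↥(cen u) := ⟨z ^ m, hzu⟩ with hzmdef
  have hzmN : (zm : G) ∈ normalizer (E.A : Set G) := pow_mem hzN m
  have hzm2 : ∃ k : ℕ, (bar u zm) ^ 2 ^ k = 1 := ⟨k, by
    rw [← map_pow, show zm ^ 2 ^ k = 1 from Subtype.ext (by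
      show (z ^ m) ^ 2 ^ k = 1
      rw [← pow_mul, mul_comm, ← hzord, pow_orderOf_eq_one]), map_one]⟩
  have hzmB : bar u zm ∈ normalizer (img u E.A : Set (CenBar u)) := by
    have hfw : ∀ s : ↥(cen u), (s : G) ∈ normalizer (E.A : Set G) →
        ∀ c ∈ img u E.A, bar u s * c * (bar u s)⁻¹ ∈ img u E.A := by
      intro s hs c hc
      obtain ⟨c₀, hc₀, hc₀c, rfl⟩ := mem_img.1 hc
      rw [← map_inv, ← map_mul, ← map_mul]
      exact ⟨s * ⟨c₀, hc₀c⟩ * s⁻¹, (show (s : G) * c₀ * (s : G)⁻¹ ∈ E.A from conjA hs hc₀), rfl⟩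
    rw [mem_normalizer_iff]
    refine fun c => ⟨hfw zm hzmN c, fun hc => ?_⟩
    have := hfw zm⁻¹ (by simpa using inv_mem hzmN) _ hc
    simpa [mul_assoc] using this
  -- it normalises `L`
  have hzL : bar u zm ∈ normalizer (L : Set (CenBar u)) := by
    by_contra hnot
    set L₂ := L.map (MulAut.conj (bar u zm)).toMonoidHom with hL₂
    have hne2 : L₂ ≠ L := fun h => hnot ((mem_normalizer_iff_map_conj_eq).2 h)
    have hcomm2 : L₂ ≤ centralizer (L : Set (CenBar u)) :=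
      CfsgLib.Components.le_centralizer_of_commutator_eq_bot
        (CfsgLib.Components.commutator_components_eq_bot
          (CfsgLib.Components.isComponent_conj _ hL.1) hL.1 hne2)
    have hWA : W ≤ E.A := inf_le_left
    have hle : Nat.card W ≤ Nat.card ↥(V.map (MulAut.conj n).toMonoidHom) := by
      refine Nat.card_le_card_of_injective (fun w : W => (⟨_, (hza w (hWA w.2)).1⟩ :
        ↥(V.map (MulAut.conj n).toMonoidHom))) fun w w' h => ?_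
      have h' : z * (w : G) * z⁻¹ * (w : G)⁻¹ = z * (w' : G) * z⁻¹ * (w' : G)⁻¹ := congrArg Subtype.val h
      set d : G := (w : G) * (w' : G)⁻¹ with hd
      have hdW : d ∈ W := mul_mem w.2 (inv_mem w'.2)
      have hdA := hWA hdW
      have hzd : z * d * z⁻¹ * d⁻¹ = 1 := by
        have h1 := E.comm_mul_right hzN hdA (hWA w'.2)
        rw [show d * (w' : G) = w by rw [hd, inv_mul_cancel_right], h'] at h1
        exact (mul_eq_right.1 h1.symm)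
      obtain ⟨hdA', hdc, hdW₁⟩ := mem_piece'.1 hdW
      have hfixd : (zm : G) * d * (zm : G)⁻¹ = d := mul_inv_eq_one.1 (by rw [show (zm : G) = z ^ m from rfl, hzm d hdA, hzd])
      have hdL₂ : bar u ⟨d, hdc⟩ ∈ L₂ := by
        refine ⟨bar u ⟨d, hdc⟩, hg.le hdW₁, ?_⟩
        show bar u zm * bar u ⟨d, hdc⟩ * (bar u zm)⁻¹ = _
        rw [← map_inv, ← map_mul, ← map_mul]
        exact congrArg _ (Subtype.ext hfixd)
      have h1 : bar u ⟨d, hdc⟩ = 1 := mem_bot.1 (hg.inf_eq ▸ mem_inf.2 ⟨hdW₁, hcomm2 hdL₂⟩)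
      have hd1 : d = 1 := congrArg Subtype.val (eq_one_of_bar_eq E.isPGroup_A (a := ⟨d, hdc⟩) hdA h1)
      exact Subtype.ext (mul_inv_eq_one.1 hd1)
    rw [card_map_of_injective (MulAut.conj n).injective] at hle
    omega
  -- contradiction
  have hfin := hC.two_elt _ hzL hzmB hzm2 _ (himgA _ (conjA hn ha₁))
  have hmem : z * (n * a₁ * n⁻¹) * z⁻¹ * (n * a₁ * n⁻¹)⁻¹ ∈ U := by
    rw [← hzm _ (conjA hn ha₁)]
    have hA' := conjA hn ha₁
    refine mem_piece'.2 ⟨mul_mem (conjA hzmN hA') (inv_mem hA'),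
      mul_mem (mul_mem (mul_mem hzu (E.le_cen hu hA')) (inv_mem hzu)) (inv_mem (E.le_cen hu hA')), ?_⟩
    rw [← map_inv, ← map_inv, ← map_mul, ← map_mul, ← map_mul] at hfin
    exact hfin
  apply hxa₁
  refine ⟨_, hmem, ?_⟩
  show n⁻¹ * (z * (n * a₁ * n⁻¹) * z⁻¹ * (n * a₁ * n⁻¹)⁻¹) * n⁻¹⁻¹ = x * a₁ * x⁻¹ * a₁⁻¹
  rw [hz]; group

end CfsgLib.Goldschmidt
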