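import Cfsg.Agent.Lib.Goldschmidt.PieceFamily

/-!
# Two cycles normalising each other generate the same group

If two cycles on the same pair normalise the groups generated by each other and do not commute, their common
powers `K` commute with both; the homomorphisms commuting with both cycles embed in `W` with image `Φ`,
`|Φ|² ≤ |W|`, and the group of each cycle has order at most `|K|² < |W| - 1`.
-/

set_option autoImplicit false
set_option linter.unusedSectionVars false

namespace CfsgLib.Goldschmidt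

open Subgroup

universe u

variable {V : Type u} [CommGroup V] [Finite V] {U W : Subgroup V}

namespace IsPieceCycle

variable {g : MulAut V}

/-- An automorphism commuting with a cycle and acting as it should on `U` and `W` is a power of it. -/
theorem mem_zpowers_of_commute (hc : IsPieceCycle U W g) (hUW : IsCompl U W) (hW : W ≠ ⊥) {f : MulAut V}
    (hfU : ∀ x ∈ U, f x = x) (hfW : ∀ x ∈ W, f x ∈ W) (hfg : f * g = g * f) : f ∈ zpowers g := by
  obtain ⟨⟨w, hw⟩, hw1⟩ := Subgroup.ne_bot_iff_exists_ne_one.1 hW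
  have hw1' : w ≠ 1 := fun h => hw1 (Subtype.ext h)
  obtain ⟨n, hn⟩ := hc.trans w hw hw1' (f w) (hfW w hw)
    (fun h => hw1' (f.injective (h.trans (map_one f).symm)))
  suffices h : f = g ^ n by rw [h]; exact pow_mem (mem_zpowers g) n
  refine MulEquiv.ext fun x => ?_
  obtain ⟨a, ha, c, hcW, rfl⟩ := exists_mul hUW x
  rw [map_mul, map_mul, hfU a ha, hc.fix_pow n a ha]
  congr 1
  by_cases hc1 : c = 1
  · rw [hc1, map_one, map_one]
  obtain ⟨k, rfl⟩ := hc.trans w hw hw1' c hcW hc1
  rw [← MulAut.mul_apply, ((show Commute f g from hfg).pow_right k).eq, MulAut.mul_apply, ← hn,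
    ← MulAut.mul_apply, ← MulAut.mul_apply, ← pow_add, ← pow_add, add_comm]

end IsPieceCycle

/-- Cycles normalising each other. -/
theorem mem_zpowers_of_mutual {g y : MulAut V} (hg : IsPieceCycle U W g) (hy : IsPieceCycle U W y)
    (hUW : IsCompl U W) (hW : W ≠ ⊥) (h1 : y * g * y⁻¹ ∈ zpowers g) (h2 : g * y * g⁻¹ ∈ zpowers y) :
    y ∈ zpowers g := by
  classical
  by_cases hcm : y * g = g * y
  · exact hg.mem_zpowers_of_commute hUW hW hy.fix hy.maps hcm
  exfalso
  obtain ⟨⟨w, hw⟩, hw1⟩ := Subgroup.ne_bot_iff_exists_ne_one.1 hW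
  have hw1' : w ≠ 1 := fun h => hw1 (Subtype.ext h)
  -- the common powers
  set K := zpowers g ⊓ zpowers y with hK
  have hKg : ∀ k ∈ K, Commute k g := fun k hk => by
    obtain ⟨i, rfl⟩ := mem_zpowers_iff.1 hk.1
    exact (Commute.refl g).zpow_left i
  have hKy : ∀ k ∈ K, Commute k y := fun k hk => by
    obtain ⟨i, rfl⟩ := mem_zpowers_iff.1 hk.2
    exact (Commute.refl y).zpow_left i
  set c := y * g * y⁻¹ * g⁻¹ with hc
  have hcK : c ∈ K := by
    refine mem_inf.2 ⟨mul_mem h1 (inv_mem (mem_zpowers g)), ?_⟩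
    rw [show c = y * (g * y * g⁻¹)⁻¹ by rw [hc]; group]
    exact mul_mem (mem_zpowers y) (inv_mem h2)
  have hpow : ∀ j : ℕ, y ^ j * g * (y ^ j)⁻¹ = c ^ j * g := by
    intro j
    induction j with
    | zero => simp
    | succ j ih =>
      calc y ^ (j + 1) * g * (y ^ (j + 1))⁻¹ = y * (y ^ j * g * (y ^ j)⁻¹) * y⁻¹ := by rw [pow_succ']; group
        _ = y * (c ^ j * g) * y⁻¹ := by rw [ih]
        _ = (c ^ j * y) * g * y⁻¹ := by rw [← mul_assoc y, ((hKy c hcK).pow_left j).symm.eq]
        _ = c ^ (j + 1) * g := by rw [pow_succ, hc]; group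
  -- `|zpowers y| ≤ |K|²`
  have hcard : orderOf y ≤ Nat.card K * Nat.card K := by
    set r := orderOf c with hr
    have hrK : r ≤ Nat.card K := Nat.le_of_dvd Nat.card_pos (Subgroup.orderOf_dvd_natCard _ hcK)
    have hyr : y ^ r ∈ K := by
      refine ⟨hg.mem_zpowers_of_commute hUW hW (hy.fix_pow r) (hy.maps_pow r) ?_, pow_mem (mem_zpowers y) r⟩
      have := hpow r
      rw [pow_orderOf_eq_one, one_mul, mul_inv_eq_iff_eq_mul] at this
      exact this
    have hord : (y ^ r) ^ Nat.card K = 1 := by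
      obtain ⟨d, hd⟩ := Subgroup.orderOf_dvd_natCard _ hyr
      rw [hd, pow_mul, pow_orderOf_eq_one, one_pow]
    rw [← pow_mul] at hord
    calc orderOf y ≤ r * Nat.card K :=
          Nat.le_of_dvd (Nat.mul_pos (orderOf_pos c) Nat.card_pos) (orderOf_dvd_of_pow_eq_one hord)
      _ ≤ _ := Nat.mul_le_mul_right _ hrK
  -- the homomorphisms commuting with both
  let Φ : Subgroup W :=
    { carrier := {x | ∃ φ : W →* W, φ ⟨w, hw⟩ = x ∧
        (∀ z : W, ((φ ⟨g z, hg.maps z z.2⟩ : W) : V) = g (φ z)) ∧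
        (∀ z : W, ((φ ⟨y z, hy.maps z z.2⟩ : W) : V) = y (φ z))}
      one_mem' := ⟨1, rfl, fun z => (map_one g).symm, fun z => (map_one y).symm⟩
      mul_mem' := by
        rintro a b ⟨φ, rfl, p1, p2⟩ ⟨ψ, rfl, q1, q2⟩
        exact ⟨φ * ψ, rfl,
          fun z => by simp only [MonoidHom.mul_apply, Subgroup.coe_mul, map_mul, p1 z, q1 z],
          fun z => by simp only [MonoidHom.mul_apply, Subgroup.coe_mul, map_mul, p2 z, q2 z]⟩
      inv_mem' := by
        rintro a ⟨φ, rfl, p1, p2⟩
        exact ⟨φ⁻¹, rfl,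
          fun z => by simp only [MonoidHom.inv_apply, Subgroup.coe_inv, map_inv, p1 z],
          fun z => by simp only [MonoidHom.inv_apply, Subgroup.coe_inv, map_inv, p2 z]⟩ }
  -- the restriction of a common power
  have hKmaps : ∀ k ∈ K, ∀ z ∈ W, k z ∈ W := by
    intro k hk z hz
    obtain ⟨n, rfl⟩ := (Submonoid.mem_powers_iff _ _).1 (mem_powers_iff_mem_zpowers.2 hk.1)
    exact hg.maps_pow n z hz
  have hKΦ : ∀ k (hk : k ∈ K), (⟨k w, hKmaps k hk w hw⟩ : W) ∈ Φ := by
    intro k hk
    refine ⟨{ toFun := fun z => ⟨k (z : V), hKmaps k hk z z.2⟩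
              map_one' := Subtype.ext (map_one k)
              map_mul' := fun a b => Subtype.ext (map_mul k (a : V) (b : V)) }, rfl, fun z => ?_, fun z => ?_⟩
    · show k (g z) = g (k z)
      rw [← MulAut.mul_apply, (hKg k hk).eq, MulAut.mul_apply]
    · show k (y z) = y (k z)
      rw [← MulAut.mul_apply, (hKy k hk).eq, MulAut.mul_apply]
  -- two automorphisms agreeing at `w` on top of the common structure agree
  have hΦK : Nat.card K < Nat.card Φ := by
    let f : K → Φ := fun k => ⟨⟨(k : MulAut V) w, hKmaps _ k.2 w hw⟩, hKΦ _ k.2⟩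
    have hinj : Function.Injective f := by
      intro a b h
      have h' : (a : MulAut V) w = (b : MulAut V) w := congrArg (fun q : Φ => ((q : W) : V)) h
      obtain ⟨i, hi⟩ := (Submonoid.mem_powers_iff _ _).1 (mem_powers_iff_mem_zpowers.2 a.2.1)
      obtain ⟨j, hj⟩ := (Submonoid.mem_powers_iff _ _).1 (mem_powers_iff_mem_zpowers.2 b.2.1)
      rw [← hi, ← hj] at h'
      refine Subtype.ext (hi.symm.trans (Eq.trans ?_ hj))
      refine MulEquiv.ext fun v => ?_
      obtain ⟨p, hp, d, hd, rfl⟩ := IsPieceCycle.exists_mul hUW v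
      rw [map_mul, map_mul, hg.fix_pow i p hp, hg.fix_pow j p hp]
      congr 1
      by_cases hd1 : d = 1
      · rw [hd1, map_one, map_one]
      obtain ⟨l, rfl⟩ := hg.trans w hw hw1' d hd hd1
      rw [← MulAut.mul_apply, ← pow_add, add_comm, pow_add, MulAut.mul_apply, h',
        ← MulAut.mul_apply, ← pow_add, add_comm, pow_add, MulAut.mul_apply]
    classical
    have := Fintype.ofFinite K
    have := Fintype.ofFinite Φ
    rw [Nat.card_eq_fintype_card, Nat.card_eq_fintype_card]
    refine Fintype.card_lt_of_injective_of_notMem f hinj (b := 1) ?_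
    rintro ⟨k, hk⟩
    have : (k : MulAut V) w = 1 := congrArg (fun q : Φ => ((q : W) : V)) hk
    exact hw1' ((k : MulAut V).injective (this.trans (map_one _).symm))
  have hΦtop : Φ ≠ ⊤ := by
    intro htop
    obtain ⟨φ, hφw, hφg, hφy⟩ := htop ▸ mem_top (⟨g w, hg.maps w hw⟩ : W)
    have hgφ : ∀ z : W, ((φ z : W) : V) = g z := by
      rintro ⟨z, hz⟩
      by_cases hz1 : z = 1
      · subst hz1
        rw [show (⟨(1 : V), hz⟩ : W) = 1 from rfl, map_one, OneMemClass.coe_one, map_one]
      obtain ⟨l, rfl⟩ := hg.trans w hw hw1' z hz hz1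
      clear hz1
      induction l with
      | zero =>
        show ((φ ⟨w, _⟩ : W) : V) = g w
        exact congrArg Subtype.val hφw
      | succ l ih =>
        have hzl : (g ^ l) w ∈ W := hg.maps_pow l w hw
        rw [show (⟨(g ^ (l + 1)) w, hz⟩ : W) = ⟨g ((g ^ l) w), hg.maps _ hzl⟩ from
          Subtype.ext (by show (g ^ (l + 1)) w = _; rw [pow_succ', MulAut.mul_apply]), hφg ⟨_, hzl⟩, ih hzl]
    apply hcm
    refine MulEquiv.ext fun v => ?_
    obtain ⟨p, hp, d, hd, rfl⟩ := IsPieceCycle.exists_mul hUW v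
    rw [MulAut.mul_apply, MulAut.mul_apply, map_mul, map_mul, map_mul, map_mul,
      hg.fix p hp, hy.fix p hp, hg.fix p hp]
    congr 1
    have e := hφy ⟨d, hd⟩
    rw [hgφ, hgφ] at e
    exact e.symm
  have hΦsq : Nat.card Φ * Nat.card Φ ≤ Nat.card W := by
    obtain ⟨x, -, hx⟩ : ∃ x : W, x ∈ (⊤ : Subgroup W) ∧ x ∉ Φ := by
      by_contra hno
      push Not at hno
      exact hΦtop (eq_top_iff.2 fun x hx => hno x hx)
    by_cases hx1 : x = 1
    · exact absurd (hx1 ▸ one_mem Φ) hx
    choose φ hφw hφg hφy using fun a : Φ => a.2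
    rw [← Nat.card_prod]
    refine Nat.card_le_card_of_injective (fun p : Φ × Φ => (p.1 : W) * φ p.2 x) ?_
    rintro ⟨a, b⟩ ⟨a', b'⟩ h
    have h' : (a : W) * φ b x = (a' : W) * φ b' x := h
    by_cases hb : φ b = φ b'
    · rw [hb] at h'
      exact Prod.ext (Subtype.ext (mul_right_cancel h')) (Subtype.ext (by rw [← hφw b, ← hφw b', hb]))
    exfalso
    -- `ψ := φ b / φ b'` is bijective and commutes with both cycles
    set ψ := φ b * (φ b')⁻¹ with hψ
    have hψg : ∀ z : W, ((ψ ⟨g z, hg.maps z z.2⟩ : W) : V) = g (ψ z) := fun z => by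
      simp only [hψ, MonoidHom.mul_apply, MonoidHom.inv_apply, Subgroup.coe_mul, Subgroup.coe_inv, map_mul, map_inv, hφg b z, hφg b' z]
    have hψy : ∀ z : W, ((ψ ⟨y z, hy.maps z z.2⟩ : W) : V) = y (ψ z) := fun z => by
      simp only [hψ, MonoidHom.mul_apply, MonoidHom.inv_apply, Subgroup.coe_mul, Subgroup.coe_inv, map_mul, map_inv, hφy b z, hφy b' z]
    have hψinj : Function.Injective ψ := by
      rw [injective_iff_map_eq_one]
      intro z hz
      by_contra hz1
      refine hb (MonoidHom.ext fun d => ?_)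
      have hker : ∀ l : ℕ, ψ ⟨(g ^ l) z, hg.maps_pow l z z.2⟩ = 1 := by
        intro l
        induction l with
        | zero => exact hz
        | succ l ih =>
          refine Subtype.ext ?_
          rw [show (⟨(g ^ (l + 1)) z, hg.maps_pow (l + 1) z z.2⟩ : W) =
            ⟨g ((g ^ l) z), hg.maps _ (hg.maps_pow l z z.2)⟩ from
              Subtype.ext (by show (g ^ (l + 1)) (z : V) = _; rw [pow_succ', MulAut.mul_apply]),
            hψg ⟨_, hg.maps_pow l z z.2⟩, ih, OneMemClass.coe_one, map_one]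
      have hd : ψ d = 1 := by
        by_cases hd1 : d = 1
        · rw [hd1, map_one]
        obtain ⟨l, hl⟩ := hg.trans z z.2 (fun e => hz1 (Subtype.ext e)) d d.2 (fun e => hd1 (Subtype.ext e))
        rw [show d = ⟨(g ^ l) z, hg.maps_pow l z z.2⟩ from Subtype.ext hl.symm]
        exact hker l
      rw [hψ, MonoidHom.mul_apply, MonoidHom.inv_apply, mul_inv_eq_one] at hd
      exact hd
    have hbij : Function.Bijective ψ := Finite.injective_iff_bijective.1 hψinj
    have hxv : ψ x = (a : W)⁻¹ * a' := by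
      rw [hψ, MonoidHom.mul_apply, MonoidHom.inv_apply, mul_inv_eq_iff_eq_mul, mul_assoc,
        eq_inv_mul_iff_mul_eq, h']
    obtain ⟨θ, hθw, hθg, hθy⟩ := mul_mem (inv_mem a.2) a'.2
    let e := MulEquiv.ofBijective ψ hbij
    refine hx ⟨e.symm.toMonoidHom.comp θ, ?_, fun z => ?_, fun z => ?_⟩
    · refine hψinj ?_
      rw [hxv]
      exact (e.apply_symm_apply _).trans hθw
    · have hm : g ((e.symm (θ z) : W) : V) ∈ W := hg.maps _ (e.symm (θ z)).2
      have : ψ ⟨_, hm⟩ = θ ⟨g z, hg.maps z z.2⟩ := by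
        refine Subtype.ext ?_
        rw [hψg (e.symm (θ z)), hθg z]
        exact congrArg (fun q : W => g (q : V)) (e.apply_symm_apply (θ z))
      show ((e.symm (θ ⟨g z, hg.maps z z.2⟩) : W) : V) = g ((e.symm (θ z) : W) : V)
      rw [← this]
      exact congrArg Subtype.val (e.symm_apply_apply ⟨_, hm⟩)
    · have hm : y ((e.symm (θ z) : W) : V) ∈ W := hy.maps _ (e.symm (θ z)).2
      have : ψ ⟨_, hm⟩ = θ ⟨y z, hy.maps z z.2⟩ := by
        refine Subtype.ext ?_
        rw [hψy (e.symm (θ z)), hθy z]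
        exact congrArg (fun q : W => y (q : V)) (e.apply_symm_apply (θ z))
      show ((e.symm (θ ⟨y z, hy.maps z z.2⟩) : W) : V) = y ((e.symm (θ z) : W) : V)
      rw [← this]
      exact congrArg Subtype.val (e.symm_apply_apply ⟨_, hm⟩)
  have hy' := hy.orderOf_eq hUW hW
  have hlt : (Nat.card K + 1) * (Nat.card K + 1) ≤ Nat.card Φ * Nat.card Φ := Nat.mul_le_mul hΦK hΦK
  have hpos : 0 < Nat.card K := Nat.card_pos
  nlinarith

end CfsgLib.Goldschmidt
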