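import Cfsg.Agent.Lib.Goldschmidt.Defs
import Cfsg.Agent.Lib.Components.Balance
import Cfsg.Agent.Lib.Components.FStar
import Cfsg.Agent.Lib.Tech46.BalanceAut
import Cfsg.Agent.S1249

/-!
# Goldschmidt's theorem: groups with trivial core and a strongly closed abelian subgroup

`H` has trivial core, `B` is abelian and strongly closed in a Sylow 2-subgroup `T` and the components moved by
`B` are good.  Then `B` is normal if it centralises the layer, in general the layer and `N(B)` generate `H`,
the signalisers of the subgroups of order at least eight of an elementary `B` are trivial, and a cycle inside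
the layer moves one component only.
-/

set_option autoImplicit false
set_option linter.unusedSectionVars false
set_option linter.style.haveILetI false
set_option linter.unusedVariables false

namespace CfsgLib.Goldschmidt

open Subgroup CfsgLib.Walter.RankFour

universe u

variable {H : Type u} [Group H] [Finite H]

local instance : Fact (Nat.Prime 2) := ⟨Nat.prime_two⟩

/-- An element of a 2-group with a trivial odd power is trivial. -/
theorem eq_one_of_odd_pow {R : Subgroup H} (hR : IsPGroup 2 ↥R) {z : H} (hz : z ∈ R) {n : ℕ}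
    (hn : Odd n) (h : z ^ n = 1) : z = 1 := by
  obtain ⟨k, hk⟩ := hR ⟨z, hz⟩
  refine orderOf_eq_one_iff.1 (Nat.eq_one_of_dvd_coprimes ((Nat.coprime_two_left.2 hn).pow_left k) ?_
    (orderOf_dvd_of_pow_eq_one h))
  exact orderOf_dvd_of_pow_eq_one (congrArg Subtype.val hk)

/-- An element of odd order acting by a translation which it centralises: the translation has odd order. -/
theorem pow_eq_one_of_translation {y a z : H} (hy : Commute y z) (h : y * a * y⁻¹ = z * a) :
    z ^ orderOf y = 1 := by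
  have hk : ∀ k : ℕ, y ^ k * a * (y ^ k)⁻¹ = z ^ k * a := by
    intro k
    induction k with
    | zero => simp
    | succ k ih =>
      calc y ^ (k + 1) * a * (y ^ (k + 1))⁻¹ = y ^ k * (y * a * y⁻¹) * (y ^ k)⁻¹ := by
            rw [pow_succ]; group
        _ = z * (y ^ k * a * (y ^ k)⁻¹) := by
            rw [h, ← mul_assoc, (hy.pow_left k).eq]; group
        _ = z ^ (k + 1) * a := by rw [ih, ← mul_assoc, ← pow_succ']
  have := hk (orderOf y)
  rw [pow_orderOf_eq_one, one_mul, inv_one, mul_one] at this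
  exact mul_eq_right.1 this.symm

variable {T : Sylow 2 H} {B : Subgroup H}

/-- The layer centralises `O₂`. -/
theorem layer_le_centralizer_twoCore (hO : Cfsg.pPrimeCore 2 H = ⊥) :
    Cfsg.layer H ≤ centralizer (Cfsg.pCore 2 H : Set H) := by
  rw [← Components.fitting_eq_pCore_of_pPrimeCore_eq_bot hO]
  exact Components.layer_le_centralizer_fitting

/-- A strongly closed abelian subgroup centralising the layer is contained in `O₂`. -/
theorem inf_centralizer_layer_le_twoCore (hO : Cfsg.pPrimeCore 2 H = ⊥) (hB : IsMulCommutative ↥B)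
    (hsc : Cfsg.IsStronglyClosed B (T : Subgroup H)) :
    B ⊓ centralizer (Cfsg.layer H : Set H) ≤ Cfsg.pCore 2 H := by
  classical
  set Q := Cfsg.pCore 2 H with hQ
  have hQT : Q ≤ (T : Subgroup H) := CfsgLib.PCore.pCore_le_sylow T
  haveI hQn : Q.Normal := Cfsg.pCore_normal 2 H
  set D : Subgroup H := B ⊓ Q with hD
  haveI hDn : D.Normal := ⟨fun x hx g =>
    ⟨hsc.2 x hx.1 g (hQT (hQn.conj_mem x hx.2 g)), hQn.conj_mem x hx.2 g⟩⟩
  haveI : (Q.map (QuotientGroup.mk' D)).Normal := hQn.map _ (QuotientGroup.mk'_surjective D)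
  set K : Subgroup H := centralizer (Cfsg.layer H : Set H) ⊓ centralizer (D : Set H) ⊓
    (centralizer (Q.map (QuotientGroup.mk' D) : Set (H ⧸ D))).comap (QuotientGroup.mk' D) with hK
  haveI : K.Normal := by
    rw [hK]
    infer_instance
  have hKp : IsPGroup 2 ↥K := by
    rintro ⟨k₀, hk₀⟩
    obtain ⟨a, m, hm, hord⟩ := Nat.exists_eq_two_pow_mul_odd (orderOf_pos k₀).ne'
    refine ⟨a, Subtype.ext ?_⟩
    show k₀ ^ 2 ^ a = 1
    have hkK : k₀ ^ 2 ^ a ∈ K := pow_mem hk₀ _
    have hodd : Odd (orderOf (k₀ ^ 2 ^ a)) := hm.of_dvd_nat (orderOf_dvd_of_pow_eq_one (by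
      rw [← pow_mul, ← hord, pow_orderOf_eq_one]))
    generalize k₀ ^ 2 ^ a = k at hkK hodd ⊢
    obtain ⟨⟨hkE, hkD⟩, hkQ⟩ := hkK
    -- `k` centralises `Q`
    have hfix : k ∈ centralizer (Q : Set H) := mem_centralizer_iff.2 fun q hq => by
      set d := k * q * k⁻¹ * q⁻¹ with hd
      have hdD : d ∈ D := by
        rw [← QuotientGroup.eq_one_iff]
        have hc := mem_centralizer_iff.1 hkQ _ (mem_map_of_mem (QuotientGroup.mk' D) hq)
        show QuotientGroup.mk' D (k * q * k⁻¹ * q⁻¹) = 1
        rw [map_mul, map_mul, map_mul, map_inv, map_inv, ← hc]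
        group
      have hd1 : d = 1 := eq_one_of_odd_pow (CfsgLib.PCore.pCore_isPGroup (p := 2)) hdD.2 hodd
        (pow_eq_one_of_translation (a := q) (mem_centralizer_iff.1 hkD d hdD).symm (by rw [hd]; group))
      rw [hd, mul_inv_eq_one, mul_inv_eq_iff_eq_mul] at hd1
      exact hd1.symm
    have hkF : k ∈ Q := by
      rw [hQ, ← Components.fitting_eq_pCore_of_pPrimeCore_eq_bot hO]
      refine Components.centralizer_generalizedFitting_le_fitting ?_
      rw [← zpowers_le, le_centralizer_iff]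
      refine sup_le ?_ ?_
      · rwa [← le_centralizer_iff, zpowers_le]
      · rwa [Components.fitting_eq_pCore_of_pPrimeCore_eq_bot hO, ← le_centralizer_iff, zpowers_le]
    exact eq_one_of_odd_pow (CfsgLib.PCore.pCore_isPGroup (p := 2)) hkF hodd (pow_orderOf_eq_one k)
  intro b hb
  refine CfsgLib.PCore.le_pCore inferInstance hKp ⟨⟨hb.2, mem_centralizer_iff.2 fun d hd => ?_⟩,
    mem_centralizer_iff.2 ?_⟩
  · exact congrArg Subtype.val (hB.1.comm (⟨d, hd.1⟩ : B) ⟨b, hb.1⟩)
  · rintro _ ⟨q, hq, rfl⟩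
    rw [← map_mul, ← map_mul]
    refine QuotientGroup.eq.2 (Subgroup.mem_inf.2 ⟨?_, ?_⟩)
    · -- the commutator is in `B`
      have h1 := hsc.2 b hb.1 q⁻¹ (by
        rw [inv_inv]
        exact mul_mem (mul_mem (inv_mem (hQT hq)) (hsc.1 hb.1)) (hQT hq))
      rw [inv_inv] at h1
      rw [show (q * b)⁻¹ * (b * q) = b⁻¹ * (q⁻¹ * b * q) by group]
      exact mul_mem (inv_mem hb.1) h1
    · have h1 := hQn.conj_mem _ (inv_mem hq) b⁻¹
      rw [inv_inv] at h1
      rw [show (q * b)⁻¹ * (b * q) = b⁻¹ * q⁻¹ * b * q by group]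
      exact mul_mem h1 hq

/-- `B ∩ C(layer)` is normal. -/
theorem inf_centralizer_layer_normal (hO : Cfsg.pPrimeCore 2 H = ⊥) (hB : IsMulCommutative ↥B)
    (hsc : Cfsg.IsStronglyClosed B (T : Subgroup H)) :
    (B ⊓ centralizer (Cfsg.layer H : Set H)).Normal := by
  have heq : B ⊓ centralizer (Cfsg.layer H : Set H) = B ⊓ Cfsg.pCore 2 H :=
    le_antisymm (le_inf inf_le_left (inf_centralizer_layer_le_twoCore hO hB hsc))
      (inf_le_inf le_rfl (le_centralizer_iff.1 (layer_le_centralizer_twoCore hO)))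
  rw [heq]
  haveI : (Cfsg.pCore 2 H).Normal := Cfsg.pCore_normal 2 H
  exact ⟨fun x hx g => ⟨hsc.2 x hx.1 g (CfsgLib.PCore.pCore_le_sylow T
    ((Cfsg.pCore_normal 2 H).conj_mem x hx.2 g)), (Cfsg.pCore_normal 2 H).conj_mem x hx.2 g⟩⟩

/-- The subgroup generated by the moved parts of the components. -/
def compParts (B : Subgroup H) : Subgroup H :=
  sSup {W : Subgroup H | ∃ L : Subgroup H, ∃ g : H, IsAComp B L ∧ CompCycle B L W g}

theorem compParts_le (B : Subgroup H) : compParts B ≤ B ⊓ Cfsg.layer H :=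
  sSup_le fun _ ⟨_, _, hL, hc⟩ => le_inf hc.cycle.le (hc.le.trans (Components.component_le_layer hL.1))

/-- An element of `B` is a product of component parts and an element centralising the layer. -/
theorem exists_compPart (hB : IsMulCommutative ↥B) (hloc : LocalFacts (T : Subgroup H) B) {s : H}
    (hs : s ∈ B) :
    ∃ e ∈ compParts B, e⁻¹ * s ∈ B ⊓ centralizer (Cfsg.layer H : Set H) := by
  classical
  haveI : Fintype (Subgroup H) := Fintype.ofFinite _
  suffices h : ∀ F : Finset (Subgroup H), (∀ L ∈ F, Cfsg.IsComponent L) →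
      ∃ e ∈ compParts B, ∀ L ∈ F, e⁻¹ * s ∈ centralizer (L : Set H) by
    obtain ⟨e, he, hc⟩ := h (Finset.univ.filter fun L : Subgroup H => Cfsg.IsComponent L)
      (fun L hL => (Finset.mem_filter.1 hL).2)
    refine ⟨e, he, Subgroup.mem_inf.2 ⟨mul_mem (inv_mem (compParts_le B he).1) hs, ?_⟩⟩
    rw [← zpowers_le, le_centralizer_iff]
    refine sSup_le fun L hL => ?_
    rw [← le_centralizer_iff, zpowers_le]
    exact hc L (Finset.mem_filter.2 ⟨Finset.mem_univ _, hL⟩)
  intro F
  induction F using Finset.induction_on with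
  | empty => exact fun _ => ⟨1, one_mem _, fun L hL => absurd hL (Finset.notMem_empty L)⟩
  | insert L F hLF ih =>
    intro hF
    obtain ⟨e, he, hc⟩ := ih fun K hK => hF K (Finset.mem_insert_of_mem hK)
    have hL := hF L (Finset.mem_insert_self L F)
    have hes : e⁻¹ * s ∈ B := mul_mem (inv_mem (compParts_le B he).1) hs
    by_cases hA : IsAComp B L
    · obtain ⟨W, g, hcyc⟩ := hloc.exists_cycle L hA
      obtain ⟨w, hw, hwc⟩ := hcyc.exists_mul _ hes
      have hwU : w ∈ compParts B := le_sSup (s := {W : Subgroup H | ∃ L : Subgroup H, ∃ g : H,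
        IsAComp B L ∧ CompCycle B L W g}) ⟨L, g, hA, hcyc⟩ hw
      refine ⟨e * w⁻¹, mul_mem he (inv_mem hwU), fun K hK => ?_⟩
      have heq : (e * w⁻¹)⁻¹ * s = e⁻¹ * s * w := by
        rw [mul_inv_rev, inv_inv, mul_assoc]
        exact congrArg Subtype.val (hB.1.comm (⟨w, hcyc.cycle.le hw⟩ : B) ⟨_, hes⟩)
      rw [heq]
      rcases Finset.mem_insert.1 hK with rfl | hK
      · exact hwc
      · have hne : L ≠ K := fun h => hLF (h ▸ hK)
        exact mul_mem (hc K hK) (Components.le_centralizer_of_commutator_eq_bot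
          (Components.commutator_components_eq_bot hL (hF K (Finset.mem_insert_of_mem hK)) hne)
          (hcyc.le hw))
    · refine ⟨e, he, fun K hK => ?_⟩
      rcases Finset.mem_insert.1 hK with rfl | hK
      · exact (not_not.1 fun h => hA ⟨hL, h⟩) hes
      · exact hc K hK

/-- Without moved components `B` is normal. -/
theorem normal_of_no_comp (hO : Cfsg.pPrimeCore 2 H = ⊥) (hB : IsMulCommutative ↥B)
    (hsc : Cfsg.IsStronglyClosed B (T : Subgroup H)) (hno : ∀ L : Subgroup H, ¬ IsAComp B L) :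
    B.Normal := by
  have hle : B ≤ centralizer (Cfsg.layer H : Set H) := by
    rw [le_centralizer_iff]
    refine sSup_le fun L hL => ?_
    rw [← le_centralizer_iff]
    exact not_not.1 fun h => hno L ⟨hL, h⟩
  simpa [inf_eq_left.2 hle] using inf_centralizer_layer_normal hO hB hsc

/-- `B` and the layer generate a normal subgroup. -/
theorem sup_layer_normal (hO : Cfsg.pPrimeCore 2 H = ⊥) (hB : IsMulCommutative ↥B)
    (hsc : Cfsg.IsStronglyClosed B (T : Subgroup H)) (hloc : LocalFacts (T : Subgroup H) B) :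
    (B ⊔ Cfsg.layer H).Normal := by
  haveI := inf_centralizer_layer_normal hO hB hsc
  have heq : B ⊔ Cfsg.layer H = (B ⊓ centralizer (Cfsg.layer H : Set H)) ⊔ Cfsg.layer H := by
    refine le_antisymm (sup_le (fun s hs => ?_) le_sup_right) (sup_le_sup_right inf_le_left _)
    obtain ⟨e, he, hc⟩ := exists_compPart hB hloc hs
    rw [show s = e * (e⁻¹ * s) by group]
    exact mul_mem (mem_sup_right (compParts_le B he).2) (mem_sup_left hc)
  rw [heq]
  infer_instance

/-- The layer and the normaliser of `B` generate `H`. -/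
theorem layer_sup_normalizer (hO : Cfsg.pPrimeCore 2 H = ⊥) (hB : IsMulCommutative ↥B)
    (hsc : Cfsg.IsStronglyClosed B (T : Subgroup H)) (hloc : LocalFacts (T : Subgroup H) B) :
    Cfsg.layer H ⊔ normalizer (B : Set H) = ⊤ := by
  classical
  haveI hMn := sup_layer_normal hO hB hsc hloc
  set M := B ⊔ Cfsg.layer H with hM
  rw [eq_top_iff]
  intro h _
  -- a Sylow subgroup of `M` containing `B`, inside one of `H`
  obtain ⟨P, hBP⟩ := ((T.2.to_le hsc.1).comap_of_injective M.subtype M.subtype_injective).exists_le_sylow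
  obtain ⟨T', hT'⟩ := (P.2.map M.subtype).exists_le_sylow
  have hP : ∀ x : ↥M, x ∈ (P : Subgroup ↥M) → (x : H) ∈ (T' : Subgroup H) := fun x hx =>
    hT' (mem_map_of_mem _ hx)
  have hsc' : Cfsg.IsStronglyClosed B (T' : Subgroup H) :=
    Cfsg.Agent.S1249.result T T' B (fun x hx => hP ⟨x, mem_sup_left hx⟩ (hBP hx)) hsc
  have hBh : IsPGroup 2 ↥((B.map (MulAut.conj h).toMonoidHom).subgroupOf M) :=
    ((T.2.to_le hsc.1).map _).comap_of_injective _ M.subtype_injective
  obtain ⟨R, hR⟩ := hBh.exists_le_sylow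
  obtain ⟨m, hm⟩ := MulAction.exists_smul_eq ↥M R P
  have hn : (m : H) * h ∈ normalizer (B : Set H) := by
    refine mem_normalizer_iff.2 ?_
    have hmap : ∀ x ∈ B, (m : H) * h * x * ((m : H) * h)⁻¹ ∈ B := by
      intro x hx
      refine hsc'.2 x hx _ ?_
      have hx' : h * x * h⁻¹ ∈ M := hMn.conj_mem x (mem_sup_left hx) h
      have : m * ⟨_, hx'⟩ * m⁻¹ ∈ (P : Subgroup ↥M) := by
        rw [← hm, Sylow.coe_subgroup_smul]
        exact ⟨⟨_, hx'⟩, hR ⟨x, hx, rfl⟩, rfl⟩
      have := hP _ this
      convert this using 1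
      simp [mul_assoc]
    have hmaps : B.map (MulAut.conj ((m : H) * h)).toMonoidHom = B := by
      refine eq_of_le_of_card_ge (by rintro _ ⟨x, hx, rfl⟩; exact hmap x hx) ?_
      rw [card_map_of_injective (MulEquiv.injective _)]
    intro x
    constructor
    · exact fun hx => hmap x hx
    · intro hx
      have hx' : (m : H) * h * x * ((m : H) * h)⁻¹ ∈ B := hx
      rw [← hmaps] at hx'
      obtain ⟨y, hy, e⟩ := hx'
      rwa [(MulAut.conj ((m : H) * h)).injective e] at hy
  rw [show h = (m : H)⁻¹ * ((m : H) * h) by group]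
  refine mul_mem (inv_mem ?_) (mem_sup_right hn)
  exact (sup_le (le_normalizer.trans le_sup_right) le_sup_left : M ≤ _) m.2

/-- The induced automorphism of the quotient by the centre. -/
noncomputable def descendCenter (L : Type u) [Group L] : MulAut L →* MulAut (L ⧸ center L) where
  toFun φ := QuotientGroup.congr _ _ φ (Subgroup.characteristic_iff_map_eq.1 inferInstance φ)
  map_one' := by
    refine MulEquiv.ext fun x => ?_
    induction x using QuotientGroup.induction_on with | _ a => rfl
  map_mul' φ ψ := by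
    refine MulEquiv.ext fun x => ?_
    induction x using QuotientGroup.induction_on with | _ a => rfl

theorem descendCenter_mk {L : Type u} [Group L] (φ : MulAut L) (a : L) :
    descendCenter L φ (QuotientGroup.mk' (center L) a) = QuotientGroup.mk' (center L) (φ a) := rfl

/-- Involution centralisers in a cover of a good group with central 2-group are core-free. -/
theorem core_eq_bot_of_cover {L : Type u} [Group L] [Finite L] (hZ : IsPGroup 2 ↥(center L))
    {d : L} (hcore : Cfsg.centralizerPPrimeCore 2 (QuotientGroup.mk' (center L) d) = ⊥) :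
    Cfsg.centralizerPPrimeCore 2 d = ⊥ := by
  set q := QuotientGroup.mk' (center L) with hq
  set C := centralizer ({d} : Set L) with hC
  set Od := Cfsg.centralizerPPrimeCore 2 d with hOd
  have hconj : ∀ x : L, q x * q d = q d * q x → ∀ w ∈ Od, x * w * x⁻¹ ∈ Od := by
    intro x hx
    obtain ⟨z, hz, hxd⟩ : ∃ z ∈ center L, x * d * x⁻¹ = d * z := by
      refine ⟨d⁻¹ * (x * d * x⁻¹), ?_, by group⟩
      rw [← QuotientGroup.eq_one_iff]
      show q (d⁻¹ * (x * d * x⁻¹)) = 1
      rw [map_mul, map_mul, map_mul, map_inv, map_inv, hx]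
      group
    have hmap : C.map (MulAut.conj x).toMonoidHom = C := by
      ext w
      rw [mem_map_equiv, MulAut.conj_symm_apply, mem_centralizer_singleton_iff,
        mem_centralizer_singleton_iff]
      have hzw := mem_center_iff.1 hz
      constructor
      · intro hw
        have h1 : w * (x * d * x⁻¹) = x * d * x⁻¹ * w := by
          calc w * (x * d * x⁻¹) = x * (x⁻¹ * w * x * d) * x⁻¹ := by group
            _ = x * d * x⁻¹ * w := by rw [hw]; group
        rw [hxd, mul_assoc d, ← hzw w, ← mul_assoc, ← mul_assoc] at h1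
        exact mul_right_cancel h1
      · intro hw
        have h1 : w * (x * d * x⁻¹) = x * d * x⁻¹ * w := by
          rw [hxd, mul_assoc d, ← hzw w, ← mul_assoc, ← mul_assoc, hw]
        calc x⁻¹ * w * x * d = x⁻¹ * (w * (x * d * x⁻¹)) * x := by group
          _ = d * (x⁻¹ * w * x) := by rw [h1]; group
    let e : ↥C ≃* ↥C :=
      (equivMapOfInjective C _ (MulEquiv.injective (MulAut.conj x))).trans (MulEquiv.subgroupCongr hmap)
    rintro _ ⟨w, hw, rfl⟩
    refine ⟨e w, ?_, rfl⟩
    rw [← CfsgLib.PCore.map_pPrimeCore_equiv (p := 2) e]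
    exact mem_map_of_mem _ hw
  have hle : Od ≤ C := map_subtype_le _
  have himg : Od.map q ≤ centralizer ({q d} : Set (L ⧸ center L)) := by
    rintro _ ⟨w, hw, rfl⟩
    rw [mem_centralizer_singleton_iff, ← map_mul, ← map_mul,
      mem_centralizer_singleton_iff.1 (hle hw)]
  haveI hn : ((Od.map q).subgroupOf (centralizer ({q d} : Set (L ⧸ center L)))).Normal := ⟨by
    rintro ⟨_, _⟩ ⟨w, hw, rfl⟩ ⟨g, hg⟩
    obtain ⟨x, rfl⟩ := QuotientGroup.mk'_surjective (center L) g
    refine ⟨x * w * x⁻¹, hconj x (mem_centralizer_singleton_iff.1 hg) w hw, ?_⟩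
    show q (x * w * x⁻¹) = q x * q w * (q x)⁻¹
    simp only [map_mul, map_inv]⟩
  have hco : (Nat.card ↥Od).Coprime 2 := CfsgLib.Tech46.centralizerPPrimeCore_coprime d
  have hbot : Od.map q = ⊥ := by
    rw [eq_bot_iff, ← hcore]
    intro y hy
    refine ⟨⟨y, himg hy⟩, CfsgLib.PCore.le_pPrimeCore hn ?_ (mem_subgroupOf.2 hy), rfl⟩
    rw [Nat.card_congr (subgroupOfEquivOfLe himg).toEquiv]
    exact hco.coprime_dvd_left (card_map_dvd _ _)
  have hZle : Od ≤ center L := fun w hw =>
    (QuotientGroup.eq_one_iff w).1 (mem_bot.1 (hbot ▸ mem_map_of_mem q hw))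
  exact CfsgLib.PCore.eq_bot_of_isPGroup_coprime (hZ.to_le hZle) hco

/-- The signalisers of the subgroups of order at least eight are trivial. -/
theorem delta_eq_bot (hO : Cfsg.pPrimeCore 2 H = ⊥) (hB : Cfsg.IsElementaryAbelian 2 B)
    (hgood : GoodComps B) (hloc : LocalFacts (T : Subgroup H) B) {E : Subgroup H} (hEB : E ≤ B)
    (h8 : 8 ≤ Nat.card E) : Cfsg.signalizerDelta 2 E = ⊥ := by
  classical
  set Y := Cfsg.signalizerDelta 2 E with hY
  obtain ⟨e₀, he₀, he₀1⟩ := (Subgroup.bot_or_exists_ne_one E).resolve_left (fun h => by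
    rw [h, Subgroup.card_bot] at h8; omega)
  have hord : ∀ e ∈ E, e ≠ 1 → orderOf e = 2 := fun e he he1 =>
    orderOf_eq_prime (hB.2 e (hEB he)) he1
  have hYle : ∀ e ∈ E, e ≠ 1 → Y ≤ Cfsg.centralizerPPrimeCore 2 e := fun e he he1 =>
    CfsgLib.Tech46.signalizerDelta_le he he1
  have hYc : (Nat.card Y).Coprime 2 :=
    (CfsgLib.Tech46.centralizerPPrimeCore_coprime e₀).coprime_dvd_left
      (card_dvd_of_le (hYle e₀ he₀ he₀1))
  have hYQ : Y ≤ centralizer (Cfsg.pCore 2 H : Set H) :=
    (hYle e₀ he₀ he₀1).trans (Components.centralizerPPrimeCore_le_centralizer_pCore (hord e₀ he₀ he₀1))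
  refine Components.eq_bot_of_centralizes hO hYc hYQ fun L hL => ?_
  by_cases hex : ∃ e ∈ E, e ≠ 1 ∧ e ∈ centralizer (L : Set H)
  · obtain ⟨e, he, he1, hec⟩ := hex
    refine le_bot_iff.1 ((commutator_mono le_rfl (hYle e he he1)).trans (le_of_eq ?_))
    refine Components.commutator_centralizerPPrimeCore_eq_bot hO (hord e he he1) hL ?_
    intro h
    refine Components.component_ne_bot hL ?_
    rw [← h, commutator_comm, commutator_eq_bot_iff_le_centralizer, zpowers_le]
    exact hec
  push Not at hex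
  have hA : IsAComp B L := ⟨hL, fun hle => hex e₀ he₀ he₀1 (hle (hEB he₀))⟩
  obtain ⟨W, g, hcyc⟩ := hloc.exists_cycle L hA
  have hWB : W ≤ B := hcyc.cycle.le
  -- the projection of `E` into `W`
  have hproj : ∀ e : E, ∃ d : L, (d : H) ∈ W ∧ (e : H) * d ∈ centralizer (L : Set H) := by
    intro e
    obtain ⟨d, hd, hdc⟩ := hcyc.exists_mul e (hEB e.2)
    exact ⟨⟨d, hcyc.le hd⟩, hd, hdc⟩
  choose f hfW hfc using hproj
  have huniq : ∀ (e : E) (d : L), (d : H) ∈ W →
      (e : H) * d ∈ centralizer (L : Set H) → d = f e := by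
    intro e d hdW hdc
    have h1 : (f e : H)⁻¹ * d ∈ W ⊓ centralizer (L : Set H) := by
      refine Subgroup.mem_inf.2 ⟨mul_mem (inv_mem (hfW e)) hdW, ?_⟩
      have := mul_mem (inv_mem (hfc e)) hdc
      rwa [mul_inv_rev, mul_assoc, inv_mul_cancel_left] at this
    rw [hcyc.inf_eq, mem_bot, inv_mul_eq_one] at h1
    exact Subtype.ext h1.symm
  have hBc : ∀ {a b : H}, a ∈ B → b ∈ B → a * b = b * a := fun {a b} ha hb =>
    congrArg Subtype.val (hB.1.1.comm (⟨a, ha⟩ : B) ⟨b, hb⟩)
  let φ : E →* L := MonoidHom.mk' f fun a b => by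
    refine (huniq _ _ (mul_mem (hfW a) (hfW b)) ?_).symm
    have hc : ((a * b : E) : H) * ((f a * f b : L) : H) = ((a : H) * f a) * ((b : H) * f b) := by
      rw [Subgroup.coe_mul, Subgroup.coe_mul, mul_assoc, mul_assoc (a : H), ← mul_assoc (b : H),
        hBc (hEB b.2) (hWB (hfW a)), mul_assoc]
    rw [hc]
    exact mul_mem (hfc a) (hfc b)
  set q := QuotientGroup.mk' (center ↥L) with hq
  have hψ : Function.Injective (q.comp φ) := by
    rw [injective_iff_map_eq_one]
    intro e he
    by_contra he1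
    refine hex e e.2 (fun h => he1 (Subtype.ext h)) ?_
    have hz : (f e : H) ∈ W ⊓ centralizer (L : Set H) := ⟨hfW e, mem_centralizer_iff.2 fun x hx =>
      congrArg Subtype.val (mem_center_iff.1 ((QuotientGroup.eq_one_iff (φ e)).1 he) ⟨x, hx⟩)⟩
    rw [hcyc.inf_eq, mem_bot] at hz
    have := hfc e
    rwa [hz, mul_one] at this
  have hDsq : ∀ x ∈ (q.comp φ).range, x ^ 2 = 1 := by
    rintro _ ⟨e, rfl⟩
    rw [MonoidHom.comp_apply, ← map_pow, show φ e ^ 2 = 1 from Subtype.ext (hB.2 _ (hWB (hfW e))),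
      map_one]
  have hD : IsPGroup 2 (q.comp φ).range := fun x => ⟨1, Subtype.ext (hDsq x x.2)⟩
  obtain ⟨R, hR⟩ := hD.exists_le_sylow
  have hsub : ((q.comp φ).range : Set (↥L ⧸ center ↥L)) ⊆ involSet (R : Subgroup (↥L ⧸ center ↥L)) :=
    fun x hx => ⟨hR hx, hDsq x hx⟩
  have h8D : 8 ≤ Nat.card (q.comp φ).range := by
    rwa [← Nat.card_congr (MonoidHom.ofInjective hψ).toEquiv]
  have h8R : 8 ≤ (involSet (R : Subgroup (↥L ⧸ center ↥L))).ncard := by
    refine h8D.trans ?_
    rw [← SetLike.coe_sort_coe, Nat.card_coe_set_eq]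
    exact Set.ncard_le_ncard hsub (Set.toFinite _)
  -- the centre is a 2-group
  have hZQ : ∀ z : L, z ∈ center ↥L → (z : H) ∈ Cfsg.pCore 2 H := fun z hz =>
    Components.component_center_le_pCore hO hL ⟨z.2, mem_centralizer_iff.2 fun x hx =>
      congrArg Subtype.val (mem_center_iff.1 hz ⟨x, hx⟩)⟩
  have hZ : IsPGroup 2 ↥(center ↥L) := fun z => by
    obtain ⟨k, hk⟩ := CfsgLib.PCore.pCore_isPGroup (p := 2) ⟨((z : L) : H), hZQ z z.2⟩
    refine ⟨k, Subtype.ext (Subtype.ext ?_)⟩
    simpa using congrArg Subtype.val hk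
  rw [commutator_comm, commutator_eq_bot_iff_le_centralizer]
  intro y hy
  have hyn : y ∈ normalizer (L : Set H) :=
    Components.centralizerPPrimeCore_le_normalizer_component hO (hord e₀ he₀ he₀1) hL
      (hYle e₀ he₀ he₀1 hy)
  have hyodd : Odd (orderOf y) := by
    refine Odd.of_dvd_nat (Nat.coprime_two_right.1 hYc) ?_
    rw [← Subgroup.orderOf_mk y hy]
    exact orderOf_dvd_natCard _
  have hyZ : ∀ z : L, z ∈ center ↥L → Commute y (z : H) := fun z hz =>
    (mem_centralizer_iff.1 (hYQ hy) _ (hZQ z hz)).symm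
  let c : MulAut L := L.normalizerMonoidHom ⟨y, hyn⟩
  have hcv : ∀ x : L, (c x : H) = y * x * y⁻¹ := fun x => rfl
  -- a translation by a central element is trivial
  have htrans : ∀ a : L, c a * a⁻¹ ∈ center ↥L → y * (a : H) = a * y := by
    intro a ha
    have h1 := eq_one_of_odd_pow (CfsgLib.PCore.pCore_isPGroup (p := 2)) (hZQ _ ha) hyodd
      (pow_eq_one_of_translation (hyZ _ ha) (a := (a : H))
        (by rw [Subgroup.coe_mul, InvMemClass.coe_inv, hcv]; group))
    rw [Subgroup.coe_mul, InvMemClass.coe_inv, hcv, mul_inv_eq_one, mul_inv_eq_iff_eq_mul] at h1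
    exact h1
  have hc1 : descendCenter ↥L c = 1 := by
    refine (hgood L hA).rigid R (q.comp φ).range hsub h8D _ ?_ ?_
    · refine hyodd.of_dvd_nat ((orderOf_map_dvd _ _).trans ((orderOf_map_dvd _ _).trans ?_))
      exact dvd_of_eq (Subgroup.orderOf_mk _ _)
    rintro _ ⟨e, rfl⟩ hd1 x hxd
    have he1 : (e : H) ≠ 1 := fun h => hd1 (by rw [show e = 1 from Subtype.ext h, map_one])
    set d : L := f e with hd
    have hye : y * (e : H) = (e : H) * y := by
      obtain ⟨w, -, rfl⟩ := hYle e e.2 he1 hy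
      exact mem_centralizer_singleton_iff.1 w.2
    -- `y` fixes `d`
    have hyd : y * (d : H) = d * y := htrans d (by
      refine mem_center_iff.2 fun w => Subtype.ext ?_
      have hfix : (e : H) * (c d : H) ∈ centralizer (L : Set H) := by
        refine mem_centralizer_iff.2 fun v hv => ?_
        have hv' : y⁻¹ * v * y ∈ L := by simpa using (mem_normalizer_iff.1 (inv_mem hyn) v).1 hv
        have hcomm : y⁻¹ * v * y * ((e : H) * d) = (e : H) * d * (y⁻¹ * v * y) :=
          mem_centralizer_iff.1 (hfc e) _ hv'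
        have hc' : y * ((e : H) * d) * y⁻¹ = (e : H) * (y * (d : H) * y⁻¹) := by
          rw [← mul_assoc y, hye]; group
        rw [hcv, ← hc']
        calc v * (y * ((e : H) * d) * y⁻¹) = y * (y⁻¹ * v * y * ((e : H) * d)) * y⁻¹ := by group
          _ = y * ((e : H) * d) * y⁻¹ * v := by rw [hcomm]; group
      have hm : ((d : H))⁻¹ * (c d : H) ∈ centralizer (L : Set H) := by
        have := mul_mem (inv_mem (hfc e)) hfix
        rwa [mul_inv_rev, mul_assoc, inv_mul_cancel_left] at this
      have hm' : (c d : H) * (d : H)⁻¹ ∈ centralizer (L : Set H) := by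
        have h' := mem_centralizer_iff.1 hm (d : H) d.2
        rw [mul_inv_cancel_left, eq_comm, ← eq_mul_inv_iff_mul_eq] at h'
        rw [← h']
        exact hm
      show (w : H) * ((c d : H) * (d : H)⁻¹) = (c d : H) * (d : H)⁻¹ * (w : H)
      exact mem_centralizer_iff.1 hm' _ w.2)
    have hd2 : (d : H) * d = 1 := by rw [← pow_two]; exact hB.2 _ (hWB (hfW e))
    -- `C_L(d)` centralises `e`
    have hcent : ∀ z : L, z * d = d * z → (z : H) * e = (e : H) * z := by
      intro z hz
      have hz' : (z : H) * d = (d : H) * z := congrArg Subtype.val hz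
      have hzed : (z : H) * ((e : H) * d) = (e : H) * d * z :=
        Subgroup.mem_centralizer_iff.1 (hfc e) z z.2
      calc (z : H) * e = (z : H) * ((e : H) * d) * d := by rw [mul_assoc, mul_assoc (e : H), hd2, mul_one]
        _ = (e : H) * d * z * d := by rw [hzed]
        _ = (e : H) * d * ((d : H) * z) := by rw [mul_assoc, hz']
        _ = (e : H) * z := by rw [← mul_assoc, mul_assoc (e : H), hd2, mul_one]
    have hcore : Cfsg.centralizerPPrimeCore 2 d = ⊥ := core_eq_bot_of_cover hZ
      ((hgood L hA).coreFree R h8R (q d) (hsub ⟨e, rfl⟩) hd1)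
    -- a normal subgroup of odd order of `C_L(d)` is trivial
    have hkill : ∀ (N : Subgroup ↥(centralizer ({d} : Set ↥L))), N.Normal → (Nat.card N).Coprime 2 →
        ∀ w ∈ N, w = 1 := fun N hN hco w hw => by
      have h1 : (w : ↥L) ∈ Cfsg.centralizerPPrimeCore 2 d :=
        ⟨w, CfsgLib.PCore.le_pPrimeCore hN hco hw, rfl⟩
      rw [hcore, mem_bot] at h1
      exact Subtype.ext h1
    set O := Cfsg.centralizerPPrimeCore 2 (e : H) with hOdef
    have hOn : ∀ z : H, z * (e : H) = (e : H) * z → ∀ w ∈ O, z * w * z⁻¹ ∈ O := by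
      rintro z hz _ ⟨w, hw, rfl⟩
      exact ⟨⟨z, mem_centralizer_singleton_iff.2 hz⟩ * w * ⟨z, mem_centralizer_singleton_iff.2 hz⟩⁻¹,
        (inferInstance : (Cfsg.pPrimeCore 2 (centralizer ({(e : H)} : Set H))).Normal).conj_mem w hw _, rfl⟩
    have hyO : y ∈ O := hYle e e.2 he1 hy
    -- `y` centralises `C_L(d)`
    have hfixC : ∀ v : L, v * d = d * v → y * (v : H) = v * y := by
      intro v hv
      have hve : (v : H) * e = (e : H) * v := hcent v hv
      have hmO : (c v : H) * (v : H)⁻¹ ∈ O := by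
        rw [hcv, mul_assoc, mul_assoc, ← mul_assoc (v : H)]
        exact mul_mem hyO (hOn v hve _ (inv_mem hyO))
      have hm : c v * v⁻¹ ∈ centralizer ({d} : Set ↥L) := by
        refine mul_mem (mem_centralizer_singleton_iff.2 (Subtype.ext ?_))
          (inv_mem (mem_centralizer_singleton_iff.2 hv))
        show (c v : H) * (d : H) = (d : H) * (c v : H)
        rw [hcv]
        exact (((show Commute y (d : H) from hyd).mul_left
          (show Commute (v : H) d from congrArg Subtype.val hv)).mul_left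
            (show Commute y (d : H) from hyd).inv_left)
      have := hkill ((O.subgroupOf L).subgroupOf _) ⟨fun w hw z => by
          rw [mem_subgroupOf, mem_subgroupOf] at hw ⊢
          exact hOn _ (hcent z.1 (mem_centralizer_singleton_iff.1 z.2)) _ hw⟩
        ((CfsgLib.Tech46.centralizerPPrimeCore_coprime (e : H)).coprime_dvd_left
          ((Subgroup.card_comap_dvd_of_injective _ (centralizer ({d} : Set L)).subtype
            Subtype.val_injective).trans
            (Subgroup.card_comap_dvd_of_injective O L.subtype L.subtype_injective)))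
        ⟨c v * v⁻¹, hm⟩ (by
          rw [mem_subgroupOf, mem_subgroupOf]
          exact hmO)
      have h2 : c v * v⁻¹ = 1 := congrArg Subtype.val this
      rw [mul_inv_eq_one] at h2
      have h3 := congrArg Subtype.val h2
      rw [hcv, mul_inv_eq_iff_eq_mul] at h3
      exact h3
    -- `y` centralises the preimage of the centraliser of the image of `d`
    obtain ⟨x, rfl⟩ := QuotientGroup.mk'_surjective (center ↥L) x
    obtain ⟨z, hz, hxd'⟩ : ∃ z ∈ center ↥L, x⁻¹ * d * x = d * z := by
      refine ⟨d⁻¹ * (x⁻¹ * d * x), ?_, by group⟩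
      rw [← QuotientGroup.eq_one_iff]
      show q (d⁻¹ * (x⁻¹ * d * x)) = 1
      have h' : q x * q d = q d * q x := hxd
      rw [map_mul, map_mul, map_mul, map_inv, map_inv, mul_assoc (q x)⁻¹, ← h']
      group
    have hzd := mem_center_iff.1 hz
    have hxdH : (x : H)⁻¹ * d * x = (d : H) * z := congrArg Subtype.val hxd'
    have hyz : y * (z : H) = (z : H) * y := hyZ z hz
    set m : L := c x * x⁻¹ with hm
    have hmv : (m : H) = y * x * y⁻¹ * (x : H)⁻¹ := rfl
    have hmd : m * d = d * m := by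
      refine Subtype.ext ?_
      show (m : H) * d = d * (m : H)
      have h1 : (x : H)⁻¹ * d = (d : H) * z * (x : H)⁻¹ := by rw [← hxdH]; group
      have h2 : Commute y⁻¹ ((d : H) * z) :=
        ((show Commute y (d : H) from hyd).mul_right (show Commute y (z : H) from hyz)).inv_left
      have h3 : (x : H) * ((d : H) * z) = d * x := by rw [← hxdH]; group
      calc (m : H) * d = y * x * y⁻¹ * ((x : H)⁻¹ * d) := by rw [hmv]; group
        _ = y * x * (y⁻¹ * ((d : H) * z)) * (x : H)⁻¹ := by rw [h1]; group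
        _ = y * ((x : H) * ((d : H) * z)) * y⁻¹ * (x : H)⁻¹ := by rw [h2.eq]; group
        _ = (y * d) * x * y⁻¹ * (x : H)⁻¹ := by rw [h3]; group
        _ = d * (m : H) := by rw [hyd, hmv]; group
    -- and `m` centralises `C_L(d)`
    have hmC : ∀ v : L, v * d = d * v → (m : H) * v = v * (m : H) := by
      intro v hv
      have hv' : x⁻¹ * v * x * d = d * (x⁻¹ * v * x) := by
        have e1 : x * d * x⁻¹ = d * z⁻¹ := by
          calc x * d * x⁻¹ = x * (d * z) * x⁻¹ * z⁻¹ := by
                rw [← mul_assoc x, mul_assoc (x * d) z, ← hzd x⁻¹]; group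
            _ = d * z⁻¹ := by rw [← hxd']; group
        have hvz : v * z⁻¹ = z⁻¹ * v := ((show Commute v z from hzd v).inv_right).eq
        calc x⁻¹ * v * x * d = x⁻¹ * (v * (x * d * x⁻¹)) * x := by group
          _ = x⁻¹ * (d * z⁻¹ * v) * x := by
                rw [e1, ← mul_assoc v, hv, mul_assoc d, hvz, ← mul_assoc d]
          _ = x⁻¹ * (x * d * x⁻¹ * v) * x := by rw [e1]
          _ = d * (x⁻¹ * v * x) := by group
      have h1 : Commute y (v : H) := hfixC v hv
      have h2 : Commute y ((x : H)⁻¹ * v * x) := hfixC (x⁻¹ * v * x) hv'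
      have h3 : Commute ((x : H) * y⁻¹ * (x : H)⁻¹) (v : H) := by
        show _ = _
        calc (x : H) * y⁻¹ * (x : H)⁻¹ * v = x * (y⁻¹ * ((x : H)⁻¹ * v * x)) * (x : H)⁻¹ := by group
          _ = (v : H) * ((x : H) * y⁻¹ * (x : H)⁻¹) := by rw [h2.inv_left.eq]; group
      rw [show (m : H) = y * ((x : H) * y⁻¹ * (x : H)⁻¹) by rw [hmv]; group]
      exact h1.mul_left h3
    have hym : Commute y (m : H) := hfixC m hmd
    have hmn : (m : H) ^ orderOf y = 1 :=
      pow_eq_one_of_translation hym (a := (x : H)) (by rw [hmv]; group)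
    have hm1 : m = 1 := congrArg Subtype.val
      (hkill (zpowers (⟨m, mem_centralizer_singleton_iff.2 hmd⟩ : ↥(centralizer ({d} : Set ↥L))))
        ⟨fun w hw v => by
          obtain ⟨k, rfl⟩ := mem_zpowers_iff.1 hw
          have hvm : Commute v ⟨m, mem_centralizer_singleton_iff.2 hmd⟩ :=
            Subtype.ext (Subtype.ext (hmC v.1 (mem_centralizer_singleton_iff.1 v.2)).symm)
          rw [(hvm.zpow_right k).eq, mul_inv_cancel_right]
          exact zpow_mem (mem_zpowers _) k⟩
        (by
          rw [Nat.card_zpowers, Nat.coprime_two_right]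
          refine hyodd.of_dvd_nat (orderOf_dvd_of_pow_eq_one (Subtype.ext (Subtype.ext ?_)))
          exact hmn)
        _ (mem_zpowers _))
    rw [descendCenter_mk]
    rw [hm, mul_inv_eq_one] at hm1
    rw [hm1]
  rw [mem_centralizer_iff]
  intro x hx
  have := DFunLike.congr_fun hc1 (q ⟨x, hx⟩)
  rw [descendCenter_mk, MulAut.one_apply] at this
  refine (htrans ⟨x, hx⟩ ?_).symm
  rw [← QuotientGroup.eq_one_iff]
  show q (c ⟨x, hx⟩ * (⟨x, hx⟩ : L)⁻¹) = 1
  rw [map_mul, map_inv, this, mul_inv_cancel]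

/-- A cycle in the layer moves one component only. -/
theorem exists_component_of_cycle (hB : IsMulCommutative ↥B) (hloc : LocalFacts (T : Subgroup H) B)
    {W : Subgroup H} {g : H} (hg : g ∈ Cfsg.layer H) (hc : Cycle B W g) :
    ∃ L, IsAComp B L ∧ W ≤ L := by
  classical
  by_cases hex : ∃ L : Subgroup H, ∃ W' : Subgroup H, ∃ g' : H, IsAComp B L ∧ CompCycle B L W' g' ∧
      ∃ t ∈ W', g * t * g⁻¹ ≠ t
  · obtain ⟨L, W', g', hL, hcyc, t, ht, htg⟩ := hex
    have hgL : g ∈ normalizer (L : Set H) := Components.layer_le_normalizer_component hL.1 hg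
    set w := g * t * g⁻¹ * t⁻¹ with hw
    have hwW : w ∈ W := hc.move t (hcyc.cycle.le ht)
    have hwL : w ∈ L := mul_mem ((mem_normalizer_iff.1 hgL t).1 (hcyc.le ht)) (inv_mem (hcyc.le ht))
    have hw1 : w ≠ 1 := fun h => htg (mul_inv_eq_one.1 h)
    refine ⟨L, hL, fun x hx => ?_⟩
    by_cases hx1 : x = 1
    · rw [hx1]; exact one_mem L
    · obtain ⟨i, hi⟩ := hc.trans w hwW hw1 x hx hx1
      rw [← hi]
      exact (mem_normalizer_iff.1 (pow_mem hgL i) w).1 hwL
  push Not at hex
  exfalso
  have hfix : ∀ s ∈ B, g * s = s * g := by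
    intro s hs
    obtain ⟨e, he, hec⟩ := exists_compPart hB hloc hs
    have hce : g * e = e * g := by
      have hle : compParts B ≤ centralizer ({g} : Set H) := sSup_le fun W' ⟨L, g', hL, hcyc⟩ t ht =>
        mem_centralizer_singleton_iff.2 (mul_inv_eq_iff_eq_mul.1 (hex L W' g' hL hcyc t ht)).symm
      exact (mem_centralizer_singleton_iff.1 (hle he)).symm
    have hcc : g * (e⁻¹ * s) = e⁻¹ * s * g := Subgroup.mem_centralizer_iff.1 hec.2 g hg
    have := (show Commute g e from hce).mul_right (show Commute g (e⁻¹ * s) from hcc)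
    rwa [mul_inv_cancel_left] at this
  have hW := hc.four_le
  obtain ⟨x, hx, hx1⟩ := (Subgroup.bot_or_exists_ne_one W).resolve_left (fun h => by
    rw [h, Subgroup.card_bot] at hW; omega)
  obtain ⟨y, hy, hy1, hxy⟩ : ∃ y ∈ W, y ≠ 1 ∧ y ≠ x := by
    by_contra hno
    push Not at hno
    have hsub : (W : Set H) ⊆ {1, x} := fun z hz => by
      by_cases hz1 : z = 1
      · exact Or.inl hz1
      · exact Or.inr (hno z hz hz1)
    have h := Set.ncard_le_ncard hsub
    rw [← Nat.card_coe_set_eq, Set.ncard_pair hx1.symm] at h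
    change Nat.card W ≤ 2 at h
    omega
  obtain ⟨i, hi⟩ := hc.trans x hx hx1 y hy hy1
  refine hxy (hi.symm.trans ?_)
  rw [((show Commute g x from hfix x (hc.le hx)).pow_left i).eq, mul_inv_cancel_right]

end CfsgLib.Goldschmidt
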