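import Cfsg.Agent.Lib.Goldschmidt.Centralizer
import Cfsg.Agent.Lib.Goldschmidt.Reduced
import Cfsg.Agent.Lib.Components.Local
import Cfsg.Agent.Lib.Components.ComponentAction
import Cfsg.Agent.Lib.Structure.Subnormal
import Cfsg.Agent.S0205

/-!
# Pieces move to the centralizer of every involution they centralise

Let `y` be a cycle of a component `L` seen at `u` with piece `W`, and `v` an element of `A` centralising `L`.
A perfect preimage of `L` inside `C(v)` lies over the layer of `C(v)/O(C(v))`, so some component `M` there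
has piece containing `W` and `y` fixes the part of `A` centralising `M`.
-/

set_option autoImplicit false
set_option linter.unusedSectionVars false

namespace CfsgLib.Goldschmidt

open scoped commutatorElement
open Subgroup CfsgLib.Walter.RankFour

universe u

local instance : Fact (Nat.Prime 2) := ⟨Nat.prime_two⟩

variable {G : Type u} [Group G] [Finite G]

/-- The part of `A` centralising `L`. -/
def centPart (A : Subgroup G) (u : G) (L : Subgroup (CenBar u)) : Subgroup G :=
  A ⊓ ((centralizer (L : Set (CenBar u))).comap (bar u)).map (cen u).subtype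

theorem mem_centPart {A : Subgroup G} {u : G} {L : Subgroup (CenBar u)} {x : G} :
    x ∈ centPart A u L ↔ x ∈ A ∧ ∃ h : x ∈ cen u, bar u ⟨x, h⟩ ∈ centralizer (L : Set (CenBar u)) := by
  simp only [centPart, mem_inf, Subgroup.mem_map, mem_comap, subtype_apply]
  refine and_congr_right fun _ => ⟨?_, fun ⟨h, hL⟩ => ⟨⟨x, h⟩, hL, rfl⟩⟩
  rintro ⟨y, hy, rfl⟩
  exact ⟨y.2, hy⟩

theorem mem_piece_iff {A : Subgroup G} {u : G} {L : Subgroup (CenBar u)} {x : G} :
    x ∈ piece A u L ↔ x ∈ A ∧ ∃ h : x ∈ cen u, bar u ⟨x, h⟩ ∈ L := by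
  simp only [piece, mem_inf, Subgroup.mem_map, mem_comap, subtype_apply]
  refine and_congr_right fun _ => ⟨?_, fun ⟨h, hL⟩ => ⟨⟨x, h⟩, hL, rfl⟩⟩
  rintro ⟨y, hy, rfl⟩
  exact ⟨y.2, hy⟩

/-- A cycle fixes only the identity of its piece. -/
theorem cycle_fix_trivial {S W : Subgroup G} {g : G} (hC : Cycle S W g) {w : G} (hw : w ∈ W)
    (hg : g * w * g⁻¹ = w) : w = 1 := by
  by_contra h1
  have hsub : (W : Set G) ⊆ {1, w} := by
    intro y hy
    by_cases hy1 : y = 1
    · exact Or.inl hy1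
    obtain ⟨i, hi⟩ := hC.trans w hw h1 y hy hy1
    rw [((show Commute g w from mul_inv_eq_iff_eq_mul.1 hg).pow_left i).eq, mul_inv_cancel_right] at hi
    exact Or.inr hi.symm
  have h := Set.ncard_le_ncard hsub
  rw [← Nat.card_coe_set_eq, Set.ncard_pair (Ne.symm h1)] at h
  change Nat.card W ≤ 2 at h
  have := hC.four_le
  omega

/-- A cycle reaches every element of its piece as a displacement. -/
theorem cycle_exists_disp {S W : Subgroup G} {g : G} (hC : Cycle S W g)
    {w : G} (hw : w ∈ W) :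
    ∃ a ∈ S, g * a * g⁻¹ * a⁻¹ = w := by
  let δ : ↥W → ↥W := fun a => ⟨g * (a : G) * g⁻¹ * (a : G)⁻¹, hC.move _ (hC.le a.2)⟩
  have hinj : Function.Injective δ := by
    intro a b h
    have h' : g * (a : G) * g⁻¹ * (a : G)⁻¹ = g * (b : G) * g⁻¹ * (b : G)⁻¹ := congrArg Subtype.val h
    have hf := cycle_fix_trivial hC (w := (b : G)⁻¹ * a) (mul_mem (inv_mem b.2) a.2) (by
      calc g * ((b : G)⁻¹ * a) * g⁻¹
          = (g * (b : G) * g⁻¹ * (b : G)⁻¹ * b)⁻¹ * (g * (a : G) * g⁻¹ * (a : G)⁻¹ * a) := by group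
        _ = (b : G)⁻¹ * a := by rw [h']; group)
    exact Subtype.ext (inv_mul_eq_one.1 hf).symm
  obtain ⟨a, ha⟩ := (Finite.injective_iff_surjective.1 hinj) ⟨w, hw⟩
  exact ⟨a, hC.le a.2, congrArg Subtype.val ha⟩

namespace Setting

variable (E : Setting G)

/-- A perfect preimage of `L` in `C(v)` with an element acting on `A` as `y`. -/
theorem exists_perfect_cycle {u v : G} (hu : u ∈ E.A) {L : Subgroup (CenBar u)} (hL : Cfsg.IsComponent L)
    (hAL : img u E.A ≤ normalizer (L : Set (CenBar u))) (hv : v ∈ centPart E.A u L) {y : ↥(cen u)}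
    (hyN : (y : G) ∈ normalizer (E.A : Set G)) (hyL : bar u y ∈ L) :
    ∃ D : Subgroup ↥(cen u), ⁅D, D⁆ = D ∧ D.map (bar u) = L ∧ (∀ d ∈ D, (d : G) ∈ cen v) ∧
      E.A.subgroupOf (cen u) ≤ normalizer (D : Set ↥(cen u)) ∧
      ∃ g ∈ D, (g : G) ∈ normalizer (E.A : Set G) ∧
        ∀ a ∈ E.A, (g : G) * a * (g : G)⁻¹ = (y : G) * a * (y : G)⁻¹ := by
  classical
  obtain ⟨hvA, hvC, hvL⟩ := mem_centPart.1 hv
  have hAC := E.le_cen hu
  set π := bar u with hπ
  set X : Subgroup ↥(cen u) := L.comap π ⊓ centralizer (zpowers (⟨v, hvC⟩ : ↥(cen u)) : Set ↥(cen u)) with hXdef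
  have hXmap : X.map π = L := by
    refine le_antisymm ((Subgroup.map_mono inf_le_left).trans (map_comap_le _ _)) fun l hl => ?_
    have h := CfsgLib.Components.map_centralizer_quotient (p := 2)
      (O := Cfsg.pPrimeCore 2 ↥(cen u)) CfsgLib.PCore.pPrimeCore_coprime
      (P := zpowers (⟨v, hvC⟩ : ↥(cen u)))
      ((E.isPGroup_A.comap_of_injective _ (subtype_injective _)).to_le
        (zpowers_le.2 (show (⟨v, hvC⟩ : ↥(cen u)) ∈ E.A.comap (cen u).subtype from hvA)))
    have hlc : l ∈ centralizer (((zpowers (⟨v, hvC⟩ : ↥(cen u))).map π : Subgroup (CenBar u)) : Set (CenBar u)) :=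
      mem_centralizer_iff.2 fun m hm => by
        obtain ⟨k, hk, rfl⟩ := hm
        obtain ⟨i, rfl⟩ := mem_zpowers_iff.1 hk
        rw [map_zpow]
        exact (mem_centralizer_iff.1 (zpow_mem hvL i) l hl).symm
    obtain ⟨c, hc, rfl⟩ := h.ge hlc
    exact ⟨c, ⟨hl, hc⟩, rfl⟩
  obtain ⟨n, hn⟩ : ∃ n, derivedSeries ↥X n = derivedSeries ↥X (n + 1) := by
    by_contra hne
    push Not at hne
    have hlt : ∀ n, Nat.card ↥(derivedSeries ↥X n) + n ≤ Nat.card ↥X := by
      intro n
      induction n with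
      | zero => simp
      | succ n ih =>
        have h1 : derivedSeries ↥X (n + 1) ≤ derivedSeries ↥X n := derivedSeries_antitone _ (by omega)
        have h2 : Nat.card ↥(derivedSeries ↥X (n + 1)) < Nat.card ↥(derivedSeries ↥X n) := by
          refine lt_of_le_of_ne (Nat.le_of_dvd Nat.card_pos (card_dvd_of_le h1)) fun h => hne n ?_
          exact (Subgroup.eq_of_le_of_card_ge h1 h.ge).symm
        omega
    have h1 := hlt (Nat.card ↥X + 1)
    omega
  set D0 := derivedSeries ↥X n with hD0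
  set D : Subgroup ↥(cen u) := D0.map X.subtype with hDdef
  have hDX : D ≤ X := map_subtype_le D0
  have hDmap : D.map π = L := by
    have key : ∀ m, L ≤ ((derivedSeries ↥X m).map X.subtype).map π := by
      intro m
      induction m with
      | zero => rw [derivedSeries_zero, ← MonoidHom.range_eq_map, range_subtype, hXmap]
      | succ m ih =>
        rw [derivedSeries_succ, map_commutator, map_commutator]
        exact (CfsgLib.Components.component_commutator_self hL).ge.trans (commutator_mono ih ih)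
    exact le_antisymm ((Subgroup.map_mono hDX).trans hXmap.le) (key n)
  set A' := E.A.subgroupOf (cen u) with hA'
  have hAX : A' ≤ normalizer (X : Set ↥(cen u)) := by
    intro s hs
    have hsn : π s ∈ normalizer (L : Set (CenBar u)) := hAL (mem_map_of_mem π hs)
    have hsv : Commute (⟨v, hvC⟩ : ↥(cen u)) s := Subtype.ext (E.commute_A hvA hs)
    rw [mem_normalizer_iff]
    intro p
    simp only [hXdef, mem_inf, mem_comap, map_mul, map_inv, mem_centralizer_iff]
    refine and_congr (mem_normalizer_iff.1 hsn (π p)) (forall₂_congr fun w hw => ?_)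
    obtain ⟨i, rfl⟩ := mem_zpowers_iff.1 hw
    have hc := hsv.zpow_left i
    refine ⟨fun h => ((hc.mul_right (show Commute _ p from h)).mul_right hc.inv_right).eq, fun h => ?_⟩
    have h2 := (hc.inv_right.mul_right (show Commute _ (s * p * s⁻¹) from h)).mul_right hc
    simpa [mul_assoc] using h2.eq
  have hAD : A' ≤ normalizer (D : Set ↥(cen u)) := by
    intro s hs
    haveI : (derivedSeries ↥X n).Characteristic := derivedSeries_characteristic _ _
    exact CfsgLib.Structure.normalizer_le_normalizer_map_subtype X D0 (hAX hs)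
  refine ⟨D, by rw [hDdef, ← map_commutator, ← derivedSeries_succ, ← hn], hDmap, fun d hd => ?_, hAD, ?_⟩
  · exact mem_centralizer_singleton_iff.2
      (congrArg Subtype.val (mem_centralizer_iff.1 (hDX hd).2 _ (mem_zpowers _))).symm
  obtain ⟨x, hxD, hxy⟩ : ∃ x ∈ D, π x = π y := by
    have : π y ∈ D.map π := by rw [hDmap]; exact hyL
    exact this
  set Z : Subgroup ↥(cen u) := (D ⊔ A') ⊓ (img u E.A).comap π with hZ
  have hA'Z : A' ≤ Z := le_inf le_sup_right fun s hs => mem_map_of_mem π hs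
  have hyimg : ∀ s ∈ A', π (y * s * y⁻¹) ∈ img u E.A := fun s hs =>
    mem_map_of_mem π (show y * s * y⁻¹ ∈ A' from (mem_normalizer_iff.1 hyN (s : G)).1 hs)
  have hxZ : A'.map (MulAut.conj x).toMonoidHom ≤ Z := by
    rintro _ ⟨s, hs, rfl⟩
    refine mem_inf.2 ⟨mul_mem (mul_mem (mem_sup_left hxD) (mem_sup_right hs)) (inv_mem (mem_sup_left hxD)), ?_⟩
    show π (x * s * x⁻¹) ∈ img u E.A
    have := hyimg s hs
    rwa [map_mul, map_mul, map_inv, ← hxy, ← map_inv, ← map_mul, ← map_mul] at this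
  have hpA : IsPGroup 2 ↥A' := E.isPGroup_A.comap_of_injective _ (subtype_injective _)
  -- `A'` is a Sylow subgroup of `Z`
  have hodd : ¬ 2 ∣ (A'.subgroupOf Z).index := by
    let ψ : ↥Z →* ↥(img u E.A) := (π.comp Z.subtype).codRestrict _ fun z => (mem_inf.1 z.2).2
    have hψs : Function.Surjective ψ := by
      rintro ⟨_, s, hs, rfl⟩
      exact ⟨⟨s, hA'Z hs⟩, rfl⟩
    have hker : ¬ 2 ∣ Nat.card ψ.ker := by
      intro h
      have hle : ψ.ker.map Z.subtype ≤ Cfsg.pPrimeCore 2 ↥(cen u) := by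
        rintro _ ⟨z, hz, rfl⟩
        exact (QuotientGroup.eq_one_iff _).1 (congrArg Subtype.val hz)
      have h2 : 2 ∣ Nat.card (Cfsg.pPrimeCore 2 ↥(cen u)) := h.trans
        ((card_map_of_injective Z.subtype_injective).symm.dvd.trans (card_dvd_of_le hle))
      have hc : (Nat.card (Cfsg.pPrimeCore 2 ↥(cen u))).Coprime 2 := CfsgLib.PCore.pPrimeCore_coprime
      rw [Nat.coprime_two_right] at hc
      exact (Nat.not_even_iff_odd.2 hc) (even_iff_two_dvd.2 h2)
    intro h
    refine hker ?_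
    have hcA : Nat.card (A'.subgroupOf Z) = Nat.card ↥(img u E.A) := by
      rw [Nat.card_congr (subgroupOfEquivOfLe hA'Z).toEquiv, card_img E.isPGroup_A hAC,
        Nat.card_congr (subgroupOfEquivOfLe hAC).toEquiv]
    have e1 := card_eq_card_quotient_mul_card_subgroup ψ.ker
    rw [Nat.card_congr (QuotientGroup.quotientKerEquivOfSurjective ψ hψs).toEquiv,
      ← (A'.subgroupOf Z).index_mul_card, hcA, mul_comm] at e1
    exact (Nat.eq_of_mul_eq_mul_left Nat.card_pos e1) ▸ h
  have hpZ : IsPGroup 2 ↥(A'.subgroupOf Z) := hpA.comap_of_injective _ (subtype_injective _)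
  set P := hpZ.toSylow hodd with hP
  set A'' := A'.map (MulAut.conj x).toMonoidHom with hA''
  have hpZ' : IsPGroup 2 ↥(A''.subgroupOf Z) := (hpA.map _).comap_of_injective _ (subtype_injective _)
  obtain ⟨P', hP'⟩ := hpZ'.exists_le_sylow
  obtain ⟨z, hz⟩ := MulAction.exists_smul_eq ↥Z P' P
  have hzA : ∀ s ∈ A', (z : ↥(cen u)) * (x * s * x⁻¹) * (z : ↥(cen u))⁻¹ ∈ A' := by
    intro s hs
    have hm : x * s * x⁻¹ ∈ A'' := ⟨s, hs, rfl⟩
    have h1 : MulAut.conj z ⟨_, hxZ hm⟩ ∈ ((P : Sylow 2 ↥Z) : Subgroup ↥Z) := by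
      rw [← hz]
      exact Subgroup.smul_mem_pointwise_smul _ (MulAut.conj z) _
        (hP' (show (⟨_, hxZ hm⟩ : ↥Z) ∈ A''.subgroupOf Z from hm))
    rw [hP, IsPGroup.toSylow_coe, mem_subgroupOf] at h1
    exact h1
  obtain ⟨p, hp, a, ha, hpa⟩ : ∃ p ∈ D, ∃ a ∈ A', p * a = (z : ↥(cen u)) := by
    have hzY : (z : ↥(cen u)) ∈ ((D ⊔ A' : Subgroup ↥(cen u)) : Set ↥(cen u)) := (mem_inf.1 z.2).1
    rw [coe_mul_of_right_le_normalizer_left D A' hAD] at hzY
    exact hzY
  set g := a⁻¹ * (z : ↥(cen u)) * x with hg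
  have hgA : ∀ s ∈ A', g * s * g⁻¹ ∈ A' := fun s hs => by
    rw [show g * s * g⁻¹ = a⁻¹ * ((z : ↥(cen u)) * (x * s * x⁻¹) * (z : ↥(cen u))⁻¹) * a by rw [hg]; group]
    exact mul_mem (mul_mem (inv_mem ha) (hzA s hs)) ha
  have hgN : (g : G) ∈ normalizer (E.A : Set G) :=
    mem_normalizer_fintype fun c hc => hgA ⟨c, hAC hc⟩ hc
  refine ⟨g, ?_, hgN, fun c hc => ?_⟩
  · rw [hg, ← hpa, show a⁻¹ * (p * a) * x = a⁻¹ * p * a⁻¹⁻¹ * x by group]
    exact mul_mem ((mem_normalizer_iff.1 (hAD (inv_mem ha)) p).1 hp) hxD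
  · set s : ↥(cen u) := ⟨c, hAC hc⟩ with hs
    have hsA : s ∈ A' := hc
    have h1 : π (g * s * g⁻¹) = π (y * s * y⁻¹) := by
      have hm : π (a⁻¹ * (z : ↥(cen u))) ∈ img u E.A := by
        rw [map_mul, map_inv]; exact mul_mem (inv_mem (mem_map_of_mem π ha)) (mem_inf.1 z.2).2
      obtain ⟨m, hm1, hm2⟩ := hm
      have hcm : m * (y * s * y⁻¹) * m⁻¹ = y * s * y⁻¹ := Subtype.ext (by
        have hcomm := E.commute_A (show (m : G) ∈ E.A from hm1) ((mem_normalizer_iff.1 hyN c).1 hc)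
        show (m : G) * ((y : G) * c * (y : G)⁻¹) * (m : G)⁻¹ = (y : G) * c * (y : G)⁻¹
        rw [hcomm, mul_inv_cancel_right])
      rw [show g * s * g⁻¹ = (a⁻¹ * (z : ↥(cen u))) * (x * s * x⁻¹) * (a⁻¹ * (z : ↥(cen u)))⁻¹ by
        rw [hg]; group]
      conv_rhs => rw [← hcm]
      simp only [map_mul, map_inv, hxy] at hm2 ⊢
      rw [hm2]
    exact congrArg Subtype.val (bar_inj_two E.isPGroup_A
      (show ((g * s * g⁻¹ : ↥(cen u)) : G) ∈ E.A from hgA s hsA)
      (show ((y * s * y⁻¹ : ↥(cen u)) : G) ∈ E.A from (mem_normalizer_iff.1 hyN c).1 hc) h1)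

/-- The piece of `L` is contained in the piece of a component at `v`. -/
theorem pump {u v : G} (hu : u ∈ E.A) {L : Subgroup (CenBar u)} (hA : IsAComp (img u E.A) L)
    (hAL : img u E.A ≤ normalizer (L : Set (CenBar u))) (hv : v ∈ centPart E.A u L) {y : ↥(cen u)}
    (hyL : bar u y ∈ L) (hc : Cycle E.A (piece E.A u L) (y : G))
    (hcfu : img u E.A ⊓ L ⊓ centralizer (L : Set (CenBar u)) = ⊥) {T : Sylow 2 (CenBar v)}
    (hsc : Cfsg.IsStronglyClosed (img v E.A) (T : Subgroup (CenBar v)))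
    (hloc : LocalFacts (T : Subgroup (CenBar v)) (img v E.A))
    (hcfv : ∀ M, IsAComp (img v E.A) M → img v E.A ⊓ M ⊓ centralizer (M : Set (CenBar v)) = ⊥) :
    ∃ M : Subgroup (CenBar v), IsAComp (img v E.A) M ∧ piece E.A u L ≤ piece E.A v M ∧
      ∀ a ∈ centPart E.A v M, (y : G) * a * (y : G)⁻¹ = a := by
  classical
  have hvA : v ∈ E.A := (mem_centPart.1 hv).1
  obtain ⟨D, hDD, hDmap, hDv, hAD, g, hgD, hgN, hga⟩ :=
    E.exists_perfect_cycle hu hA.1 hAL hv hc.mem_normalizer hyL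
  have hAu := E.le_cen hu
  have hAv := E.le_cen hvA
  set W := piece E.A u L with hW
  -- `W ≤ D`
  have hWD : ∀ w (hw : w ∈ W), (⟨w, hAu (hc.le hw)⟩ : ↥(cen u)) ∈ D := by
    intro w hw
    obtain ⟨a, ha, e⟩ := cycle_exists_disp hc hw
    rw [← hga a ha] at e
    set a' : ↥(cen u) := ⟨a, hAu ha⟩ with ha'
    rw [show (⟨w, hAu (hc.le hw)⟩ : ↥(cen u)) = g * (a' * g⁻¹ * a'⁻¹) from
      Subtype.ext (by simp [ha', ← e, mul_assoc])]
    exact mul_mem hgD ((mem_normalizer_iff.1 (hAD (show a' ∈ E.A.subgroupOf (cen u) from ha)) _).1 (inv_mem hgD))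
  set B := img v E.A with hB
  have hBc : IsMulCommutative ↥B := img_isMulCommutative E.comm_A
  set Lay := Cfsg.layer (CenBar v) with hLay
  set N := B ⊔ Lay with hN
  have hNn : N.Normal := sup_layer_normal (cenBar_core v) hBc hsc hloc
  let toV : ↥D →* CenBar v :=
    (bar v).comp (((cen u).subtype.comp D.subtype).codRestrict (cen v) fun d => hDv _ d.2)
  have hM0n : (N.comap toV).Normal := hNn.comap toV
  let toL : ↥D →* ↥L := ((bar u).comp D.subtype).codRestrict L fun d => hDmap.le (mem_map_of_mem (bar u) d.2)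
  have htoL : Function.Surjective toL := by
    rintro ⟨l, hl⟩
    obtain ⟨d, hd, rfl⟩ := hDmap.ge hl
    exact ⟨⟨d, hd⟩, rfl⟩
  -- `N` contains the image of `D`
  have hcover : (N.comap toV).map toL = ⊤ := by
    haveI := hM0n.map toL htoL
    refine (CfsgLib.Components.quasisimple_normal_eq_top_or_le_center hA.1.2 _).resolve_right fun hle => ?_
    obtain ⟨w, hw, hw1⟩ : ∃ w ∈ W, w ≠ 1 := by
      have h4 := hc.four_le
      refine (Subgroup.bot_or_exists_ne_one W).resolve_left fun h => ?_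
      rw [h, Subgroup.card_bot] at h4
      omega
    have h1 : toL ⟨_, hWD w hw⟩ ∈ center ↥L :=
      hle (mem_map_of_mem toL (show (⟨_, hWD w hw⟩ : ↥D) ∈ N.comap toV from
        mem_sup_left (bar_mem_img (hc.le hw) (hAv (hc.le hw)))))
    have h2 : bar u ⟨w, hAu (hc.le hw)⟩ ∈ img u E.A ⊓ L ⊓ centralizer (L : Set (CenBar u)) :=
      ⟨⟨bar_mem_img (hc.le hw) _, (toL ⟨_, hWD w hw⟩).2⟩,
        mem_centralizer_iff.2 fun l hl => congrArg Subtype.val (mem_center_iff.1 h1 ⟨l, hl⟩)⟩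
    rw [hcfu, mem_bot] at h2
    exact hw1 (congrArg Subtype.val (eq_one_of_bar_eq E.isPGroup_A (a := ⟨w, hAu (hc.le hw)⟩) (hc.le hw) h2))
  have hDN : ∀ d : ↥D, toV d ∈ N := by
    haveI := hM0n
    have hsur : Function.Surjective ((QuotientGroup.mk' (N.comap toV)).comp toL.ker.subtype) := by
      intro q
      obtain ⟨d, rfl⟩ := QuotientGroup.mk'_surjective _ q
      obtain ⟨m, hm, hmd⟩ := (hcover.ge (mem_top (toL d)) : toL d ∈ (N.comap toV).map toL)
      refine ⟨⟨m⁻¹ * d, by rw [MonoidHom.mem_ker, map_mul, map_inv, hmd, inv_mul_cancel]⟩, ?_⟩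
      show QuotientGroup.mk' _ (m⁻¹ * d) = QuotientGroup.mk' _ d
      rw [map_mul, map_inv, show QuotientGroup.mk' _ m = 1 from (QuotientGroup.eq_one_iff m).2 hm,
        inv_one, one_mul]
    have hoddK : Odd (Nat.card toL.ker) := by
      have hle : toL.ker.map D.subtype ≤ Cfsg.pPrimeCore 2 ↥(cen u) := by
        rintro _ ⟨z, hz, rfl⟩
        exact (QuotientGroup.eq_one_iff _).1 (congrArg Subtype.val hz)
      have hc' : (Nat.card (Cfsg.pPrimeCore 2 ↥(cen u))).Coprime 2 := CfsgLib.PCore.pPrimeCore_coprime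
      rw [Nat.coprime_two_right] at hc'
      exact hc'.of_dvd_nat ((card_map_of_injective D.subtype_injective).symm.dvd.trans (card_dvd_of_le hle))
    have hsol : Group.IsSolvable (↥D ⧸ N.comap toV) :=
      Cfsg.Agent.S0205.result (hoddK.of_dvd_nat (card_dvd_of_surjective _ hsur))
    have hperf : _root_.commutator (↥D ⧸ N.comap toV) = ⊤ := by
      have hD : _root_.commutator ↥D = ⊤ := by
        refine Subgroup.map_injective D.subtype_injective ?_
        rw [commutator_def, map_commutator, ← MonoidHom.range_eq_map, range_subtype, hDD]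
      rw [commutator_def, ← map_top_of_surjective (QuotientGroup.mk' (N.comap toV))
        (QuotientGroup.mk'_surjective _), ← map_commutator, ← commutator_def, hD]
    intro d
    refine (QuotientGroup.eq_one_iff (N := N.comap toV) d).1 (by_contra fun h => ?_)
    haveI : Nontrivial (↥D ⧸ N.comap toV) := ⟨⟨_, 1, h⟩⟩
    exact (Group.IsSolvable.commutator_lt_top_of_nontrivial (↥D ⧸ N.comap toV)).ne hperf
  have hLn : Lay.Normal := by rw [hLay]; infer_instance
  have hDlay : ∀ d : ↥D, toV d ∈ Lay := by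
    haveI := hLn
    have hcomm : ⁅N, N⁆ ≤ Lay := by
      rw [commutator_le]
      intro p hp q hq
      rw [← QuotientGroup.eq_one_iff (N := Lay)]
      show QuotientGroup.mk' Lay ⁅p, q⁆ = 1
      rw [map_commutatorElement, commutatorElement_eq_one_iff_mul_comm]
      have him : ∀ r ∈ N, ∃ b ∈ B, QuotientGroup.mk' Lay r = QuotientGroup.mk' Lay b := by
        intro r hr
        rw [hN, ← SetLike.mem_coe, mul_normal] at hr
        obtain ⟨b, hb, l, hl, rfl⟩ := hr
        exact ⟨b, hb, by rw [map_mul, show QuotientGroup.mk' Lay l = 1 from (QuotientGroup.eq_one_iff l).2 hl, mul_one]⟩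
      obtain ⟨b, hb, e1⟩ := him p hp
      obtain ⟨b', hb', e2⟩ := him q hq
      rw [e1, e2, ← map_mul, ← map_mul]
      exact congrArg _ (congrArg Subtype.val (hBc.is_comm.comm (⟨b, hb⟩ : B) ⟨b', hb'⟩))
    intro d
    have hrange : toV.range ≤ N := by rintro _ ⟨e, rfl⟩; exact hDN e
    have hperf : ⁅toV.range, toV.range⁆ = toV.range := by
      have hD : ⁅(⊤ : Subgroup ↥D), (⊤ : Subgroup ↥D)⁆ = ⊤ := by
        refine Subgroup.map_injective D.subtype_injective ?_
        rw [map_commutator, ← MonoidHom.range_eq_map, range_subtype, hDD]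
      rw [MonoidHom.range_eq_map, ← map_commutator, hD]
    exact (commutator_mono hrange hrange).trans hcomm (hperf.ge ⟨d, rfl⟩)
  -- the cycle at `v`
  set g' : ↥(cen v) := ⟨(g : G), hDv g hgD⟩ with hg'
  have hglay : bar v g' ∈ Lay := hDlay ⟨g, hgD⟩
  have hWv : W ≤ cen v := hc.le.trans hAv
  have hpow : ∀ (i : ℕ) (a : G), a ∈ E.A →
      (g : G) ^ i * a * ((g : G) ^ i)⁻¹ = (y : G) ^ i * a * ((y : G) ^ i)⁻¹ := by
    intro i
    induction i with
    | zero => intro a _; simp
    | succ i ih =>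
      intro a ha
      rw [pow_succ, pow_succ, show (g : G) ^ i * g * a * ((g : G) ^ i * g)⁻¹ =
        (g : G) ^ i * ((g : G) * a * (g : G)⁻¹) * ((g : G) ^ i)⁻¹ by group, hga a ha,
        ih _ ((mem_normalizer_iff.1 hc.mem_normalizer a).1 ha)]
      group
  have hcyc : Cycle B (img v W) (bar v g') := by
    refine ⟨mem_normalizer_fintype ?_, Subgroup.map_mono (comap_mono hc.le), ?_, ?_, ?_⟩
    · intro b hb
      obtain ⟨a, ha, hac, rfl⟩ := mem_img.1 hb
      refine mem_img.2 ⟨_, (mem_normalizer_iff.1 hgN a).1 ha, (g' * ⟨a, hac⟩ * g'⁻¹).2, ?_⟩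
      rw [← map_inv, ← map_mul, ← map_mul]
      rfl
    · rw [card_img (E.isPGroup_A.to_le hc.le) hWv]; exact hc.four_le
    · intro b hb
      obtain ⟨a, ha, hac, rfl⟩ := mem_img.1 hb
      refine mem_img.2 ⟨_, hc.move a ha, hWv (hc.move a ha), ?_⟩
      rw [← map_inv, ← map_inv, ← map_mul, ← map_mul, ← map_mul]
      exact congrArg _ (Subtype.ext (by simp [hg', ← hga a ha]))
    · intro p hp hp1 q hq hq1
      obtain ⟨a, ha, hac, rfl⟩ := mem_img.1 hp
      obtain ⟨b, hb, hbc, rfl⟩ := mem_img.1 hq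
      obtain ⟨i, hi⟩ := hc.trans a ha (fun h => hp1 (by subst h; exact map_one (bar v))) b hb
        (fun h => hq1 (by subst h; exact map_one (bar v)))
      refine ⟨i, ?_⟩
      rw [← map_pow, ← map_inv, ← map_mul, ← map_mul]
      exact congrArg _ (Subtype.ext (by simpa [hg', hpow i a (hc.le ha)] using hi))
  obtain ⟨M, hM, hWM⟩ := exists_component_of_cycle hBc hloc hglay hcyc
  refine ⟨M, hM, fun w hw => mem_piece_iff.2 ⟨hc.le hw, hWv hw, hWM (bar_mem_img hw _)⟩, fun a ha => ?_⟩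
  obtain ⟨haA, hac, haM⟩ := mem_centPart.1 ha
  have hmove : (g : G) * a * (g : G)⁻¹ * a⁻¹ ∈ W := by rw [hga a haA]; exact hc.move a haA
  set a' : ↥(cen v) := ⟨a, hac⟩
  have hn := CfsgLib.Components.normalizer_le_normalizer_centralizer M
    (CfsgLib.Components.layer_le_normalizer_component hM.1 hglay)
  have h1 : bar v ⟨_, hWv hmove⟩ ∈ B ⊓ M ⊓ centralizer (M : Set (CenBar v)) := by
    refine ⟨⟨bar_mem_img (hc.le hmove) _, hWM (bar_mem_img hmove _)⟩, ?_⟩
    have h2 := mul_mem ((mem_normalizer_iff.1 hn _).1 haM) (inv_mem haM)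
    rw [← map_inv, ← map_inv, ← map_mul, ← map_mul, ← map_mul] at h2
    exact h2
  rw [hcfv M hM, mem_bot] at h1
  have h3 := congrArg Subtype.val (eq_one_of_bar_eq E.isPGroup_A (a := ⟨_, hWv hmove⟩) (hc.le hmove) h1)
  rw [← hga a haA]
  exact mul_inv_eq_one.1 h3

end Setting

end CfsgLib.Goldschmidt
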