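import Cfsg.Agent.Lib.Goldschmidt.Defs
import Cfsg.Agent.Lib.Components.Basic
import Cfsg.Agent.Lib.Components.Balance
import Cfsg.Agent.Lib.LocalEven.SubnormalJoin
import Cfsg.Agent.Lib.PCore.Basic

/-!
# A cycle of a moved component normalised by its stabiliser

If `B ∩ Z(L) = 1` the cycle of `L/Z(L)` given by `AGood` lifts to an element of `L` acting on `B` with piece
`B ∩ L`, and every element normalising `L` and `B` sends it to one of its powers on `B ∩ L`.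
-/

set_option autoImplicit false
set_option linter.unusedSectionVars false

namespace CfsgLib.Goldschmidt

open Subgroup CfsgLib.Walter.RankFour

universe u

local instance : Fact (Nat.Prime 2) := ⟨Nat.prime_two⟩

variable {H : Type u} [Group H] [Finite H] {B : Subgroup H}

theorem CompCycle.eq_inf {L W : Subgroup H} {g : H} (hc : CompCycle B L W g)
    (hcf : B ⊓ L ⊓ centralizer (L : Set H) = ⊥) : W = B ⊓ L := by
  refine le_antisymm (le_inf hc.cycle.le hc.le) fun b hb => ?_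
  obtain ⟨w, hw, hbw⟩ := hc.exists_mul b hb.1
  have h1 : b * w ∈ B ⊓ L ⊓ centralizer (L : Set H) :=
    ⟨⟨mul_mem hb.1 (hc.cycle.le hw), mul_mem hb.2 (hc.le hw)⟩, hbw⟩
  rw [hcf, mem_bot] at h1
  rw [eq_inv_of_mul_eq_one_left h1]
  exact inv_mem hw

/-- The cycle together with its normalising property. -/
theorem exists_special_cycle (hO : Cfsg.pPrimeCore 2 H = ⊥) (T : Sylow 2 H)
    (hB : IsMulCommutative ↥B) (hsc : Cfsg.IsStronglyClosed B (T : Subgroup H)) (hgood : GoodComps B)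
    (hloc : LocalFacts (T : Subgroup H) B) {L : Subgroup H} (hA : IsAComp B L)
    (hcf : B ⊓ L ⊓ centralizer (L : Set H) = ⊥) :
    ∃ l ∈ L, Cycle B (B ⊓ L) l ∧ (∀ b ∈ B, b ∈ centralizer (L : Set H) → l * b * l⁻¹ = b) ∧
      (∀ b ∈ B, ∃ w ∈ B ⊓ L, b * w ∈ centralizer (L : Set H)) ∧
      ∀ y ∈ normalizer (L : Set H), y ∈ normalizer (B : Set H) → ∃ i : ℕ, ∀ b ∈ B ⊓ L,
        y * (l * b * l⁻¹) * y⁻¹ = l ^ i * (y * b * y⁻¹) * (l ^ i)⁻¹ := by
  classical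
  obtain ⟨W₀, g₀, hc₀⟩ := hloc.exists_cycle L hA
  have hW₀ := hc₀.eq_inf hcf
  subst hW₀
  have hL := hA.1
  have hgd := hgood L hA
  have : IsSimpleGroup (↥L ⧸ center ↥L) := hL.2.2
  set π := QuotientGroup.mk' (center ↥L) with hπ
  have hone : ∀ a : ↥L, π a = 1 ↔ (a : H) ∈ centralizer (L : Set H) := fun a => by
    rw [hπ, QuotientGroup.mk'_apply, QuotientGroup.eq_one_iff, mem_center_iff, mem_centralizer_iff]
    exact ⟨fun h y hy => congrArg Subtype.val (h ⟨y, hy⟩), fun h y => Subtype.ext (h y y.2)⟩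
  obtain ⟨P, hP⟩ := CfsgLib.SubJoin.exists_sylow_subnormal T hL.1
  set Tb := P.mapSurjective (QuotientGroup.mk'_surjective (center ↥L)) with hTbdef
  have hTb : ∀ a : ↥L, π a ∈ (Tb : Subgroup (↥L ⧸ center ↥L)) ↔ (a : H) ∈ T := by
    intro a
    rw [hTbdef, Sylow.coe_mapSurjective, hP]
    refine ⟨?_, fun ha => ⟨a, mem_subgroupOf.2 ha, rfl⟩⟩
    rintro ⟨q, hq, hqa⟩
    have hz : ((q⁻¹ * a : ↥L) : H) ∈ centralizer (L : Set H) := (hone _).1 (by
      rw [map_mul, map_inv, hπ, hqa, inv_mul_cancel])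
    have hzT : ((q⁻¹ * a : ↥L) : H) ∈ T :=
      (CfsgLib.Components.component_center_le_pCore hO hL).trans (CfsgLib.PCore.pCore_le_sylow T)
        ⟨(q⁻¹ * a).2, hz⟩
    rw [show (a : H) = (q : H) * ((q⁻¹ * a : ↥L) : H) by simp]
    exact mul_mem (mem_subgroupOf.1 hq) hzT
  set D := B ⊓ L with hD
  have hinj : ∀ v w : ↥L, (v : H) ∈ D → (w : H) ∈ D → π v = π w → v = w := by
    intro v w hv hw h
    have hm : ((v * w⁻¹ : ↥L) : H) ∈ D := by simpa using mul_mem hv (inv_mem hw)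
    have h1 : ((v * w⁻¹ : ↥L) : H) ∈ B ⊓ L ⊓ centralizer (L : Set H) :=
      ⟨hm, (hone _).1 (by rw [map_mul, map_inv, h, mul_inv_cancel])⟩
    rw [hcf, mem_bot] at h1
    exact mul_inv_eq_one.1 (Subtype.ext h1)
  set Db := (D.subgroupOf L).map π with hDb
  have hDbsc : Cfsg.IsStronglyClosed Db (Tb : Subgroup (↥L ⧸ center ↥L)) := by
    constructor
    · rintro _ ⟨a, ha, rfl⟩
      exact (hTb a).2 (hsc.1 (mem_subgroupOf.1 ha).1)
    rintro _ ⟨a, ha, rfl⟩ h hh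
    obtain ⟨k, rfl⟩ := QuotientGroup.mk'_surjective _ h
    rw [← map_inv, ← map_mul, ← map_mul] at hh ⊢
    have h0 : ((k * a * k⁻¹ : ↥L) : H) ∈ (T : Subgroup H) := (hTb _).1 hh
    have hkB := hsc.2 _ (mem_subgroupOf.1 ha).1 (k : H) (by simpa using h0)
    exact ⟨k * a * k⁻¹, mem_subgroupOf.2 ⟨by simpa using hkB, (k * a * k⁻¹).2⟩, rfl⟩
  have hDbc : IsMulCommutative ↥Db := by
    refine ⟨⟨fun p q => Subtype.ext ?_⟩⟩
    obtain ⟨a, ha, hax⟩ := p.2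
    obtain ⟨c, hc, hcy⟩ := q.2
    show (p : ↥L ⧸ center ↥L) * q = q * p
    rw [← hax, ← hcy, ← map_mul, ← map_mul]
    exact congrArg π (Subtype.ext (congrArg Subtype.val
      (hB.is_comm.comm (⟨_, (mem_subgroupOf.1 ha).1⟩ : B) ⟨_, (mem_subgroupOf.1 hc).1⟩) :))
  obtain ⟨w₀, hw₀, hw₀1⟩ : ∃ w ∈ D, w ≠ 1 := by
    have h4 := hc₀.cycle.four_le
    refine (Subgroup.bot_or_exists_ne_one D).resolve_left fun h => ?_
    rw [h, Subgroup.card_bot] at h4
    omega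
  have hDbne : Db ≠ ⊥ := by
    intro h
    have h1 : π ⟨w₀, hw₀.2⟩ ∈ Db := ⟨_, mem_subgroupOf.2 hw₀, rfl⟩
    rw [h, mem_bot, ← map_one π] at h1
    exact hw₀1 (congrArg Subtype.val (hinj ⟨w₀, hw₀.2⟩ 1 hw₀ (one_mem D) h1))
  have hΩ := hgd.sc_eq Tb Db hDbsc hDbc hDbne
  obtain ⟨g, hg, -, htrans, hnorm⟩ := hgd.exists_cycle Tb
  obtain ⟨l, rfl⟩ := QuotientGroup.mk'_surjective _ g
  have hlD : ∀ w ∈ D, (l : H) * w * (l : H)⁻¹ ∈ D := by
    intro w hw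
    refine mem_inf.2 ⟨hsc.2 _ hw.1 _ ?_, mul_mem (mul_mem l.2 hw.2) (inv_mem l.2)⟩
    refine (hTb (l * ⟨w, hw.2⟩ * l⁻¹)).1 ?_
    rw [map_mul, map_mul, map_inv]
    exact (mem_normalizer_iff.1 hg _).1 ((hTb _).2 (hsc.1 hw.1))
  have hLC : ∀ b ∈ centralizer (L : Set H), (l : H) * b * (l : H)⁻¹ = b := fun b hb => by
    rw [mem_centralizer_iff.1 hb _ l.2, mul_inv_cancel_right]
  have hsplit : ∀ b ∈ B, ∃ w ∈ D, b * w ∈ centralizer (L : Set H) := hc₀.exists_mul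
  have hlB : ∀ b ∈ B, (l : H) * b * (l : H)⁻¹ ∈ B := by
    intro b hb
    obtain ⟨w, hw, hbw⟩ := hsplit b hb
    rw [show (l : H) * b * (l : H)⁻¹ = ((l : H) * (b * w) * (l : H)⁻¹) * ((l : H) * w⁻¹ * (l : H)⁻¹) by group,
      hLC _ hbw]
    exact mul_mem (mul_mem hb hw.1) (hlD _ (inv_mem hw)).1
  have hmove : ∀ b ∈ B, (l : H) * b * (l : H)⁻¹ * b⁻¹ ∈ D := by
    intro b hb
    obtain ⟨w, hw, hbw⟩ := hsplit b hb
    have hbL := hloc.le_normalizer L hL hb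
    refine mem_inf.2 ⟨mul_mem (hlB b hb) (inv_mem hb), ?_⟩
    rw [show (l : H) * b * (l : H)⁻¹ * b⁻¹ = (l : H) * (b * (l : H)⁻¹ * b⁻¹) by group]
    exact mul_mem l.2 ((mem_normalizer_iff.1 hbL _).1 (inv_mem l.2))
  have hpowD : ∀ (n : ℕ) (w : H), w ∈ D → (l : H) ^ n * w * ((l : H) ^ n)⁻¹ ∈ D := by
    intro n
    induction n with
    | zero => intro w hw; simpa using hw
    | succ n ih =>
      intro w hw
      rw [show (l : H) ^ (n + 1) * w * ((l : H) ^ (n + 1))⁻¹ =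
        (l : H) * ((l : H) ^ n * w * ((l : H) ^ n)⁻¹) * (l : H)⁻¹ by rw [pow_succ']; group]
      exact hlD _ (ih w hw)
  have hmemΩ : ∀ {w : H} (hw : w ∈ D), π ⟨w, hw.2⟩ ∈ involSet (Tb : Subgroup (↥L ⧸ center ↥L)) :=
    fun {w} hw => hΩ ▸ (⟨_, mem_subgroupOf.2 hw, rfl⟩ : π ⟨w, hw.2⟩ ∈ Db)
  refine ⟨l, l.2, ⟨?_, inf_le_left, hc₀.cycle.four_le, hmove, ?_⟩, fun b _ hb => hLC b hb, hsplit, ?_⟩
  · refine mem_normalizer_fintype ?_
    exact hlB
  · intro p hp hp1 q hq hq1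
    have hne : ∀ (w : H) (hw : w ∈ D), w ≠ 1 → π ⟨w, hw.2⟩ ≠ 1 := fun w hw hw1 h => hw1
      (congrArg Subtype.val (hinj ⟨w, hw.2⟩ 1 hw (one_mem D) (by rw [h, map_one])))
    obtain ⟨i, hi⟩ := htrans _ (hmemΩ hp) (hne p hp hp1) _ (hmemΩ hq) (hne q hq hq1)
    refine ⟨i, ?_⟩
    have h := hinj (l ^ i * ⟨p, hp.2⟩ * (l ^ i)⁻¹) ⟨q, hq.2⟩ (by simpa using hpowD i p hp) hq
      (by rw [map_mul, map_mul, map_inv, map_pow]; exact hi)
    simpa using congrArg Subtype.val h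
  · intro y hyL hyB
    have hyD : ∀ w ∈ D, y * w * y⁻¹ ∈ D := fun w hw =>
      ⟨(mem_normalizer_iff.1 hyB w).1 hw.1, (mem_normalizer_iff.1 hyL w).1 hw.2⟩
    let e : ↥L ≃* ↥L := L.normalizerMonoidHom ⟨y, hyL⟩
    let φ : MulAut (↥L ⧸ center ↥L) := QuotientGroup.congr (center ↥L) (center ↥L) e
      (characteristic_iff_map_eq.1 inferInstance e)
    have hφ : ∀ a : ↥L, φ (π a) = π (e a) := fun a => rfl
    have hφD : ∀ p ∈ Db, φ p ∈ Db := by
      rintro _ ⟨a, ha, rfl⟩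
      exact ⟨e a, mem_subgroupOf.2 (hyD _ (mem_subgroupOf.1 ha)), (hφ a).symm⟩
    -- move `φ Tb` back to `Tb` inside the centralizer of `Db`
    set C := centralizer (Db : Set (↥L ⧸ center ↥L)) with hC
    have hφs : Function.Surjective φ.toMonoidHom := φ.surjective
    obtain ⟨T', hT'⟩ : ∃ T' : Sylow 2 (↥L ⧸ center ↥L),
        (T' : Subgroup (↥L ⧸ center ↥L)) = (Tb : Subgroup (↥L ⧸ center ↥L)).map φ.toMonoidHom :=
      ⟨Tb.mapSurjective hφs, Sylow.coe_mapSurjective hφs Tb⟩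
    have hTC : (Tb : Subgroup (↥L ⧸ center ↥L)) ≤ C := fun t ht => mem_centralizer_iff.2 fun p hp =>
      hgd.central Tb p (hΩ ▸ hp) t ht
    have hT'C : (T' : Subgroup (↥L ⧸ center ↥L)) ≤ C := by
      rw [hT']
      rintro _ ⟨t, ht, rfl⟩
      refine mem_centralizer_iff.2 fun p hp => ?_
      have hp' : φ.symm p ∈ Db := by
        have hsurj : Function.Surjective (fun p : Db => (⟨φ p, hφD _ p.2⟩ : Db)) :=
          Finite.surjective_of_injective fun a b h => Subtype.ext (φ.injective (congrArg Subtype.val h))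
        obtain ⟨a, ha⟩ := hsurj ⟨p, hp⟩
        rw [← show φ a = p from congrArg Subtype.val ha, MulEquiv.symm_apply_apply]
        exact a.2
      have := congrArg φ (mem_centralizer_iff.1 (hTC ht) _ hp')
      rw [map_mul, map_mul, MulEquiv.apply_symm_apply] at this
      exact this
    obtain ⟨⟨d, hdC⟩, hd⟩ := MulAction.exists_smul_eq ↥C (T'.subtype hT'C) (Tb.subtype hTC)
    obtain ⟨i, hi⟩ := hnorm (φ.trans (MulAut.conj d)) (by
      intro t ht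
      have h1 : MulAut.conj (⟨d, hdC⟩ : C) ⟨φ t, hT'C (hT'.ge (mem_map_of_mem φ.toMonoidHom ht))⟩ ∈
          ((Tb.subtype hTC : Sylow 2 C) : Subgroup C) := by
        rw [← hd]
        exact Subgroup.smul_mem_pointwise_smul _ (MulAut.conj (⟨d, hdC⟩ : C)) _
          (show _ ∈ ((T'.subtype hT'C : Sylow 2 C) : Subgroup C) from by
            rw [Sylow.coe_subtype, mem_subgroupOf]; exact hT'.ge (mem_map_of_mem φ.toMonoidHom ht))
      simpa [Sylow.coe_subtype, mem_subgroupOf] using h1)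
    refine ⟨i, fun b hb => ?_⟩
    have hfix : ∀ p ∈ Db, d * p * d⁻¹ = p := fun p hp => by
      rw [← mem_centralizer_iff.1 hdC p hp, mul_inv_cancel_right]
    have h := hi _ (hmemΩ hb)
    have hb' : π ⟨b, hb.2⟩ ∈ Db := ⟨_, mem_subgroupOf.2 hb, rfl⟩
    have hlb : π (l * ⟨b, hb.2⟩ * l⁻¹) ∈ Db := ⟨_, mem_subgroupOf.2 (hlD b hb), rfl⟩
    rw [← map_inv, ← map_mul, ← map_mul] at h
    simp only [MulEquiv.trans_apply, MulAut.conj_apply] at h
    rw [hfix _ (hφD _ hlb), hfix _ (hφD _ hb'), hφ, hφ] at h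
    have h' := hinj (e (l * ⟨b, hb.2⟩ * l⁻¹)) (l ^ i * e ⟨b, hb.2⟩ * (l ^ i)⁻¹) (hyD _ (hlD b hb))
      (show (l : H) ^ i * (y * b * y⁻¹) * ((l : H) ^ i)⁻¹ ∈ D from hpowD i _ (hyD b hb))
      (h.trans (by simp only [hπ, map_mul, map_inv, map_pow]))
    have h'' := congrArg Subtype.val h'
    simp only [coe_mul, coe_inv, coe_pow] at h''
    exact h''

end CfsgLib.Goldschmidt
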