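import Cfsg.Agent.Lib.Goldschmidt.Basic
import Cfsg.Agent.Lib.Goldschmidt.BigPiece
import Cfsg.Agent.Lib.Goldschmidt.CentreFree
import Cfsg.Agent.Lib.Goldschmidt.CycleNormal
import Cfsg.Agent.Lib.Goldschmidt.Pump
import Cfsg.Agent.Lib.Goldschmidt.SpecialCycle
import Cfsg.Agent.Lib.Walter.RankFour.BigCommutator

/-!
# Pieces have less than the square root of `|A|` elements

Suppose some component seen by `A` has a piece `W` with `|W|² ≥ |A|` and take `|W|` maximal. The pairs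
`(A ∩ C(L), A ∩ L)` with pieces of that order form a piece family for the automizer of `A`, so the automizer
has a normal 2-complement; hence it has odd order, and the linear lemma of Walter's theorem rules out the
cycle.
-/

set_option autoImplicit false
set_option linter.unusedSectionVars false
set_option linter.style.haveILetI false

namespace CfsgLib.Goldschmidt

open Subgroup CfsgLib.Walter.RankFour

universe u

local instance : Fact (Nat.Prime 2) := ⟨Nat.prime_two⟩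

variable {G : Type u} [Group G] [Finite G]

theorem piece_le {A : Subgroup G} {u : G} {L : Subgroup (CenBar u)} : piece A u L ≤ A := inf_le_left

theorem centPart_le {A : Subgroup G} {u : G} {L : Subgroup (CenBar u)} : centPart A u L ≤ A := inf_le_left

/-- Conjugation moves pieces. -/
theorem conj_mem_piece_iff {A : Subgroup G} {n u u' : G} (h : n * u * n⁻¹ = u') (hA : A ≤ cen u)
    (hn : n ∈ normalizer (A : Set G)) {L : Subgroup (CenBar u)} {x : G} (hx : x ∈ A) :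
    n * x * n⁻¹ ∈ piece A u' (L.map (cenBarConj h).toMonoidHom) ↔ x ∈ piece A u L := by
  have e : cenBarConj h (bar u ⟨x, hA hx⟩) = bar u' ⟨n * x * n⁻¹, (cenConj h ⟨x, hA hx⟩).2⟩ := rfl
  rw [mem_piece_iff, mem_piece_iff]
  refine ⟨fun ⟨_, _, h2⟩ => ⟨hx, hA hx, ?_⟩, fun ⟨_, _, h2⟩ =>
    ⟨(mem_normalizer_iff.1 hn x).1 hx, (cenConj h ⟨x, hA hx⟩).2, ?_⟩⟩
  · obtain ⟨z, hz, hze⟩ := h2
    rwa [← (cenBarConj h).injective (show cenBarConj h z = cenBarConj h (bar u ⟨x, hA hx⟩) by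
      rw [e]; exact hze)]
  · exact ⟨_, h2, e⟩

/-- Conjugation moves the centralising parts. -/
theorem conj_mem_centPart_iff {A : Subgroup G} {n u u' : G} (h : n * u * n⁻¹ = u') (hA : A ≤ cen u)
    (hn : n ∈ normalizer (A : Set G)) {L : Subgroup (CenBar u)} {x : G} (hx : x ∈ A) :
    n * x * n⁻¹ ∈ centPart A u' (L.map (cenBarConj h).toMonoidHom) ↔ x ∈ centPart A u L := by
  have e : cenBarConj h (bar u ⟨x, hA hx⟩) = bar u' ⟨n * x * n⁻¹, (cenConj h ⟨x, hA hx⟩).2⟩ := rfl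
  rw [mem_centPart, mem_centPart]
  refine ⟨fun ⟨_, _, h2⟩ => ⟨hx, hA hx, mem_centralizer_iff.2 fun l hl => (cenBarConj h).injective ?_⟩,
    fun ⟨_, _, h2⟩ => ⟨(mem_normalizer_iff.1 hn x).1 hx, (cenConj h ⟨x, hA hx⟩).2,
      mem_centralizer_iff.2 ?_⟩⟩
  · rw [map_mul, map_mul, e]
    exact mem_centralizer_iff.1 h2 _ (mem_map_of_mem _ hl)
  · rintro _ ⟨l, hl, rfl⟩
    rw [← e]
    exact (map_mul (cenBarConj h) _ _).symm.trans
      ((congrArg _ (mem_centralizer_iff.1 h2 l hl)).trans (map_mul _ _ _))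

/-- A conjugate of a cycle by an automorphism fixing the pair is a cycle. -/
theorem IsPieceCycle.conj {V : Type u} [CommGroup V] [Finite V] {U W : Subgroup V} {g f : MulAut V}
    (hg : IsPieceCycle U W g) (hf : mapPair f (U, W) = (U, W)) : IsPieceCycle U W (f * g * f⁻¹) := by
  have hU : U.map f.toMonoidHom = U := congrArg Prod.fst hf
  have hW : W.map f.toMonoidHom = W := congrArg Prod.snd hf
  have hfU : ∀ x ∈ U, f⁻¹ x ∈ U := fun x hx => by
    rw [← hU] at hx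
    obtain ⟨z, hz, rfl⟩ := hx
    exact (f.symm_apply_apply z).symm ▸ hz
  have hfW : ∀ x ∈ W, f⁻¹ x ∈ W := fun x hx => by
    rw [← hW] at hx
    obtain ⟨z, hz, rfl⟩ := hx
    exact (f.symm_apply_apply z).symm ▸ hz
  refine ⟨fun x hx => ?_, fun x hx => ?_, fun x hx hx1 z hz hz1 => ?_⟩
  · rw [MulAut.mul_apply, MulAut.mul_apply, hg.fix _ (hfU x hx)]
    exact f.apply_symm_apply x
  · rw [MulAut.mul_apply, MulAut.mul_apply, ← hW]
    exact mem_map_auto (hg.maps _ (hfW x hx))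
  · obtain ⟨i, hi⟩ := hg.trans _ (hfW x hx) (fun e => hx1 (by simpa using congrArg f e))
      _ (hfW z hz) (fun e => hz1 (by simpa using congrArg f e))
    refine ⟨i, ?_⟩
    rw [conj_pow, MulAut.mul_apply, MulAut.mul_apply, hi]
    exact f.apply_symm_apply z

namespace Setting

variable (E : Setting G)

/-- `A` is abelian. -/
local instance commGroupA : CommGroup ↥E.A :=
  { (inferInstance : Group ↥E.A) with mul_comm := fun a b => Subtype.ext (E.commute_A a.2 b.2) }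

/-- `y` is a cycle of the component `L` seen at `u`. -/
structure CycleData (u : G) (L : Subgroup (CenBar u)) (y : ↥(cen u)) : Prop where
  bar_mem : bar u y ∈ L
  normalizes : img u E.A ≤ normalizer (L : Set (CenBar u))
  cycle : Cycle E.A (piece E.A u L) (y : G)
  fix : ∀ a ∈ centPart E.A u L, (y : G) * a * (y : G)⁻¹ = a
  mem_of_fix : ∀ a ∈ E.A, (y : G) * a * (y : G)⁻¹ = a → a ∈ centPart E.A u L
  split : ∀ a ∈ E.A, ∃ w ∈ piece E.A u L, a * w ∈ centPart E.A u L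
  self_mem : u ∈ centPart E.A u L
  disj : centPart E.A u L ⊓ piece E.A u L = ⊥
  special : ∀ m : ↥(cen u), (m : G) ∈ normalizer (E.A : Set G) → bar u m ∈ normalizer (L : Set (CenBar u)) →
    ∃ i : ℕ, ∀ w ∈ piece E.A u L, (m : G) * ((y : G) * w * (y : G)⁻¹) * (m : G)⁻¹ =
      (y : G) ^ i * ((m : G) * w * (m : G)⁻¹) * ((y : G) ^ i)⁻¹

theorem exists_cycleData
    (hloc : ∀ u ∈ E.A, u ≠ 1 → ∀ T : Sylow 2 (CenBar u),
      Cfsg.IsStronglyClosed (img u E.A) (T : Subgroup (CenBar u)) →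
        LocalFacts (T : Subgroup (CenBar u)) (img u E.A))
    (hcf : E.CentreFree) {u : G} (hu : u ∈ E.A) (hu1 : u ≠ 1) {L : Subgroup (CenBar u)}
    (hL : IsAComp (img u E.A) L) : ∃ y : ↥(cen u), E.CycleData u L y := by
  obtain ⟨P, T, -, -, hT⟩ := E.exists_local (E.le_cen hu)
  have hLF := hloc u hu hu1 T hT
  have hgood : GoodComps (img u E.A) := E.good u (orderOf_eq_prime (E.elem.2 u hu) hu1) (E.sc.1 hu)
    (mem_centralizer_iff.2 fun _ ha => E.commute_A ha hu)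
  obtain ⟨l, hlL, hlc, hlfix, hlsplit, hlspec⟩ := exists_special_cycle (cenBar_core u) T
    (img_isMulCommutative E.comm_A) hT hgood hLF hL (hcf u hu hu1 L hL)
  obtain ⟨y, hyN, hy⟩ := E.exists_lift hu hlc.mem_normalizer
  have hAu := E.le_cen hu
  have hyA : ∀ a ∈ E.A, (y : G) * a * (y : G)⁻¹ ∈ E.A := fun a ha => conjA hyN ha
  have hbarW : ∀ w (hw : w ∈ piece E.A u L), bar u ⟨w, hAu (piece_le hw)⟩ ∈ img u E.A ⊓ L :=
    fun w hw => by
      obtain ⟨hwA, _, hwL⟩ := mem_piece_iff.1 hw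
      exact ⟨bar_mem_img hwA _, hwL⟩
  have hinj : ∀ a b : ↥(cen u), (a : G) ∈ E.A → (b : G) ∈ E.A → bar u a = bar u b → (a : G) = b :=
    fun a b ha hb h => congrArg Subtype.val (bar_inj_two E.isPGroup_A ha hb h)
  have hpow : ∀ (i : ℕ) (a : G) (ha : a ∈ E.A), (y : G) ^ i * a * ((y : G) ^ i)⁻¹ ∈ E.A ∧
      bar u (y ^ i * ⟨a, hAu ha⟩ * (y ^ i)⁻¹) = l ^ i * bar u ⟨a, hAu ha⟩ * (l ^ i)⁻¹ := by
    intro i a ha
    exact ⟨conjA (pow_mem hyN i) ha, by rw [map_mul, map_mul, map_inv, map_pow, hy]⟩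
  have hfix : ∀ a ∈ centPart E.A u L, (y : G) * a * (y : G)⁻¹ = a := by
    intro a ha
    obtain ⟨haA, hac, haL⟩ := mem_centPart.1 ha
    refine hinj (y * ⟨a, hac⟩ * y⁻¹) ⟨a, hac⟩ (hyA a haA) haA ?_
    rw [map_mul, map_mul, map_inv, hy]
    exact hlfix _ (bar_mem_img haA hac) haL
  have hsplit : ∀ a ∈ E.A, ∃ w ∈ piece E.A u L, a * w ∈ centPart E.A u L := by
    intro a ha
    obtain ⟨b, ⟨hb, hbL⟩, hab⟩ := hlsplit _ (bar_mem_img ha (hAu ha))
    obtain ⟨w, hw, hwc, rfl⟩ := mem_img.1 hb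
    refine ⟨w, mem_piece_iff.2 ⟨hw, hwc, hbL⟩, mem_centPart.2 ⟨mul_mem ha hw, mul_mem (hAu ha) hwc, ?_⟩⟩
    rw [show (⟨a * w, mul_mem (hAu ha) hwc⟩ : ↥(cen u)) = ⟨a, hAu ha⟩ * ⟨w, hwc⟩ from rfl, map_mul]
    exact hab
  have hdisj : centPart E.A u L ⊓ piece E.A u L = ⊥ := by
    refine eq_bot_iff.2 fun a ⟨haU, haW⟩ => ?_
    obtain ⟨haA, hac, haL⟩ := mem_centPart.1 haU
    have h1 : bar u ⟨a, hac⟩ ∈ img u E.A ⊓ L ⊓ centralizer (L : Set (CenBar u)) :=
      ⟨hbarW a haW, haL⟩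
    rw [hcf u hu hu1 L hL, mem_bot] at h1
    exact mem_bot.2 (congrArg Subtype.val (eq_one_of_bar_eq E.isPGroup_A (a := ⟨a, hac⟩) haA h1))
  have himg : img u (piece E.A u L) = img u E.A ⊓ L := by
    refine le_antisymm (fun b hb => ?_) fun b hb => ?_
    · obtain ⟨w, hw, hwc, rfl⟩ := mem_img.1 hb
      exact hbarW w hw
    · obtain ⟨a, ha, hac, rfl⟩ := mem_img.1 hb.1
      exact bar_mem_img (mem_piece_iff.2 ⟨ha, hac, hb.2⟩) hac
  have hcyc : Cycle E.A (piece E.A u L) (y : G) := by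
    refine ⟨hyN, piece_le, ?_, fun a ha => ?_, fun v hv hv1 w hw hw1 => ?_⟩
    · rw [← card_img (E.isPGroup_A.to_le piece_le) (piece_le.trans hAu), himg]
      exact hlc.four_le
    · have hm := hlc.move _ (bar_mem_img ha (hAu ha))
      refine mem_piece_iff.2 ⟨mul_mem (hyA a ha) (inv_mem ha), (y * ⟨a, hAu ha⟩ * y⁻¹ * ⟨a, hAu ha⟩⁻¹).2, ?_⟩
      show bar u (y * ⟨a, hAu ha⟩ * y⁻¹ * ⟨a, hAu ha⟩⁻¹) ∈ L
      rw [map_mul, map_mul, map_mul, map_inv, map_inv, hy]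
      exact hm.2
    · have hne : ∀ x (hx : x ∈ piece E.A u L), x ≠ 1 → bar u ⟨x, hAu (piece_le hx)⟩ ≠ 1 :=
        fun x hx hx1 e => hx1 (congrArg Subtype.val
          (eq_one_of_bar_eq E.isPGroup_A (a := ⟨x, hAu (piece_le hx)⟩) (piece_le hx) e))
      obtain ⟨i, hi⟩ := hlc.trans _ (hbarW v hv) (hne v hv hv1) _ (hbarW w hw) (hne w hw hw1)
      obtain ⟨h1, h2⟩ := hpow i v (piece_le hv)
      exact ⟨i, hinj (y ^ i * ⟨v, hAu (piece_le hv)⟩ * (y ^ i)⁻¹) ⟨w, hAu (piece_le hw)⟩ h1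
        (piece_le hw) (h2.trans hi)⟩
  refine ⟨y, by rw [hy]; exact hlL, hLF.le_normalizer L hL.1, hcyc, hfix, fun a ha hya => ?_, hsplit,
    mem_centPart.2 ⟨hu, hAu hu, ?_⟩, hdisj, fun m hmN hmL => ?_⟩
  · obtain ⟨w, hw, haw⟩ := hsplit a ha
    have h1 := hfix _ haw
    rw [show (y : G) * (a * w) * (y : G)⁻¹ =
      ((y : G) * a * (y : G)⁻¹) * ((y : G) * w * (y : G)⁻¹) by group, hya] at h1
    rwa [cycle_fix_trivial hcyc hw (mul_left_cancel h1), mul_one] at haw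
  · refine mem_centralizer_iff.2 fun z _ => ?_
    obtain ⟨x, rfl⟩ := QuotientGroup.mk'_surjective (Cfsg.pPrimeCore 2 ↥(cen u)) z
    rw [← map_mul, ← map_mul]
    exact congrArg _ (Subtype.ext (mem_centralizer_singleton_iff.1 x.2))
  · have hmB : bar u m ∈ normalizer (img u E.A : Set (CenBar u)) := by
      refine mem_normalizer_fintype fun b hb => ?_
      obtain ⟨a, ha, hac, rfl⟩ := mem_img.1 hb
      rw [← map_inv, ← map_mul, ← map_mul]
      exact bar_mem_img (conjA hmN ha) (m * ⟨a, hac⟩ * m⁻¹).2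
    obtain ⟨i, hi⟩ := hlspec _ hmL hmB
    refine ⟨i, fun w hw => ?_⟩
    have hwA := piece_le hw
    refine hinj (m * (y * ⟨w, hAu hwA⟩ * y⁻¹) * m⁻¹) (y ^ i * (m * ⟨w, hAu hwA⟩ * m⁻¹) * (y ^ i)⁻¹)
      (conjA hmN (hyA w hwA)) (conjA (pow_mem hyN i) (conjA hmN hwA)) ?_
    simp only [map_mul, map_inv, map_pow, hy]
    exact hi _ (hbarW w hw)

variable {E}

namespace CycleData

variable {u : G} {L : Subgroup (CenBar u)} {y : ↥(cen u)}

theorem isCompl (hD : E.CycleData u L y) :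
    IsCompl ((centPart E.A u L).subgroupOf E.A) ((piece E.A u L).subgroupOf E.A) := by
  refine ⟨disjoint_iff.2 (eq_bot_iff.2 fun a ⟨h1, h2⟩ => ?_), codisjoint_iff.2 (eq_top_iff.2 fun a _ => ?_)⟩
  · exact mem_bot.2 (Subtype.ext (mem_bot.1 (hD.disj.le ⟨h1, h2⟩)))
  · obtain ⟨w, hw, haw⟩ := hD.split a a.2
    rw [show a = (a * ⟨w, piece_le hw⟩) * (⟨w, piece_le hw⟩ : ↥E.A)⁻¹ by group]
    exact mul_mem_sup (mem_subgroupOf.2 haw) (inv_mem (mem_subgroupOf.2 hw))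

theorem card_mul (hD : E.CycleData u L y) :
    Nat.card (centPart E.A u L) * Nat.card (piece E.A u L) = Nat.card E.A := by
  rw [← Nat.card_congr (subgroupOfEquivOfLe (centPart_le (A := E.A) (L := L))).toEquiv,
    ← Nat.card_congr (subgroupOfEquivOfLe (piece_le (A := E.A) (L := L))).toEquiv]
  refine (Subgroup.isComplement'_of_disjoint_and_mul_eq_univ hD.isCompl.disjoint
    (Set.eq_univ_of_forall fun a => ?_)).card_mul_card
  obtain ⟨w, hw, haw⟩ := hD.split a a.2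
  exact ⟨a * ⟨w, piece_le hw⟩, mem_subgroupOf.2 haw, (⟨w, piece_le hw⟩ : ↥E.A)⁻¹,
    inv_mem (mem_subgroupOf.2 hw), by group⟩

/-- The cycle as an automorphism of `A`. -/
theorem isPieceCycle (hD : E.CycleData u L y) :
    IsPieceCycle ((centPart E.A u L).subgroupOf E.A) ((piece E.A u L).subgroupOf E.A)
      (E.A.normalizerMonoidHom ⟨y, hD.cycle.mem_normalizer⟩) := by
  let n : ↥(normalizer (E.A : Set G)) := ⟨y, hD.cycle.mem_normalizer⟩
  refine ⟨fun a ha => Subtype.ext (hD.fix a ha), fun a ha => ?_, fun a ha ha1 b hb hb1 => ?_⟩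
  · have h := mul_mem (hD.cycle.move a a.2) (mem_subgroupOf.1 ha)
    rw [inv_mul_cancel_right] at h
    exact mem_subgroupOf.2 h
  · obtain ⟨i, hi⟩ := hD.cycle.trans _ (mem_subgroupOf.1 ha) (fun e => ha1 (Subtype.ext e)) _
      (mem_subgroupOf.1 hb) (fun e => hb1 (Subtype.ext e))
    refine ⟨i, ?_⟩
    show (E.A.normalizerMonoidHom n ^ i) a = b
    rw [← map_pow]
    exact Subtype.ext hi

theorem piece_ne_bot (hD : E.CycleData u L y) : (piece E.A u L).subgroupOf E.A ≠ ⊥ := by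
  intro h
  have h1 := (subgroupOf_eq_bot.1 h).eq_bot_of_le piece_le
  have h4 := hD.cycle.four_le
  rw [h1, card_bot] at h4
  omega

/-- A conjugate of the cycle by the stabiliser of its pair normalises it. -/
theorem conj_cycle (hD : E.CycleData u L y) (hu : u ∈ E.A) (hL : IsAComp (img u E.A) L) {f : MulAut ↥E.A}
    (hf : f ∈ E.aut)
    (hfp : mapPair f ((centPart E.A u L).subgroupOf E.A, (piece E.A u L).subgroupOf E.A) =
      ((centPart E.A u L).subgroupOf E.A, (piece E.A u L).subgroupOf E.A)) :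
    f * E.A.normalizerMonoidHom ⟨y, hD.cycle.mem_normalizer⟩ * f⁻¹ *
        E.A.normalizerMonoidHom ⟨y, hD.cycle.mem_normalizer⟩ *
        (f * E.A.normalizerMonoidHom ⟨y, hD.cycle.mem_normalizer⟩ * f⁻¹)⁻¹ ∈
      zpowers (E.A.normalizerMonoidHom ⟨y, hD.cycle.mem_normalizer⟩) := by
  have hg := hD.isPieceCycle
  have hc' := hg.conj hfp
  set g := E.A.normalizerMonoidHom ⟨y, hD.cycle.mem_normalizer⟩ with hgdef
  obtain ⟨n, rfl⟩ := hf
  obtain ⟨n', hn'g⟩ : ∃ n', E.A.normalizerMonoidHom n * g * (E.A.normalizerMonoidHom n)⁻¹ =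
      E.A.normalizerMonoidHom n' :=
    ⟨n * ⟨y, hD.cycle.mem_normalizer⟩ * n⁻¹, by rw [map_mul, map_mul, map_inv, hgdef]⟩
  rw [hn'g] at hc' ⊢
  have hfu : (n' : G) * u * (n' : G)⁻¹ = u :=
    congrArg Subtype.val (hc'.fix ⟨u, hu⟩ (mem_subgroupOf.2 hD.self_mem))
  set m : ↥(cen u) := ⟨(n' : G), mem_centralizer_singleton_iff.2 (mul_inv_eq_iff_eq_mul.1 hfu)⟩ with hm
  have hL' := hL.map_conj hfu n'.2
  have hLeq : L.map (cenBarConj hfu).toMonoidHom = L := by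
    by_contra hne
    obtain ⟨⟨w, hw⟩, hw1⟩ := Subgroup.ne_bot_iff_exists_ne_one.1 hD.piece_ne_bot
    have hw' := hc'.maps w hw
    have h1 : ((E.A.normalizerMonoidHom n' w : ↥E.A) : G) ∈
        piece E.A u (L.map (cenBarConj hfu).toMonoidHom) :=
      (conj_mem_piece_iff hfu (E.le_cen hu) n'.2 w.2).2 hw
    obtain ⟨haA, hac, haL⟩ := mem_piece_iff.1 h1
    have h2 : ((E.A.normalizerMonoidHom n' w : ↥E.A) : G) ∈ centPart E.A u L := mem_centPart.2 ⟨haA, hac,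
      CfsgLib.Components.le_centralizer_of_commutator_eq_bot
        (CfsgLib.Components.commutator_components_eq_bot hL'.1 hL.1 hne) haL⟩
    have h3 := mem_bot.1 (hD.disj.le ⟨h2, hw'⟩)
    exact hw1 (Subtype.ext ((E.A.normalizerMonoidHom n').injective
      ((Subtype.ext h3).trans (map_one _).symm)))
  have hmL : bar u m ∈ normalizer (L : Set (CenBar u)) := by
    refine mem_normalizer_fintype fun z hz => ?_
    have h1 : cenBarConj hfu z ∈ L := hLeq.le (mem_map_of_mem _ hz)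
    obtain ⟨x, rfl⟩ := QuotientGroup.mk'_surjective (Cfsg.pPrimeCore 2 ↥(cen u)) z
    rw [← map_inv, ← map_mul, ← map_mul]
    exact h1
  obtain ⟨i, hi⟩ := hD.special m n'.2 hmL
  have heq : E.A.normalizerMonoidHom n' * g = g ^ i * E.A.normalizerMonoidHom n' := by
    refine MulEquiv.ext fun x => ?_
    obtain ⟨a, ha, c, hc2, rfl⟩ := IsPieceCycle.exists_mul hD.isCompl x
    have hga : E.A.normalizerMonoidHom n' (g a) = (g ^ i) (E.A.normalizerMonoidHom n' a) := by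
      rw [hg.fix a ha, hc'.fix a ha, hg.fix_pow i a ha]
    have hgc : E.A.normalizerMonoidHom n' (g c) = (g ^ i) (E.A.normalizerMonoidHom n' c) := by
      rw [hgdef, ← map_pow]
      exact Subtype.ext (hi c hc2)
    rw [MulAut.mul_apply, MulAut.mul_apply, map_mul, map_mul, map_mul, map_mul, hga, hgc]
  rw [heq, mul_inv_cancel_right]
  exact pow_mem (mem_zpowers g) i

/-- The stabiliser of the pair normalises the cycle. -/
theorem conj_mem_zpowers (hD : E.CycleData u L y) (hu : u ∈ E.A) (hL : IsAComp (img u E.A) L)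
    {f : MulAut ↥E.A} (hf : f ∈ E.aut)
    (hfp : mapPair f ((centPart E.A u L).subgroupOf E.A, (piece E.A u L).subgroupOf E.A) =
      ((centPart E.A u L).subgroupOf E.A, (piece E.A u L).subgroupOf E.A)) :
    f * E.A.normalizerMonoidHom ⟨y, hD.cycle.mem_normalizer⟩ * f⁻¹ ∈
      zpowers (E.A.normalizerMonoidHom ⟨y, hD.cycle.mem_normalizer⟩) := by
  set P := ((centPart E.A u L).subgroupOf E.A, (piece E.A u L).subgroupOf E.A) with hP
  have hfi : mapPair f⁻¹ P = P := by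
    conv_lhs => rw [← hfp]
    rw [← mapPair_mul, inv_mul_cancel, mapPair_one]
  obtain ⟨k, hk⟩ := mem_zpowers_iff.1 (hD.conj_cycle hu hL (inv_mem hf) hfi)
  refine mem_zpowers_of_mutual hD.isPieceCycle (hD.isPieceCycle.conj hfp) hD.isCompl hD.piece_ne_bot
    (hD.conj_cycle hu hL hf hfp) (mem_zpowers_iff.2 ⟨k, ?_⟩)
  rw [conj_zpow, hk]
  group

end CycleData

variable (E)

/-- Conjugation by `N(A)` permutes the pairs of the members. -/
theorem exists_conj_member {f : MulAut ↥E.A} (hf : f ∈ E.aut) {u : G} (hu : u ∈ E.A) (hu1 : u ≠ 1)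
    {L : Subgroup (CenBar u)} (hL : IsAComp (img u E.A) L) :
    ∃ u' ∈ E.A, u' ≠ 1 ∧ ∃ L', IsAComp (img u' E.A) L' ∧
      Nat.card (piece E.A u' L') = Nat.card (piece E.A u L) ∧
      ((centPart E.A u' L').subgroupOf E.A, (piece E.A u' L').subgroupOf E.A) =
        mapPair f ((centPart E.A u L).subgroupOf E.A, (piece E.A u L).subgroupOf E.A) := by
  obtain ⟨n, rfl⟩ := hf
  have hAu := E.le_cen hu
  set u' := (n : G) * u * (n : G)⁻¹ with hu'
  have h : (n : G) * u * (n : G)⁻¹ = u' := rfl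
  set φn := E.A.normalizerMonoidHom n with hφn
  have key : ∀ X' X : Subgroup G, (∀ x ∈ E.A, (n : G) * x * (n : G)⁻¹ ∈ X' ↔ x ∈ X) →
      X'.subgroupOf E.A = (X.subgroupOf E.A).map φn.toMonoidHom := by
    intro X' X hiff
    ext a
    constructor
    · intro ha
      refine ⟨φn⁻¹ a, ?_, φn.apply_symm_apply a⟩
      refine mem_subgroupOf.2 ((hiff _ (φn⁻¹ a).2).1 ?_)
      rw [show (n : G) * ((φn⁻¹ a : ↥E.A) : G) * (n : G)⁻¹ = (a : G) from
        congrArg Subtype.val (φn.apply_symm_apply a)]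
      exact ha
    · rintro ⟨b, hb, rfl⟩
      exact (hiff _ b.2).2 hb
  refine ⟨u', conjA n.2 hu, fun e => hu1 ?_, _, hL.map_conj h n.2, ?_, ?_⟩
  · rwa [hu', conj_eq_one_iff] at e
  · rw [← Nat.card_congr (subgroupOfEquivOfLe (piece_le (A := E.A))).toEquiv,
      key _ (piece E.A u L) fun x hx => conj_mem_piece_iff h hAu n.2 hx, card_map_auto,
      Nat.card_congr (subgroupOfEquivOfLe piece_le).toEquiv]
  · show (_, _) = (_, _)
    rw [key _ (piece E.A u L) fun x hx => conj_mem_piece_iff h hAu n.2 hx,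
      key _ (centPart E.A u L) fun x hx => conj_mem_centPart_iff h hAu n.2 hx]

/-- A maximal member is a member at every element of the part centralising it. -/
theorem exists_member_at
    (hloc : ∀ u ∈ E.A, u ≠ 1 → ∀ T : Sylow 2 (CenBar u),
      Cfsg.IsStronglyClosed (img u E.A) (T : Subgroup (CenBar u)) →
        LocalFacts (T : Subgroup (CenBar u)) (img u E.A))
    (hcf : E.CentreFree) {q₀ : ℕ}
    (hle : ∀ u ∈ E.A, u ≠ 1 → ∀ L, IsAComp (img u E.A) L → Nat.card (piece E.A u L) ≤ q₀)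
    {u : G} (hu : u ∈ E.A) (hu1 : u ≠ 1) {L : Subgroup (CenBar u)} (hL : IsAComp (img u E.A) L)
    (hc : Nat.card (piece E.A u L) = q₀) {v : G} (hv : v ∈ centPart E.A u L) (hv1 : v ≠ 1) :
    ∃ M, IsAComp (img v E.A) M ∧ piece E.A v M = piece E.A u L ∧ centPart E.A v M = centPart E.A u L := by
  have hvA := centPart_le hv
  obtain ⟨y, hD⟩ := E.exists_cycleData hloc hcf hu hu1 hL
  obtain ⟨P, T, -, -, hT⟩ := E.exists_local (E.le_cen hvA)
  obtain ⟨M, hM, hWM, hfix⟩ := E.pump hu hL hD.normalizes hv hD.bar_mem hD.cycle (hcf u hu hu1 L hL)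
    hT (hloc v hvA hv1 T hT) (hcf v hvA hv1)
  have hW : piece E.A u L = piece E.A v M :=
    Subgroup.eq_of_le_of_card_ge hWM ((hle v hvA hv1 M hM).trans hc.ge)
  obtain ⟨y', hD'⟩ := E.exists_cycleData hloc hcf hvA hv1 hM
  refine ⟨M, hM, hW.symm, Subgroup.eq_of_le_of_card_ge
    (fun a ha => hD.mem_of_fix a (centPart_le ha) (hfix a ha)) (le_of_eq ?_)⟩
  refine Nat.eq_of_mul_eq_mul_right (Nat.card_pos (α := piece E.A v M)) ?_
  rw [hD'.card_mul, ← hW, hD.card_mul]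

/-- The maximal members form a piece family. -/
theorem isPieceFamily_members
    (hloc : ∀ u ∈ E.A, u ≠ 1 → ∀ T : Sylow 2 (CenBar u),
      Cfsg.IsStronglyClosed (img u E.A) (T : Subgroup (CenBar u)) →
        LocalFacts (T : Subgroup (CenBar u)) (img u E.A))
    (hcf : E.CentreFree) {q₀ : ℕ}
    (hle : ∀ u ∈ E.A, u ≠ 1 → ∀ L, IsAComp (img u E.A) L → Nat.card (piece E.A u L) ≤ q₀)
    (hq : Nat.card E.A ≤ q₀ ^ 2) :
    IsPieceFamily E.aut {p | ∃ u ∈ E.A, u ≠ 1 ∧ ∃ L, IsAComp (img u E.A) L ∧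
      Nat.card (piece E.A u L) = q₀ ∧
      ((centPart E.A u L).subgroupOf E.A, (piece E.A u L).subgroupOf E.A) = p} := by
  have hcU : ∀ u ∈ E.A, u ≠ 1 → ∀ L, IsAComp (img u E.A) L → Nat.card (piece E.A u L) = q₀ →
      Nat.card (centPart E.A u L) ≤ q₀ := by
    intro u hu hu1 L hL hc
    obtain ⟨y, hD⟩ := E.exists_cycleData hloc hcf hu hu1 hL
    have h := hD.card_mul
    rw [hc] at h
    refine Nat.le_of_mul_le_mul_right ?_ (hc ▸ Nat.card_pos (α := piece E.A u L))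
    rw [h, ← pow_two]
    exact hq
  refine ⟨?_, ?_, ?_, ?_, ?_, ?_⟩
  · rintro f hf _ ⟨u, hu, hu1, L, hL, hc, rfl⟩
    obtain ⟨u', hu', hu'1, L', hL', hc', he⟩ := E.exists_conj_member hf hu hu1 hL
    exact ⟨u', hu', hu'1, L', hL', hc'.trans hc, he⟩
  · rintro _ ⟨u, hu, hu1, L, hL, -, rfl⟩
    obtain ⟨y, hD⟩ := E.exists_cycleData hloc hcf hu hu1 hL
    exact hD.isCompl
  · rintro _ ⟨u, hu, hu1, L, hL, -, rfl⟩ h
    obtain ⟨y, hD⟩ := E.exists_cycleData hloc hcf hu hu1 hL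
    have h1 : (⟨u, hu⟩ : ↥E.A) ∈ (centPart E.A u L).subgroupOf E.A := mem_subgroupOf.2 hD.self_mem
    rw [show (centPart E.A u L).subgroupOf E.A = ⊥ from h, mem_bot] at h1
    exact hu1 (congrArg Subtype.val h1)
  · rintro _ ⟨u, hu, hu1, L, hL, hc, rfl⟩
    rw [Nat.card_congr (subgroupOfEquivOfLe centPart_le).toEquiv,
      Nat.card_congr (subgroupOfEquivOfLe piece_le).toEquiv, hc]
    exact hcU u hu hu1 L hL hc
  · rintro _ ⟨u, hu, hu1, L, hL, hc, rfl⟩ _ ⟨u', hu', hu'1, L', hL', hc', rfl⟩ hne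
    obtain ⟨⟨v, hv⟩, hv1⟩ := Subgroup.ne_bot_iff_exists_ne_one.1 hne
    have hv1' : (v : G) ≠ 1 := fun e => hv1 (Subtype.ext (Subtype.ext e))
    obtain ⟨M, hM, hWM, hUM⟩ := E.exists_member_at hloc hcf hle hu hu1 hL hc hv.1 hv1'
    obtain ⟨M', hM', hWM', hUM'⟩ := E.exists_member_at hloc hcf hle hu' hu'1 hL' hc' hv.2 hv1'
    rcases eq_or_ne M M' with rfl | hMM
    · rw [← hWM, ← hUM, hWM', hUM']
    · exfalso
      obtain ⟨y', hD'⟩ := E.exists_cycleData hloc hcf hu' hu'1 hL'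
      have hle' : piece E.A u' L' ≤ centPart E.A u L := by
        rw [← hWM', ← hUM]
        intro a ha
        obtain ⟨haA, hac, haM⟩ := mem_piece_iff.1 ha
        exact mem_centPart.2 ⟨haA, hac, CfsgLib.Components.le_centralizer_of_commutator_eq_bot
          (CfsgLib.Components.commutator_components_eq_bot hM'.1 hM.1 hMM.symm) haM⟩
      have he : piece E.A u' L' = centPart E.A u L :=
        Subgroup.eq_of_le_of_card_ge hle' ((hcU u hu hu1 L hL hc).trans hc'.ge)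
      exact hv1' (mem_bot.1 (hD'.disj.le ⟨hv.2, he.ge hv.1⟩))
  · rintro _ ⟨u, hu, hu1, L, hL, hc, rfl⟩
    obtain ⟨y, hD⟩ := E.exists_cycleData hloc hcf hu hu1 hL
    exact ⟨_, ⟨_, rfl⟩, hD.isPieceCycle, fun f hf hfp => hD.conj_mem_zpowers hu hL hf hfp⟩

/-- **Pieces are small.** -/
theorem card_piece_lt [IsSimpleGroup G] (hG : ¬ IsMulCommutative G)
    (hloc : ∀ u ∈ E.A, u ≠ 1 → ∀ T : Sylow 2 (CenBar u),
      Cfsg.IsStronglyClosed (img u E.A) (T : Subgroup (CenBar u)) →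
        LocalFacts (T : Subgroup (CenBar u)) (img u E.A))
    (h16 : 16 ≤ Nat.card E.A) (hcf : E.CentreFree) :
    ∀ u ∈ E.A, u ≠ 1 → ∀ L : Subgroup (CenBar u), IsAComp (img u E.A) L →
      Nat.card (piece E.A u L) ^ 2 < Nat.card E.A := by
  intro u₁ hu₁ hu₁1 L₁ hL₁
  by_contra hbig
  push Not at hbig
  let Mem : Type u := {p : Σ u : G, Subgroup (CenBar u) // p.1 ∈ E.A ∧ p.1 ≠ 1 ∧ IsAComp (img p.1 E.A) p.2}
  haveI : Nonempty Mem := ⟨⟨⟨u₁, L₁⟩, hu₁, hu₁1, hL₁⟩⟩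
  obtain ⟨⟨⟨u₀, L₀⟩, hu₀, hu₀1, hL₀⟩, hmax⟩ :=
    Finite.exists_max fun p : Mem => Nat.card (piece E.A p.1.1 p.1.2)
  have hle : ∀ u ∈ E.A, u ≠ 1 → ∀ L, IsAComp (img u E.A) L →
      Nat.card (piece E.A u L) ≤ Nat.card (piece E.A u₀ L₀) :=
    fun u hu hu1 L hL => hmax ⟨⟨u, L⟩, hu, hu1, hL⟩
  have hP := E.isPieceFamily_members hloc hcf hle
    (hbig.trans (Nat.pow_le_pow_left (hle u₁ hu₁ hu₁1 L₁ hL₁) 2))
  have hirr : ∀ X : Subgroup ↥E.A, (∀ f ∈ E.aut, ∀ x ∈ X, f x ∈ X) → X = ⊥ ∨ X = ⊤ := by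
    intro X hX
    refine (E.irr _ (map_subtype_le X) (le_normalizer_iff.2 ?_)).imp
      (map_eq_bot_iff_of_injective _ E.A.subtype_injective).1 fun h => eq_top_iff.2 fun x _ => ?_
    · rintro n hn _ ⟨c, hc, rfl⟩
      exact ⟨E.A.normalizerMonoidHom ⟨n, hn⟩ c, hX _ ⟨⟨n, hn⟩, rfl⟩ c hc, rfl⟩
    · obtain ⟨c, hc, e⟩ := h.ge x.2
      exact Subtype.ext e ▸ hc
  have h2A : ∀ v : ↥E.A, v ^ 2 = 1 := fun v => Subtype.ext (E.elem.2 v v.2)
  have hmem₀ : ((centPart E.A u₀ L₀).subgroupOf E.A, (piece E.A u₀ L₀).subgroupOf E.A) ∈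
      {p | ∃ u ∈ E.A, u ≠ 1 ∧ ∃ L, IsAComp (img u E.A) L ∧
        Nat.card (piece E.A u L) = Nat.card (piece E.A u₀ L₀) ∧
        ((centPart E.A u L).subgroupOf E.A, (piece E.A u L).subgroupOf E.A) = p} :=
    ⟨u₀, hu₀, hu₀1, L₀, hL₀, rfl, rfl⟩
  have hodd := E.odd_card_aut (E.le_centralizer_of_twoComplement hG
    (hasTwoComplement_of_pieceFamily hP ⟨_, hmem₀⟩ hirr h2A))
  obtain ⟨y, hD⟩ := E.exists_cycleData hloc hcf hu₀ hu₀1 hL₀
  have hg := hD.isPieceCycle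
  have hcT := Nat.card_congr (subgroupOfEquivOfLe (piece_le (A := E.A) (L := L₀))).toEquiv
  have hcard : Nat.card ↥((centPart E.A u₀ L₀).subgroupOf E.A) ≤
      Nat.card ↥((piece E.A u₀ L₀).subgroupOf E.A) :=
    hP.card_le ((centPart E.A u₀ L₀).subgroupOf E.A, (piece E.A u₀ L₀).subgroupOf E.A) hmem₀
  refine bigCommutator ↥E.A h2A h16 E.aut hodd hirr (E.A.normalizerMonoidHom ⟨y, hD.cycle.mem_normalizer⟩)
    ⟨_, rfl⟩
    ((centPart E.A u₀ L₀).subgroupOf E.A) ((piece E.A u₀ L₀).subgroupOf E.A)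
    (fun v => ⟨hg.fix v, fun hv => mem_subgroupOf.2 (hD.mem_of_fix v v.2 (congrArg Subtype.val hv))⟩)
    hg.maps hD.isCompl (hcT.symm ▸ hD.cycle.four_le) ?_ (hP.ne_bot _ hmem₀) hcard
  exact Nat.eq_sub_of_add_eq (hg.orderOf_eq hD.isCompl hD.piece_ne_bot)

end Setting

end CfsgLib.Goldschmidt
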