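import Cfsg.Agent.Lib.Goldschmidt.Lift

/-!
# Goldschmidt: the blocks of a strongly closed subgroup

An `A`-piece is a subgroup of `A` moved by a cycle inside a perfect `A`-invariant subgroup of the centralizer of
an involution of `A`; the maximal ones are pieces of components.  Two maximal pieces whose fixed parts meet are
equal or fix each other, and when all pieces are small they are the blocks of `A`.
-/

set_option autoImplicit false
set_option linter.unusedSectionVars false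
set_option linter.style.haveILetI false

namespace CfsgLib.Goldschmidt

open Subgroup CfsgLib.Walter.RankFour

universe u

variable {G : Type u} [Group G] [Finite G]

local instance : Fact (Nat.Prime 2) := ⟨Nat.prime_two⟩

/-- What is used about the reduced centralizers of the involutions of `A`. -/
structure ALocal (E : Setting G) : Prop where
  centreFree : E.CentreFree
  exists_facts : ∀ u ∈ E.A, u ≠ 1 → ∃ T : Subgroup (CenBar u), LocalFacts T (img u E.A)
  normal : ∀ u ∈ E.A, u ≠ 1 → (img u E.A ⊔ Cfsg.layer (CenBar u)).Normal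
  comp : ∀ u ∈ E.A, u ≠ 1 → ∀ (W : Subgroup (CenBar u)) (g : CenBar u),
    g ∈ Cfsg.layer (CenBar u) → Cycle (img u E.A) W g →
    ∃ L : Subgroup (CenBar u), IsAComp (img u E.A) L ∧ W ≤ L

/-- `W` is moved by a cycle inside a perfect `A`-invariant subgroup of an involution centralizer that has no
proper normal subgroup meeting `W`. -/
def IsAPiece (A W : Subgroup G) : Prop :=
  ∃ u ∈ A, u ≠ 1 ∧ ∃ P : Subgroup G, ⁅P, P⁆ = P ∧ P ≤ cen u ∧ A ≤ normalizer (P : Set G) ∧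
    NoNormalMeets P W ∧ ∃ g ∈ P, Cycle A W g

/-- A piece contained in no larger one. -/
def IsMaxAPiece (A V : Subgroup G) : Prop := IsAPiece A V ∧ ∀ X, IsAPiece A X → V ≤ X → X = V

theorem exists_maxAPiece_ge {A W : Subgroup G} (h : IsAPiece A W) : ∃ V, IsMaxAPiece A V ∧ W ≤ V := by
  obtain ⟨V, hWV, hV⟩ := (Set.toFinite {X : Subgroup G | IsAPiece A X}).exists_le_maximal h
  exact ⟨V, ⟨hV.prop, fun X hX hle => le_antisymm (hV.le_of_ge hX hle) hle⟩, hWV⟩

theorem isAPiece_conj {A W : Subgroup G} {n : G} (hn : n ∈ normalizer (A : Set G)) (h : IsAPiece A W) :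
    IsAPiece A (W.map (MulAut.conj n).toMonoidHom) := by
  obtain ⟨u, hu, hu1, P, hP, hPu, hAP, hNM, g, hg, hc⟩ := h
  set c := (MulAut.conj n).toMonoidHom with hc'
  have hinj : Function.Injective c := (MulAut.conj n).injective
  have hsurj : Function.Surjective c := (MulAut.conj n).surjective
  have hAmap : A.map c = A := (mem_normalizer_iff_map_conj_eq).1 hn
  have hmemA : ∀ x ∈ A, c x ∈ A := fun x hx => hAmap.le (mem_map_of_mem c hx)
  refine ⟨c u, hmemA u hu, fun h => hu1 (hinj (h.trans (map_one c).symm)), P.map c, ?_, ?_, ?_, ?_,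
    c g, mem_map_of_mem c hg, ?_, map_le_iff_le_comap.2 fun x hx => hmemA x (hc.le hx), ?_, ?_, ?_⟩
  · rw [← map_commutator, hP]
  · rintro _ ⟨x, hx, rfl⟩
    rw [mem_centralizer_singleton_iff, ← map_mul, ← map_mul, mem_centralizer_singleton_iff.1 (hPu hx)]
  · rw [← hAmap]
    exact (Subgroup.map_mono hAP).trans (le_normalizer_map c)
  · intro N hNP hPN hNW
    have h1 : N.comap c = P := by
      refine hNM _ (fun x hx => (Subgroup.mem_map_iff_mem hinj).1 (hNP hx)) (fun p hp => ?_) ?_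
      · refine mem_normalizer_iff.2 fun x => ?_
        rw [mem_comap, mem_comap, map_mul, map_mul, map_inv]
        exact mem_normalizer_iff.1 (hPN (mem_map_of_mem c hp)) (c x)
      · intro hbot
        refine hNW (eq_bot_iff.2 ?_)
        rintro _ ⟨hxN, w, hw, rfl⟩
        have hwb : w ∈ (⊥ : Subgroup G) := hbot ▸ mem_inf.2 ⟨hxN, hw⟩
        rw [mem_bot] at hwb ⊢
        rw [hwb, map_one]
    rw [← h1, map_comap_eq_self_of_surjective hsurj]
  · rw [← hAmap]
    exact le_normalizer_map c (mem_map_of_mem c hc.mem_normalizer)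
  · rw [card_map_of_injective hinj]
    exact hc.four_le
  · intro s hs
    rw [← hAmap] at hs
    obtain ⟨t, ht, rfl⟩ := hs
    exact ⟨g * t * g⁻¹ * t⁻¹, hc.move t ht, by simp only [map_mul, map_inv]⟩
  · rintro _ ⟨x, hx, rfl⟩ hx1 _ ⟨y, hy, rfl⟩ hy1
    obtain ⟨i, hi⟩ := hc.trans x hx (fun h => hx1 (by rw [h, map_one])) y hy
      (fun h => hy1 (by rw [h, map_one]))
    exact ⟨i, by rw [← map_pow, ← map_inv, ← map_mul, ← map_mul, hi]⟩

theorem isMaxAPiece_conj {A V : Subgroup G} {n : G} (hn : n ∈ normalizer (A : Set G))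
    (h : IsMaxAPiece A V) : IsMaxAPiece A (V.map (MulAut.conj n).toMonoidHom) := by
  refine ⟨isAPiece_conj hn h.1, fun X hX hle => ?_⟩
  have h2 := h.2 _ (isAPiece_conj (inv_mem hn) hX) (by
    intro v hv
    refine ⟨n * v * n⁻¹, hle ⟨v, hv, rfl⟩, ?_⟩
    show n⁻¹ * (n * v * n⁻¹) * n⁻¹⁻¹ = v
    group)
  rw [← h2, Subgroup.map_map]
  ext x
  simp only [Subgroup.mem_map]
  refine ⟨fun hx => ⟨x, hx, ?_⟩, ?_⟩
  · show n * (n⁻¹ * x * n⁻¹⁻¹) * n⁻¹ = x
    group
  · rintro ⟨y, hy, rfl⟩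
    show n * (n⁻¹ * y * n⁻¹⁻¹) * n⁻¹ ∈ X
    rwa [show n * (n⁻¹ * y * n⁻¹⁻¹) * n⁻¹ = y by group]

/-- A cycle of `A` inside an `A`-invariant subgroup moves `A` inside it. -/
theorem aCycle_le {A W P : Subgroup G} {g : G} (hAP : A ≤ normalizer (P : Set G)) (hg : g ∈ P)
    (hc : Cycle A W g) : W ≤ P := by
  obtain ⟨w, hw, hw1⟩ := (Subgroup.bot_or_exists_ne_one W).resolve_left fun h => by
    have := hc.four_le
    rw [h, Subgroup.card_bot] at this
    omega
  have hwA := hc.le hw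
  set z := g * w * g⁻¹ * w⁻¹ with hz
  have hzP : z ∈ P := by
    rw [show z = g * (w * g⁻¹ * w⁻¹) by rw [hz]; group]
    exact mul_mem hg ((mem_normalizer_iff.1 (hAP hwA) g⁻¹).1 (inv_mem hg))
  have hz1 : z ≠ 1 := fun h => hw1 (hc.eq_one_of_fix hw (mul_inv_eq_one.1 h))
  intro x hx
  by_cases hx1 : x = 1
  · rw [hx1]; exact one_mem P
  obtain ⟨i, hi⟩ := hc.trans z (hc.move w hwA) hz1 x hx hx1
  rw [← hi]
  exact mul_mem (mul_mem (pow_mem hg i) hzP) (inv_mem (pow_mem hg i))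

/-- An element of the layer moving `b ∈ C(L)` inside a part of `L` missing `C(L)` fixes `b`. -/
theorem fix_of_layer {H : Type u} [Group H] [Finite H] {L V : Subgroup H} {g b : H}
    (hL : Cfsg.IsComponent L) (hg : g ∈ Cfsg.layer H) (hb : b ∈ centralizer (L : Set H))
    (hV : V ⊓ centralizer (L : Set H) = ⊥) (hmem : g * b * g⁻¹ * b⁻¹ ∈ V) :
    g * b * g⁻¹ = b := by
  have hle : Cfsg.layer H ≤ L ⊔ centralizer (L : Set H) := by
    refine sSup_le fun K hK => ?_
    by_cases hKL : K = L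
    · rw [hKL]; exact le_sup_left
    · exact (Components.le_centralizer_of_commutator_eq_bot
        (Components.commutator_components_eq_bot hK hL hKL)).trans le_sup_right
  have hnorm : L ≤ normalizer (centralizer (L : Set H) : Set H) :=
    fun l hl => centralizer_le_normalizer _
      (mem_centralizer_iff.2 fun m hm => (mem_centralizer_iff.1 hm l hl).symm)
  have hgS : g ∈ ((L ⊔ centralizer (L : Set H) : Subgroup H) : Set H) := hle hg
  rw [coe_mul_of_left_le_normalizer_right L _ hnorm] at hgS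
  obtain ⟨l, hl, m, hm, rfl⟩ := hgS
  replace hm : m ∈ centralizer (L : Set H) := hm
  have hc : m * b * m⁻¹ ∈ centralizer (L : Set H) := mul_mem (mul_mem hm hb) (inv_mem hm)
  have he : l * m * b * (l * m)⁻¹ * b⁻¹ = m * b * m⁻¹ * b⁻¹ := by
    have h1 : l * (m * b * m⁻¹) = m * b * m⁻¹ * l := mem_centralizer_iff.1 hc l hl
    calc l * m * b * (l * m)⁻¹ * b⁻¹ = l * (m * b * m⁻¹) * l⁻¹ * b⁻¹ := by group
      _ = m * b * m⁻¹ * b⁻¹ := by rw [h1, mul_inv_cancel_right]
  rw [he] at hmem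
  have h1 : m * b * m⁻¹ * b⁻¹ = 1 := by
    rw [← mem_bot, ← hV]
    exact mem_inf.2 ⟨hmem, mul_mem hc (inv_mem hb)⟩
  rw [← he] at h1
  exact mul_inv_eq_one.1 h1

variable {E : Setting G} (hE : ALocal E)

include hE

/-- A perfect lift of every component moved by `A`. -/
theorem ALocal.exists_lift {u : G} (hu : u ∈ E.A) (hu1 : u ≠ 1) {W₀ : Subgroup G}
    {L : Subgroup (CenBar u)} (hL : IsAComp (img u E.A) L) (hW₀ : W₀ ≤ cenPart E.A u L) :
    ∃ P : Subgroup G, ⁅P, P⁆ = P ∧ P ≤ cen u ∧ P ≤ centralizer (W₀ : Set G) ∧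
      E.A ≤ normalizer (P : Set G) ∧ NoNormalMeets P (piece E.A u L) ∧
      ∃ g ∈ P, Cycle E.A (piece E.A u L) g ∧
        ∀ a ∈ E.A, g * a * g⁻¹ = a ↔ a ∈ cenPart E.A u L := by
  obtain ⟨T, hT⟩ := hE.exists_facts u hu hu1
  obtain ⟨W, g, hc⟩ := hT.exists_cycle L hL
  obtain ⟨P, h1, h2, h3, h4, h5, -, h6⟩ := exists_aLift E.elem hu (hW₀.trans inf_le_left) hL
    (hT.le_normalizer L hL.1) hc (hE.centreFree u hu hu1 L hL) (by
      rintro _ ⟨x, hx, rfl⟩
      obtain ⟨-, h, hxL⟩ := mem_cenPart.1 (hW₀ hx)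
      exact hxL)
  exact ⟨P, h1, h2, h3, h4, h5, h6⟩

theorem ALocal.isAPiece {u : G} (hu : u ∈ E.A) (hu1 : u ≠ 1) {L : Subgroup (CenBar u)}
    (hL : IsAComp (img u E.A) L) : IsAPiece E.A (piece E.A u L) := by
  obtain ⟨P, h1, h2, -, h4, h5, g, hg, hc, -⟩ := hE.exists_lift hu hu1 hL (W₀ := ⊥) bot_le
  exact ⟨u, hu, hu1, P, h1, h2, h4, h5, g, hg, hc⟩

/-- A piece centralised by `w` lies over a component of `C(w)`, and its cycle is in the layer. -/
theorem ALocal.exists_comp_ge {w : G} (hw : w ∈ E.A) (hw1 : w ≠ 1) {P W : Subgroup G} {g : G}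
    (hP : ⁅P, P⁆ = P) (hPw : P ≤ cen w) (hAP : E.A ≤ normalizer (P : Set G))
    (hNM : NoNormalMeets P W) (hg : g ∈ P) (hc : Cycle E.A W g) :
    bar w ⟨g, hPw hg⟩ ∈ Cfsg.layer (CenBar w) ∧
      ∃ L : Subgroup (CenBar w), IsAComp (img w E.A) L ∧ W ≤ piece E.A w L := by
  have hAC := a_le_cen E.elem hw
  have hWC : W ≤ cen w := hc.le.trans hAC
  set N : Subgroup G :=
    P ⊓ ((img w E.A ⊔ Cfsg.layer (CenBar w)).comap (bar w)).map (cen w).subtype with hN
  have hmemN : ∀ y : G, ∀ hy : y ∈ cen w, y ∈ N ↔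
      y ∈ P ∧ bar w ⟨y, hy⟩ ∈ img w E.A ⊔ Cfsg.layer (CenBar w) := by
    intro y hy
    rw [hN, mem_inf]
    refine and_congr_right fun _ => ⟨?_, fun h => ⟨⟨y, hy⟩, h, rfl⟩⟩
    rintro ⟨z, hz, hzy⟩
    rwa [show (⟨y, hy⟩ : ↥(cen w)) = z from Subtype.ext hzy.symm]
  have hNP : N = P := by
    refine hNM N inf_le_left (le_normalizer_iff.2 fun p hp y hy => ?_) fun hbot => ?_
    · have hyP : y ∈ P := hy.1
      have hpy : p * y * p⁻¹ ∈ P := mul_mem (mul_mem hp hyP) (inv_mem hp)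
      refine (hmemN _ (hPw hpy)).2 ⟨hpy, ?_⟩
      have h1 := ((hmemN y (hPw hyP)).1 hy).2
      haveI := hE.normal w hw hw1
      have h2 := Normal.conj_mem ‹_› _ h1 (bar w ⟨p, hPw hp⟩)
      rwa [← map_inv, ← map_mul, ← map_mul] at h2
    · obtain ⟨x, hx, hx1⟩ := (Subgroup.bot_or_exists_ne_one W).resolve_left fun h => by
        have := hc.four_le
        rw [h, Subgroup.card_bot] at this
        omega
      refine hx1 (mem_bot.1 (hbot ▸ mem_inf.2 ⟨(hmemN x (hWC hx)).2 ⟨aCycle_le hAP hg hc hx, ?_⟩, hx⟩))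
      exact mem_sup_left (mem_map_of_mem (bar w)
        (show (⟨x, hWC hx⟩ : ↥(cen w)) ∈ E.A.subgroupOf (cen w) from hc.le hx))
  have hPle : img w P ≤ Cfsg.layer (CenBar w) := by
    have hPp : ⁅img w P, img w P⁆ = img w P := by
      rw [img, ← map_commutator]
      congr 1
      apply map_injective (subtype_injective (cen w))
      rw [map_commutator, subgroupOf_map_subtype, inf_eq_left.2 hPw, hP]
    haveI : Group.IsSolvable ↥(img w E.A) := by
      haveI : IsMulCommutative ↥(img w E.A) := (aImg_elem E.elem).1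
      exact Group.isSolvable_of_comm fun a b => mul_comm' a b
    refine perfect_le_of_sup (R := img w E.A) hPp inferInstance ?_
    rintro _ ⟨y, hy, rfl⟩
    rw [sup_comm]
    exact ((hmemN y y.2).1 (hNP.ge hy)).2
  have hglay : bar w ⟨g, hPw hg⟩ ∈ Cfsg.layer (CenBar w) :=
    hPle (mem_map_of_mem (bar w) (show (⟨g, hPw hg⟩ : ↥(cen w)) ∈ P.subgroupOf (cen w) from hg))
  refine ⟨hglay, ?_⟩
  have hcb : Cycle (img w E.A) (img w W) (bar w ⟨g, hPw hg⟩) := by
    refine ⟨?_, Subgroup.map_mono (comap_mono hc.le), ?_, ?_, ?_⟩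
    · refine le_normalizer_map (bar w) (mem_map_of_mem (bar w) ?_)
      rw [mem_normalizer_iff]
      intro y
      exact mem_normalizer_iff.1 hc.mem_normalizer (y : G)
    · refine hc.four_le.trans (Nat.card_le_card_of_injective
        (fun x : W => (⟨bar w ⟨x, hWC x.2⟩, mem_map_of_mem (bar w)
          (show (⟨x, hWC x.2⟩ : ↥(cen w)) ∈ W.subgroupOf (cen w) from x.2)⟩ : img w W)) ?_)
      intro a b hab'
      exact Subtype.ext (congrArg (Subtype.val : ↥(cen w) → G)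
        (aBar_injOn E.elem (hc.le a.2) (hc.le b.2) (congrArg Subtype.val hab')))
    · rintro _ ⟨y, hy, rfl⟩
      exact ⟨⟨g, hPw hg⟩ * y * ⟨g, hPw hg⟩⁻¹ * y⁻¹, hc.move _ hy, by simp only [map_mul, map_inv]⟩
    · rintro _ ⟨x, hx, rfl⟩ hx1 _ ⟨y, hy, rfl⟩ hy1
      have hx' : (x : G) ≠ 1 := fun h => hx1 (by rw [show x = 1 from Subtype.ext h, map_one])
      have hy' : (y : G) ≠ 1 := fun h => hy1 (by rw [show y = 1 from Subtype.ext h, map_one])
      obtain ⟨i, hi⟩ := hc.trans x hx hx' y hy hy'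
      refine ⟨i, ?_⟩
      rw [← map_pow, ← map_inv, ← map_mul, ← map_mul]
      exact congrArg _ (Subtype.ext (by simpa using hi))
  obtain ⟨L, hL, hWL⟩ := hE.comp w hw hw1 _ _ hglay hcb
  exact ⟨L, hL, fun x hx => mem_aPiece.2 ⟨hc.le hx, hWC hx,
    hWL (mem_map_of_mem (bar w) (show (⟨x, hWC hx⟩ : ↥(cen w)) ∈ W.subgroupOf (cen w) from hx))⟩⟩

/-- The piece and the fixed part of a component meet trivially. -/
theorem ALocal.cenPart_inf_piece {u : G} (hu : u ∈ E.A) (hu1 : u ≠ 1) {L : Subgroup (CenBar u)}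
    (hL : IsAComp (img u E.A) L) : cenPart E.A u L ⊓ piece E.A u L = ⊥ := by
  refine eq_bot_iff.2 fun x hx => ?_
  obtain ⟨hxA, hxC, hxc⟩ := mem_cenPart.1 hx.1
  obtain ⟨_, _, hxL⟩ := mem_aPiece.1 hx.2
  have h1 : bar u ⟨x, hxC⟩ ∈ img u E.A ⊓ L ⊓ centralizer (L : Set (CenBar u)) :=
    ⟨⟨mem_map_of_mem (bar u) (show (⟨x, hxC⟩ : ↥(cen u)) ∈ E.A.subgroupOf (cen u) from hxA), hxL⟩, hxc⟩
  rw [hE.centreFree u hu hu1 L hL, mem_bot] at h1
  exact mem_bot.2 (congrArg Subtype.val (aBar_eq_one E.elem (x := ⟨x, hxC⟩) hxA h1))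

/-- `A` is the product of the piece and the fixed part. -/
theorem ALocal.card_cenPart_mul {u : G} (hu : u ∈ E.A) (hu1 : u ≠ 1) {L : Subgroup (CenBar u)}
    (hL : IsAComp (img u E.A) L) :
    Nat.card (cenPart E.A u L) * Nat.card (piece E.A u L) = Nat.card E.A := by
  obtain ⟨T, hT⟩ := hE.exists_facts u hu hu1
  obtain ⟨W, g, hc⟩ := hT.exists_cycle L hL
  have hAC := a_le_cen E.elem hu
  have hWeq := compCycle_eq_inf hc (hE.centreFree u hu hu1 L hL)
  have hUA : cenPart E.A u L ≤ E.A := inf_le_left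
  have hVA : piece E.A u L ≤ E.A := inf_le_left
  rw [← Nat.card_prod]
  refine Nat.card_eq_of_bijective (fun z : cenPart E.A u L × piece E.A u L =>
    (⟨(z.1 : G) * z.2, mul_mem (hUA z.1.2) (hVA z.2.2)⟩ : E.A)) ⟨?_, ?_⟩
  · rintro ⟨a, b⟩ ⟨a', b'⟩ h
    have h' : (a : G) * b = a' * b' := congrArg Subtype.val h
    have hmem : (a' : G)⁻¹ * a = (b' : G) * (b : G)⁻¹ := by
      rw [eq_mul_inv_iff_mul_eq, mul_assoc, h', inv_mul_cancel_left]
    have h1 : (a' : G)⁻¹ * a ∈ cenPart E.A u L ⊓ piece E.A u L :=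
      mem_inf.2 ⟨mul_mem (inv_mem a'.2) a.2, hmem ▸ mul_mem b'.2 (inv_mem b.2)⟩
    rw [hE.cenPart_inf_piece hu hu1 hL, mem_bot] at h1
    exact Prod.ext (Subtype.ext (inv_mul_eq_one.1 h1).symm)
      (Subtype.ext (mul_inv_eq_one.1 (hmem ▸ h1)).symm)
  · rintro ⟨a, ha⟩
    obtain ⟨w, hw, haw⟩ := hc.exists_mul (bar u ⟨a, hAC ha⟩)
      (mem_map_of_mem (bar u) (show (⟨a, hAC ha⟩ : ↥(cen u)) ∈ E.A.subgroupOf (cen u) from ha))
    rw [hWeq] at hw
    obtain ⟨⟨v, hvA, rfl⟩, hvL⟩ := hw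
    rw [← map_mul] at haw
    refine ⟨(⟨a * v, mem_cenPart.2 ⟨mul_mem ha hvA, mul_mem (hAC ha) v.2, haw⟩⟩,
      ⟨(v : G)⁻¹, inv_mem (mem_aPiece.2 ⟨hvA, v.2, hvL⟩)⟩), Subtype.ext ?_⟩
    show a * (v : G) * (v : G)⁻¹ = a
    rw [mul_inv_cancel_right]

/-- The component moved by `A` passes to the centralizer of every element centralising it. -/
theorem ALocal.transfer {u w : G} (hu : u ∈ E.A) (hu1 : u ≠ 1) {L : Subgroup (CenBar u)}
    (hL : IsAComp (img u E.A) L) (hw : w ∈ cenPart E.A u L) (hw1 : w ≠ 1) :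
    ∃ L' : Subgroup (CenBar w), IsAComp (img w E.A) L' ∧ piece E.A u L ≤ piece E.A w L' ∧
      (piece E.A u L = piece E.A w L' → cenPart E.A w L' = cenPart E.A u L) := by
  have hwA : w ∈ E.A := hw.1
  obtain ⟨P, hP, -, hPw, hAP, hNM, g, hg, hc, hfix⟩ :=
    hE.exists_lift hu hu1 hL (W₀ := zpowers w) (zpowers_le.2 hw)
  have hPc : P ≤ cen w := fun p hp => mem_centralizer_singleton_iff.2
    (mem_centralizer_iff.1 (hPw hp) w (mem_zpowers w)).symm
  obtain ⟨hglay, L', hL', hle⟩ := hE.exists_comp_ge hwA hw1 hP hPc hAP hNM hg hc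
  refine ⟨L', hL', hle, fun heq => ?_⟩
  have hsub : cenPart E.A w L' ≤ cenPart E.A u L := by
    intro b hb
    obtain ⟨hbA, hbC, hbL⟩ := mem_cenPart.1 hb
    have hgb : g * b * g⁻¹ ∈ E.A := (mem_normalizer_iff.1 hc.mem_normalizer b).1 hbA
    refine (hfix b hbA).1 (congrArg Subtype.val (aBar_injOn E.elem
      (x := (⟨g, hPc hg⟩ : ↥(cen w)) * ⟨b, hbC⟩ * (⟨g, hPc hg⟩)⁻¹) (y := ⟨b, hbC⟩) hgb hbA ?_))
    rw [map_mul, map_mul, map_inv]
    refine fix_of_layer hL'.1 hglay hbL (hE.centreFree w hwA hw1 L' hL') ?_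
    have hm := heq.le (hc.move b hbA)
    obtain ⟨hmA, hmC, hmL⟩ := mem_aPiece.1 hm
    rw [← map_inv, ← map_mul, ← map_mul, ← map_inv, ← map_mul]
    exact ⟨mem_map_of_mem (bar w) (show (⟨g, hPc hg⟩ : ↥(cen w)) * ⟨b, hbC⟩ * (⟨g, hPc hg⟩)⁻¹ *
      ⟨b, hbC⟩⁻¹ ∈ E.A.subgroupOf (cen w) from hmA), hmL⟩
  refine eq_of_le_of_card_ge hsub (le_of_eq ?_)
  have h1 := hE.card_cenPart_mul hu hu1 hL
  rw [heq, ← hE.card_cenPart_mul hwA hw1 hL'] at h1
  exact Nat.eq_of_mul_eq_mul_right Nat.card_pos h1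

/-- A maximal piece is the piece of a component. -/
theorem ALocal.exists_rep {V : Subgroup G} (hV : IsMaxAPiece E.A V) :
    ∃ u ∈ E.A, u ≠ 1 ∧ ∃ L : Subgroup (CenBar u), IsAComp (img u E.A) L ∧ piece E.A u L = V := by
  obtain ⟨u, hu, hu1, P, hP, hPu, hAP, hNM, g, hg, hc⟩ := hV.1
  obtain ⟨-, L, hL, hle⟩ := hE.exists_comp_ge hu hu1 hP hPu hAP hNM hg hc
  exact ⟨u, hu, hu1, L, hL, hV.2 _ (hE.isAPiece hu hu1 hL) hle⟩

/-- A maximal piece is the piece of a component in the centralizer of every element of its fixed part, with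
the same fixed part. -/
theorem ALocal.exists_rep_at {u w : G} (hu : u ∈ E.A) (hu1 : u ≠ 1) {L : Subgroup (CenBar u)}
    (hL : IsAComp (img u E.A) L) (hV : IsMaxAPiece E.A (piece E.A u L))
    (hw : w ∈ cenPart E.A u L) (hw1 : w ≠ 1) :
    ∃ L' : Subgroup (CenBar w), IsAComp (img w E.A) L' ∧ piece E.A w L' = piece E.A u L ∧
      cenPart E.A w L' = cenPart E.A u L := by
  obtain ⟨L', hL', hle, heq⟩ := hE.transfer hu hu1 hL hw hw1
  have h := hV.2 _ (hE.isAPiece hw.1 hw1 hL') hle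
  exact ⟨L', hL', h, heq h.symm⟩

omit hE in
/-- The piece of a component is fixed by the other components. -/
theorem piece_le_cenPart {w : G} {L L' : Subgroup (CenBar w)} (hL : Cfsg.IsComponent L)
    (hL' : Cfsg.IsComponent L') (hne : L' ≠ L) : piece E.A w L' ≤ cenPart E.A w L := by
  intro x hx
  obtain ⟨hxA, hxC, hxL⟩ := mem_aPiece.1 hx
  exact mem_cenPart.2 ⟨hxA, hxC, Components.le_centralizer_of_commutator_eq_bot
    (Components.commutator_components_eq_bot hL' hL hne) hxL⟩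

/-- Two maximal pieces whose fixed parts meet have the same fixed part or fix each other. -/
theorem ALocal.meet {u u' : G} (hu : u ∈ E.A) (hu1 : u ≠ 1) {L : Subgroup (CenBar u)}
    (hL : IsAComp (img u E.A) L) (hV : IsMaxAPiece E.A (piece E.A u L))
    (hu' : u' ∈ E.A) (hu1' : u' ≠ 1) {L' : Subgroup (CenBar u')}
    (hL' : IsAComp (img u' E.A) L') (hV' : IsMaxAPiece E.A (piece E.A u' L'))
    (hmeet : cenPart E.A u L ⊓ cenPart E.A u' L' ≠ ⊥) :
    (piece E.A u L = piece E.A u' L' ∧ cenPart E.A u L = cenPart E.A u' L') ∨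
      (piece E.A u' L' ≤ cenPart E.A u L ∧ piece E.A u L ≤ cenPart E.A u' L') := by
  obtain ⟨w, hw, hw1⟩ := (Subgroup.bot_or_exists_ne_one _).resolve_left hmeet
  obtain ⟨K, hK, hKV, hKU⟩ := hE.exists_rep_at hu hu1 hL hV hw.1 hw1
  obtain ⟨K', hK', hKV', hKU'⟩ := hE.exists_rep_at hu' hu1' hL' hV' hw.2 hw1
  by_cases hKK : K' = K
  · subst hKK
    exact Or.inl ⟨hKV.symm.trans hKV', hKU.symm.trans hKU'⟩
  · refine Or.inr ⟨?_, ?_⟩
    · rw [← hKV', ← hKU]; exact piece_le_cenPart hK.1 hK'.1 hKK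
    · rw [← hKV, ← hKU']; exact piece_le_cenPart hK'.1 hK.1 (Ne.symm hKK)

/-- Two small pieces have fixed parts that meet. -/
theorem ALocal.meet_of_small {u u' : G} (hu : u ∈ E.A) (hu1 : u ≠ 1) {L : Subgroup (CenBar u)}
    (hL : IsAComp (img u E.A) L) (hu' : u' ∈ E.A) (hu1' : u' ≠ 1) {L' : Subgroup (CenBar u')}
    (hL' : IsAComp (img u' E.A) L') (hs : Nat.card (piece E.A u L) ^ 2 < Nat.card E.A)
    (hs' : Nat.card (piece E.A u' L') ^ 2 < Nat.card E.A) :
    cenPart E.A u L ⊓ cenPart E.A u' L' ≠ ⊥ := by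
  intro hbot
  have hinj : Nat.card (cenPart E.A u L × cenPart E.A u' L') ≤ Nat.card E.A := by
    refine Nat.card_le_card_of_injective (fun p => ⟨(p.1 : G) * p.2, mul_mem p.1.2.1 p.2.2.1⟩) ?_
    rintro ⟨a, b⟩ ⟨a', b'⟩ h
    have h' : (a : G) * b = a' * b' := congrArg Subtype.val h
    have he : (a' : G)⁻¹ * a = b' * (b : G)⁻¹ := by
      rw [eq_mul_inv_iff_mul_eq, mul_assoc, h', inv_mul_cancel_left]
    have h1 : (a' : G)⁻¹ * a ∈ cenPart E.A u L ⊓ cenPart E.A u' L' :=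
      mem_inf.2 ⟨mul_mem (inv_mem a'.2) a.2, he ▸ mul_mem b'.2 (inv_mem b.2)⟩
    rw [hbot, mem_bot] at h1
    exact Prod.ext (Subtype.ext (inv_mul_eq_one.1 h1).symm)
      (Subtype.ext (mul_inv_eq_one.1 (he ▸ h1)).symm)
  rw [Nat.card_prod] at hinj
  have h1 := hE.card_cenPart_mul hu hu1 hL
  have h2 := hE.card_cenPart_mul hu' hu1' hL'
  set n := Nat.card E.A
  set a := Nat.card (cenPart E.A u L)
  set b := Nat.card (cenPart E.A u' L')
  set v := Nat.card (piece E.A u L)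
  set v' := Nat.card (piece E.A u' L')
  have h5 : n * n ≤ n * (v * v') := by
    calc n * n = (a * v) * (b * v') := by rw [h1, h2]
      _ = (a * b) * (v * v') := by ring
      _ ≤ n * (v * v') := Nat.mul_le_mul_right _ hinj
  have h6 : n ≤ v * v' := Nat.le_of_mul_le_mul_left h5 Nat.card_pos
  nlinarith [Nat.mul_le_mul h6 h6]

/-- When all pieces are small the maximal pieces are blocks. -/
theorem exists_blocks
    (hbig : ∀ u ∈ E.A, u ≠ 1 → ∀ L : Subgroup (CenBar u), IsAComp (img u E.A) L →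
      Nat.card (piece E.A u L) ^ 2 < Nat.card E.A)
    (hex : E.HasComp) : Nonempty (ABlocks E) := by
  classical
  let ι := {V : Subgroup G // IsMaxAPiece E.A V}
  have hrep : ∀ i : ι, ∃ u ∈ E.A, u ≠ 1 ∧ ∃ L : Subgroup (CenBar u),
      IsAComp (img u E.A) L ∧ piece E.A u L = (i : Subgroup G) := fun i => hE.exists_rep i.2
  choose uu huA hu1 LL hLL hpc using hrep
  let U : ι → Subgroup G := fun i => cenPart E.A (uu i) (LL i)
  have hle : ∀ i : ι, (i : Subgroup G) ≤ E.A := fun i => hpc i ▸ inf_le_left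
  have hUV : ∀ i : ι, U i ⊓ (i : Subgroup G) = ⊥ := fun i => by
    rw [← hpc i]; exact hE.cenPart_inf_piece (huA i) (hu1 i) (hLL i)
  have hfour : ∀ i : ι, 4 ≤ Nat.card (i : Subgroup G) := fun i => by
    obtain ⟨_, _, _, _, _, _, _, _, _, _, hc⟩ := i.2.1
    exact hc.four_le
  have hsmall : ∀ i : ι, Nat.card (i : Subgroup G) ^ 2 < Nat.card E.A := fun i => by
    rw [← hpc i]; exact hbig _ (huA i) (hu1 i) _ (hLL i)
  have hfix : ∀ i : ι, (⨆ j : {j : ι // j ≠ i}, ((j : ι) : Subgroup G)) ≤ U i := fun i => by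
    refine iSup_le fun j => ?_
    rcases hE.meet (huA i) (hu1 i) (hLL i) (by rw [hpc i]; exact i.2) (huA j) (hu1 j) (hLL j)
      (by rw [hpc j]; exact j.1.2) (hE.meet_of_small (huA i) (hu1 i) (hLL i) (huA j) (hu1 j) (hLL j)
        (by rw [hpc i]; exact hsmall i) (by rw [hpc j]; exact hsmall j)) with h | h
    · exact absurd (Subtype.ext ((hpc i).symm.trans (h.1.trans (hpc j)))).symm j.2
    · exact hpc j ▸ h.1
  have hindep : ∀ i : ι, (i : Subgroup G) ⊓ (⨆ j : {j : ι // j ≠ i}, ((j : ι) : Subgroup G)) = ⊥ :=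
    fun i => eq_bot_iff.2 <| (inf_le_inf_left _ (hfix i)).trans (by rw [inf_comm, hUV i])
  have hperm : ∀ n ∈ normalizer (E.A : Set G), ∀ i : ι, ∃ j : ι,
      (i : Subgroup G).map (MulAut.conj n).toMonoidHom = (j : Subgroup G) :=
    fun n hn i => ⟨⟨_, isMaxAPiece_conj hn i.2⟩, rfl⟩
  obtain ⟨u₀, hu₀, hu₀1, L₀, hL₀⟩ := hex
  obtain ⟨V₀, hV₀, -⟩ := exists_maxAPiece_ge (hE.isAPiece hu₀ hu₀1 hL₀)
  have hsup : (⨆ i : ι, (i : Subgroup G)) = E.A := by
    refine (E.irr _ (iSup_le hle) ?_).resolve_left ?_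
    · have hmap : ∀ m ∈ normalizer (E.A : Set G), (⨆ i : ι, (i : Subgroup G)).map
          (MulAut.conj m).toMonoidHom ≤ ⨆ i : ι, (i : Subgroup G) := by
        intro m hm
        rw [Subgroup.map_iSup]
        refine iSup_le fun i => ?_
        obtain ⟨j, hj⟩ := hperm m hm i
        rw [hj]
        exact le_iSup (fun i : ι => (i : Subgroup G)) j
      intro n hn
      rw [mem_normalizer_iff]
      refine fun x => ⟨fun hx => hmap n hn ⟨x, hx, rfl⟩, fun hx => ?_⟩
      have h := hmap n⁻¹ (inv_mem hn) ⟨_, hx, rfl⟩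
      have he : n⁻¹ * (n * x * n⁻¹) * n⁻¹⁻¹ = x := by group
      rwa [show (MulAut.conj n⁻¹).toMonoidHom (n * x * n⁻¹) = x from he] at h
    · intro h
      have h4 := hfour ⟨V₀, hV₀⟩
      have hb := (le_iSup (fun i : ι => (i : Subgroup G)) ⟨V₀, hV₀⟩).trans h.le
      rw [le_bot_iff.1 hb, Subgroup.card_bot] at h4
      omega
  refine ⟨⟨ι, inferInstance, fun i => (i : Subgroup G), ?_, hfour, hsup, hindep, hperm, ?_, ?_⟩⟩
  · -- three blocks
    by_contra hlt
    push Not at hlt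
    haveI : Nonempty ι := ⟨⟨V₀, hV₀⟩⟩
    haveI : Fintype ι := Fintype.ofFinite ι
    obtain ⟨i, j, hij⟩ : ∃ i j : ι, ∀ k, k = i ∨ k = j := by
      by_cases h : ∀ i j : ι, i = j
      · obtain ⟨i⟩ := ‹Nonempty ι›
        exact ⟨i, i, fun k => Or.inl (h k i)⟩
      · push Not at h
        obtain ⟨i, j, hne⟩ := h
        refine ⟨i, j, fun k => ?_⟩
        by_contra hk
        push Not at hk
        have h3 : ({i, j, k} : Finset ι).card ≤ Nat.card ι := by
          rw [Nat.card_eq_fintype_card]; exact Finset.card_le_univ _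
        rw [Finset.card_insert_of_notMem (by simp [hne, Ne.symm hk.1]),
          Finset.card_pair (Ne.symm hk.2)] at h3
        omega
    have hnorm : (i : Subgroup G) ≤ normalizer ((j : Subgroup G) : Set G) := fun a ha =>
      centralizer_le_normalizer _ (mem_centralizer_iff.2 fun b hb =>
        aComm E.elem (hle j hb) (hle i ha))
    have hA : E.A ≤ (i : Subgroup G) ⊔ (j : Subgroup G) := by
      refine hsup.ge.trans (iSup_le fun k => ?_)
      rcases hij k with rfl | rfl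
      · exact le_sup_left
      · exact le_sup_right
    have hc : Nat.card E.A ≤ Nat.card (i : Subgroup G) * Nat.card (j : Subgroup G) := by
      refine (Nat.le_of_dvd Nat.card_pos (card_dvd_of_le hA)).trans ?_
      rw [← Nat.card_prod]
      refine Nat.card_le_card_of_surjective
        (fun p : ↥(i : Subgroup G) × ↥(j : Subgroup G) =>
          (⟨(p.1 : G) * p.2, mul_mem (mem_sup_left p.1.2) (mem_sup_right p.2.2)⟩ :
            ↥((i : Subgroup G) ⊔ (j : Subgroup G)))) ?_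
      rintro ⟨x, hx⟩
      rw [← SetLike.mem_coe, coe_mul_of_left_le_normalizer_right _ _ hnorm] at hx
      obtain ⟨a, ha, b, hb, rfl⟩ := hx
      exact ⟨(⟨a, ha⟩, ⟨b, hb⟩), rfl⟩
    have h1 := hsmall i
    have h2 := hsmall j
    nlinarith [Nat.mul_le_mul hc hc]
  · -- components
    intro u hu hu1' L hL
    obtain ⟨V, hV, hleV⟩ := exists_maxAPiece_ge (hE.isAPiece hu hu1' hL)
    obtain ⟨_, _, _, _, _, _, g, _, hcg, hgfix⟩ := hE.exists_lift hu hu1' hL (W₀ := ⊥) bot_le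
    refine ⟨⟨V, hV⟩, hleV, fun j hj => ?_⟩
    rintro _ ⟨v, hv, rfl⟩
    have hvA : (v : G) ∈ E.A := hle j hv
    by_cases hv1 : (v : G) = 1
    · rw [show v = 1 from Subtype.ext hv1, map_one]; exact one_mem _
    have hfx : g * (v : G) * g⁻¹ = v := by
      obtain ⟨k, hk⟩ := hperm g hcg.mem_normalizer j
      have hgv : g * (v : G) * g⁻¹ ∈ (k : Subgroup G) := hk.le ⟨v, hv, rfl⟩
      have hmv : g * (v : G) * g⁻¹ * (v : G)⁻¹ ∈ V := hleV (hcg.move v hvA)
      by_cases hki : k = (⟨V, hV⟩ : ι)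
      · exfalso
        subst hki
        have : (v : G) ∈ V := by
          have h := mul_mem (inv_mem hmv) hgv
          simpa [mul_assoc] using h
        have hb : (v : G) ∈ (⊥ : Subgroup G) := (hindep j).le
          ⟨hv, le_iSup (fun j' : {j' : ι // j' ≠ j} => ((j' : ι) : Subgroup G))
            ⟨⟨V, hV⟩, Ne.symm hj⟩ this⟩
        exact hv1 (mem_bot.1 hb)
      · have hb : g * (v : G) * g⁻¹ * (v : G)⁻¹ ∈ (⊥ : Subgroup G) := (hindep ⟨V, hV⟩).le ⟨hmv,
          Subgroup.mul_mem _ (le_iSup (fun j' : {j' : ι // j' ≠ (⟨V, hV⟩ : ι)} => ((j' : ι) : Subgroup G))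
            ⟨k, hki⟩ hgv)
            (Subgroup.inv_mem _ (le_iSup (fun j' : {j' : ι // j' ≠ (⟨V, hV⟩ : ι)} => ((j' : ι) : Subgroup G))
              ⟨j, hj⟩ hv))⟩
        exact mul_inv_eq_one.1 (mem_bot.1 hb)
    obtain ⟨-, hvC, hvL⟩ := mem_cenPart.1 ((hgfix v hvA).1 hfx)
    exact hvL
  · -- every block is a piece at each element of the other blocks
    intro i w hw hw1
    obtain ⟨L', hL', hpiece, -⟩ :=
      hE.exists_rep_at (huA i) (hu1 i) (hLL i) (by rw [hpc i]; exact i.2) (hfix i hw) hw1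
    exact ⟨L', hL', hpiece.trans (hpc i)⟩

end CfsgLib.Goldschmidt
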