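import Cfsg.Agent.Lib.Goldschmidt.CoverDefs
import Cfsg.Agent.Lib.Goldschmidt.CentreFree
import Cfsg.Agent.Lib.LocalEven.SubnormalJoin
import Cfsg.Agent.Lib.Components.Basic
import Cfsg.Agent.Lib.PCore.Basic
import Cfsg.Agent.S1249
import Cfsg.Agent.S1250

/-!
# From the cover facts to the local statement about a component whose centre meets `B`

In a core-free group `H` the centre of a component is a 2-group, `T ∩ L` is a Sylow 2-subgroup of `L` for
every Sylow 2-subgroup `T` of `H`, and the image of `B ∩ L` in `L / Z(L)` consists of the involutions of the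
image of `T ∩ L`, so `CoverFacts` applies to `L`.
-/

set_option autoImplicit false

namespace CfsgLib.Goldschmidt

open Subgroup CfsgLib.Walter.RankFour
open scoped commutatorElement

universe u

local instance : Fact (Nat.Prime 2) := ⟨Nat.prime_two⟩

variable {H : Type u} [Group H] [Finite H]

private theorem coverAt_center_isPGroup (hO : Cfsg.pPrimeCore 2 H = ⊥) {L : Subgroup H}
    (hL : Cfsg.IsComponent L) : IsPGroup 2 ↥(center ↥L) := by
  set Z : Subgroup H := (center ↥L).map L.subtype with hZ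
  have hsub : Z.IsSubnormal :=
    IsSubnormal.trans' (inferInstance : (center ↥L).Normal).isSubnormal hL.1
  intro z
  obtain ⟨k, m, hm, hord⟩ := Nat.exists_eq_two_pow_mul_odd (orderOf_pos z).ne'
  refine ⟨k, ?_⟩
  set y : ↥(center ↥L) := z ^ 2 ^ k with hy
  have hym : y ^ m = 1 := by rw [hy, ← pow_mul, ← hord, pow_orderOf_eq_one]
  have hyZ : ((y : ↥L) : H) ∈ Z := mem_map.2 ⟨(y : ↥L), y.2, rfl⟩
  have hZc : IsMulCommutative ↥Z := by
    refine ⟨⟨?_⟩⟩
    rintro ⟨_, a, ha, rfl⟩ ⟨_, b, hb, rfl⟩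
    refine Subtype.ext ?_
    show ((a : ↥L) : H) * (b : H) = (b : H) * (a : H)
    exact congrArg Subtype.val (mem_center_iff.1 hb a)
  have hPsub : (zpowers ((y : ↥L) : H)).IsSubnormal := by
    have hn : ((zpowers ((y : ↥L) : H)).subgroupOf Z).Normal := by
      refine ⟨fun a ha g => ?_⟩
      rwa [hZc.1.comm g a, mul_inv_cancel_right]
    have := IsSubnormal.trans' hn.isSubnormal hsub
    rwa [subgroupOf_map_subtype, inf_eq_left.2 (zpowers_le.2 hyZ)] at this
  have hcop : (Nat.card ↥(zpowers ((y : ↥L) : H))).Coprime 2 := by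
    rw [Nat.card_zpowers, orderOf_coe, orderOf_coe]
    exact Nat.Coprime.coprime_dvd_left (orderOf_dvd_of_pow_eq_one hym) (Nat.coprime_two_right.2 hm)
  have h := CfsgLib.PCore.le_pPrimeCore_of_isSubnormal hPsub hcop (mem_zpowers _)
  rw [hO, mem_bot] at h
  exact Subtype.ext (Subtype.ext h)

/-- The image of `B ∩ L` in `L / Z(L)`. -/
private def coverImg (B L : Subgroup H) : Subgroup (↥L ⧸ center ↥L) :=
  (B.subgroupOf L).map (QuotientGroup.mk' (center ↥L))

private theorem coverImg_comm {B L : Subgroup H} (helem : Cfsg.IsElementaryAbelian 2 B) :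
    IsMulCommutative ↥(coverImg B L) := by
  refine ⟨⟨?_⟩⟩
  rintro ⟨_, a, ha, rfl⟩ ⟨_, b, hb, rfl⟩
  refine Subtype.ext ?_
  let f := QuotientGroup.mk' (center ↥L)
  show f a * f b = f b * f a
  rw [← map_mul, ← map_mul]
  exact congrArg f (Subtype.ext (congrArg Subtype.val (helem.1.1.comm (⟨(a : H), ha⟩ : B) ⟨b, hb⟩) :))

/-- For any Sylow 2-subgroup containing `B`, the image of `B ∩ L` consists of the involutions of the image of
`T ∩ L`, and the cover facts hold. -/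
private theorem coverAt_data (hCF : CoverFacts.{u}) (hO : Cfsg.pPrimeCore 2 H = ⊥) (T : Sylow 2 H)
    (B : Subgroup H) (helem : Cfsg.IsElementaryAbelian 2 B)
    (hsc : Cfsg.IsStronglyClosed B (T : Subgroup H)) {L : Subgroup H} (hL : Cfsg.IsComponent L)
    (hgood : AGood (↥L ⧸ center ↥L)) (hconcl : Concl (↥L ⧸ center ↥L))
    (hW : ∃ W : Subgroup H, ∃ g : H, CompCycle B L W g)
    (hne : B ⊓ L ⊓ centralizer (L : Set H) ≠ ⊥) :
    8 ≤ Nat.card ↥(coverImg B L) ∧ Nat.card ↥(center ↥L) ≤ 4 ∧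
      (∃ t ∈ (T : Subgroup H) ⊓ L, ∃ b ∈ B, t * b ≠ b * t) ∧
      ∀ φ : MulAut (↥L ⧸ center ↥L), (∃ k : ℕ, φ ^ 2 ^ k = 1) →
        (∀ t : ↥L, (t : H) ∈ (T : Subgroup H) → ∃ t' : ↥L, (t' : H) ∈ (T : Subgroup H) ∧
          φ (QuotientGroup.mk' (center ↥L) t) = QuotientGroup.mk' (center ↥L) t') →
        ∀ b : ↥L, (b : H) ∈ B →
          φ (QuotientGroup.mk' (center ↥L) b) = QuotientGroup.mk' (center ↥L) b := by
  obtain ⟨P, hP⟩ := CfsgLib.SubJoin.exists_sylow_subnormal T hL.1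
  let f := QuotientGroup.mk' (center ↥L)
  set B₁ : Subgroup ↥L := B.subgroupOf L with hB₁
  have hsc₁ : Cfsg.IsStronglyClosed B₁ (P : Subgroup ↥L) := by
    rw [hP]
    exact ⟨fun a ha => hsc.1 ha, fun a ha g hg => hsc.2 (a : H) ha (g : H) hg⟩
  let Q : Sylow 2 (↥L ⧸ center ↥L) := P.mapSurjective (QuotientGroup.mk'_surjective (center ↥L))
  have hQ : (Q : Subgroup (↥L ⧸ center ↥L)) = (P : Subgroup ↥L).map f := Sylow.coe_mapSurjective _ _
  have hscQ : Cfsg.IsStronglyClosed (coverImg B L) (Q : Subgroup (↥L ⧸ center ↥L)) := by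
    rw [hQ]
    exact Cfsg.Agent.S1250.result P B₁ hsc₁ (center ↥L)
  have hcomm : IsMulCommutative ↥(coverImg B L) := coverImg_comm helem
  have hne' : coverImg B L ≠ ⊥ := by
    obtain ⟨W, g, hg⟩ := hW
    have : Nontrivial ↥W := Finite.one_lt_card_iff_nontrivial.1 (by have := hg.cycle.four_le; omega)
    obtain ⟨w, hw⟩ := exists_ne (1 : ↥W)
    intro hbot
    apply hw
    have hwB : f ⟨w, hg.le w.2⟩ ∈ coverImg B L := mem_map_of_mem f (hg.cycle.le w.2)
    rw [hbot, mem_bot] at hwB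
    have hwZ : (⟨w, hg.le w.2⟩ : ↥L) ∈ center ↥L := (QuotientGroup.eq_one_iff _).1 hwB
    have hwC : (w : H) ∈ centralizer (L : Set H) := mem_centralizer_iff.2 fun l hl =>
      congrArg Subtype.val (mem_center_iff.1 hwZ ⟨l, hl⟩)
    exact Subtype.ext (mem_bot.1 (hg.inf_eq ▸ mem_inf.2 ⟨w.2, hwC⟩))
  have hset : (coverImg B L : Set (↥L ⧸ center ↥L)) = involSet ((P : Subgroup ↥L).map f) := by
    rw [← hQ]; exact hgood.sc_eq Q _ hscQ hcomm hne'
  have helem₁ : Cfsg.IsElementaryAbelian 2 B₁ := by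
    refine ⟨⟨⟨fun a b => Subtype.ext (Subtype.ext ?_)⟩⟩, fun a ha => Subtype.ext (helem.2 _ ha)⟩
    exact (congrArg Subtype.val (helem.1.1.comm (⟨((a : ↥L) : H), a.2⟩ : B) ⟨((b : ↥L) : H), b.2⟩) :)
  have hne₁ : B₁ ⊓ center ↥L ≠ ⊥ := by
    intro hbot
    refine hne (eq_bot_iff.2 fun z hz => ?_)
    obtain ⟨⟨hzB, hzL⟩, hzC⟩ := hz
    have hmem : (⟨z, hzL⟩ : ↥L) ∈ B₁ ⊓ center ↥L :=
      ⟨hzB, mem_center_iff.2 fun g => Subtype.ext (mem_centralizer_iff.1 hzC g g.2)⟩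
    rw [hbot, mem_bot] at hmem
    exact mem_bot.2 (congrArg Subtype.val hmem)
  obtain ⟨h8, h4, ⟨t, ht, b, hb, htb⟩, hfix⟩ := hCF ↥L hL.2 (coverAt_center_isPGroup hO hL)
    ⟨Q, coverImg B L, hne', hcomm, hscQ⟩ hconcl P B₁ hsc₁.1 helem₁
    (fun x hx => mem_map.1 (hset.ge hx)) hne₁
  refine ⟨?_, h4, ⟨(t : H), ⟨?_, t.2⟩, (b : H), hb, fun h => htb (Subtype.ext h)⟩,
    fun φ hφ hT c hc => ?_⟩
  · rw [← hset] at h8
    exact h8.trans_eq (Nat.card_coe_set_eq _).symm
  · rw [hP] at ht; exact ht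
  · refine hfix φ hφ ?_ _ (hset.le (mem_map_of_mem f (show c ∈ B₁ from hc)))
    rintro _ ⟨s, hs, rfl⟩
    rw [hP] at hs
    obtain ⟨s', hs', he⟩ := hT s hs
    exact ⟨s', by rw [hP]; exact hs', he.symm⟩

/-- Piece M: the cover facts give `CoverAt` for a component whose centre meets `B`. -/
theorem coverAt_of_coverFacts (hCF : CoverFacts.{u}) (hO : Cfsg.pPrimeCore 2 H = ⊥) (T : Sylow 2 H)
    (B : Subgroup H) (helem : Cfsg.IsElementaryAbelian 2 B)
    (hsc : Cfsg.IsStronglyClosed B (T : Subgroup H)) (hloc : LocalFacts (T : Subgroup H) B)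
    (L : Subgroup H) (hL : IsAComp B L) (hgood : AGood (↥L ⧸ center ↥L))
    (hconcl : Concl (↥L ⧸ center ↥L)) (hne : B ⊓ L ⊓ centralizer (L : Set H) ≠ ⊥) : CoverAt B L := by
  have hWex := hloc.exists_cycle L hL
  obtain ⟨h8, h4, ⟨t, ⟨htT, htL⟩, b, hb, htb⟩, -⟩ :=
    coverAt_data hCF hO T B helem hsc hL.1 hgood hconcl hWex hne
  refine ⟨fun W g hg => ?_, ?_, ?_, ?_⟩
  · -- `|W| ≥ 8`
    let f := QuotientGroup.mk' (center ↥L)
    have hle : coverImg B L ≤ (W.subgroupOf L).map f := by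
      rintro _ ⟨c, hc, rfl⟩
      obtain ⟨w, hw, hwc⟩ := hg.exists_mul _ hc
      refine ⟨(⟨w, hg.le hw⟩ : ↥L)⁻¹, inv_mem (show w ∈ W from hw), ?_⟩
      have hZ : c * ⟨w, hg.le hw⟩ ∈ center ↥L :=
        mem_center_iff.2 fun l => Subtype.ext (mem_centralizer_iff.1 hwc l l.2)
      have h1 : f c * f ⟨w, hg.le hw⟩ = 1 := by
        rw [← map_mul]; exact (QuotientGroup.eq_one_iff _).2 hZ
      rw [map_inv]
      exact (eq_inv_of_mul_eq_one_left h1).symm
    have hW : Nat.card ↥(W.subgroupOf L) ≤ Nat.card ↥W :=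
      Nat.card_le_card_of_injective (fun a : ↥(W.subgroupOf L) => (⟨((a : ↥L) : H), a.2⟩ : ↥W))
        fun a c h => Subtype.ext (Subtype.ext (congrArg Subtype.val h :))
    exact h8.trans ((Subgroup.card_le_of_le hle).trans
      ((Nat.le_of_dvd Nat.card_pos (card_map_dvd _ f)).trans hW))
  · refine le_trans (Nat.card_le_card_of_injective
      (fun z : ↥(B ⊓ L ⊓ centralizer (L : Set H)) => (⟨⟨z, z.2.1.2⟩,
        mem_center_iff.2 fun g => Subtype.ext (mem_centralizer_iff.1 z.2.2 g g.2)⟩ : ↥(center ↥L)))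
      fun a c h => ?_) h4
    exact Subtype.ext (congrArg (fun z : ↥(center ↥L) => ((z : ↥L) : H)) h)
  · have hnorm : ∀ c ∈ B, ∀ s ∈ (T : Subgroup H), s * c * s⁻¹ ∈ B := fun c hc s hs =>
      hsc.2 c hc s (mul_mem (mul_mem hs (hsc.1 hc)) (inv_mem hs))
    refine ⟨t, htL, mem_normalizer_iff.2 fun c => ⟨fun hc => hnorm c hc t htT, fun hc => ?_⟩, b, hb,
      fun h => htb ?_, fun c hc => hloc.comm_mem L hL t ⟨htT, htL⟩ c hc⟩
    · simpa [mul_assoc] using hnorm _ hc t⁻¹ (inv_mem htT)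
    · exact mul_inv_eq_iff_eq_mul.1 (mul_inv_eq_one.1 h)
  · -- 2-elements
    intro x hxL hxB hx2 c hc
    obtain ⟨k, hk⟩ := hx2
    have hB2 : IsPGroup 2 ↥B := fun a => ⟨1, Subtype.ext (by simpa using helem.2 _ a.2)⟩
    have hX2 : IsPGroup 2 ↥(zpowers x) := by
      intro a
      obtain ⟨i, hi⟩ := mem_zpowers_iff.1 a.2
      refine ⟨k, Subtype.ext ?_⟩
      rw [SubmonoidClass.coe_pow, ← hi, ← zpow_natCast, ← zpow_mul, mul_comm, zpow_mul, zpow_natCast,
        hk, one_zpow]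
      rfl
    obtain ⟨T', hT'⟩ :=
      (hB2.to_sup_of_normal_left' hX2 (zpowers_le.2 hxB)).exists_le_sylow
    have hsc' : Cfsg.IsStronglyClosed B (T' : Subgroup H) :=
      Cfsg.Agent.S1249.result T T' B (le_sup_left.trans hT') hsc
    have hxT : x ∈ (T' : Subgroup H) := hT' (mem_sup_right (mem_zpowers x))
    obtain ⟨-, -, -, hfix⟩ := coverAt_data hCF hO T' B helem hsc' hL.1 hgood hconcl hWex hne
    let ψ : MulAut ↥L := L.normalizerMonoidHom ⟨x, hxL⟩
    have hψ : ∀ l : ↥L, ((ψ l : ↥L) : H) = x * l * x⁻¹ := fun l => rfl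
    have hψk : ψ ^ 2 ^ k = 1 := by
      show L.normalizerMonoidHom ⟨x, hxL⟩ ^ 2 ^ k = 1
      rw [← map_pow, show (⟨x, hxL⟩ : ↥(normalizer (L : Set H))) ^ 2 ^ k = 1 from Subtype.ext hk,
        map_one]
    have hmap : (center ↥L).map ψ.toMonoidHom = center ↥L := by
      exact Subgroup.characteristic_iff_map_eq.1 inferInstance ψ
    let φ : MulAut (↥L ⧸ center ↥L) := QuotientGroup.congr (center ↥L) (center ↥L) ψ hmap
    have hφn : ∀ (n : ℕ) (l : ↥L),
        (φ ^ n) (QuotientGroup.mk' (center ↥L) l) = QuotientGroup.mk' (center ↥L) ((ψ ^ n) l) := by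
      intro n
      induction n with
      | zero => intro l; rfl
      | succ n ih =>
        intro l
        rw [pow_succ, pow_succ, MulAut.mul_apply, MulAut.mul_apply, ← ih]
        rfl
    have hφk : φ ^ 2 ^ k = 1 := by
      refine MulEquiv.ext fun q => ?_
      obtain ⟨l, rfl⟩ := QuotientGroup.mk'_surjective (center ↥L) q
      rw [hφn, hψk]
      rfl
    obtain ⟨W, g, hg⟩ := hWex
    obtain ⟨w, hw, hwc⟩ := hg.exists_mul c hc
    have hwi : (⟨w, hg.le hw⟩ : ↥L)⁻¹.1 ∈ B := inv_mem (hg.cycle.le hw)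
    have hkey := hfix φ ⟨k, hφk⟩ (fun s hs => ⟨ψ s, by
      rw [hψ]; exact mul_mem (mul_mem hxT hs) (inv_mem hxT), rfl⟩) _ hwi
    have hz : ψ (⟨w, hg.le hw⟩ : ↥L)⁻¹ * ((⟨w, hg.le hw⟩ : ↥L)⁻¹)⁻¹ ∈ center ↥L := by
      rw [← QuotientGroup.eq_one_iff]
      show QuotientGroup.mk' (center ↥L) _ = 1
      rw [map_mul, map_inv (QuotientGroup.mk' (center ↥L)) ((⟨w, hg.le hw⟩ : ↥L)⁻¹), mul_inv_eq_one]
      exact hkey
    have hzC : x * w⁻¹ * x⁻¹ * w ∈ centralizer (L : Set H) := by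
      refine mem_centralizer_iff.2 fun l hl => ?_
      have h := congrArg Subtype.val (mem_center_iff.1 hz ⟨l, hl⟩)
      simpa [hψ, mul_assoc] using h
    have hxc : x * (c * w) * x⁻¹ ∈ centralizer (L : Set H) := by
      refine mem_centralizer_iff.2 fun l hl => ?_
      have hl' : x⁻¹ * l * x ∈ L := by
        simpa using (mem_normalizer_iff.1 (inv_mem hxL) l).1 hl
      have h := mem_centralizer_iff.1 hwc _ hl'
      calc l * (x * (c * w) * x⁻¹) = x * ((x⁻¹ * l * x) * (c * w)) * x⁻¹ := by group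
        _ = x * ((c * w) * (x⁻¹ * l * x)) * x⁻¹ := by rw [h]
        _ = x * (c * w) * x⁻¹ * l := by group
    rw [show x * c * x⁻¹ * c⁻¹ = x * (c * w) * x⁻¹ * (x * w⁻¹ * x⁻¹ * w) * (c * w)⁻¹ by group]
    exact mul_mem (mul_mem hxc hzC) (inv_mem hwc)

/-- Piece M in the form used by the induction. -/
theorem coverAt_of_below (hCF : CoverFacts.{u}) {H : Type u} [Group H] [Finite H]
    (hO : Cfsg.pPrimeCore 2 H = ⊥) (T : Sylow 2 H) {B : Subgroup H}
    (helem : Cfsg.IsElementaryAbelian 2 B) (hsc : Cfsg.IsStronglyClosed B (T : Subgroup H))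
    (hgood : GoodComps B) (hloc : LocalFacts (T : Subgroup H) B)
    (hind : ∀ (X : Type u) [Group X] [Finite X] [IsSimpleGroup X], Nat.card X ≤ Nat.card H →
      ¬ IsMulCommutative X → HasSCA X → Concl X)
    (L : Subgroup H) (hL : IsAComp B L) (hne : B ⊓ L ⊓ centralizer (L : Set H) ≠ ⊥) : CoverAt B L := by
  have : IsSimpleGroup (↥L ⧸ center ↥L) := hL.1.2.2
  obtain ⟨P, hP⟩ := CfsgLib.SubJoin.exists_sylow_subnormal T hL.1.1
  let f := QuotientGroup.mk' (center ↥L)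
  let Q : Sylow 2 (↥L ⧸ center ↥L) := P.mapSurjective (QuotientGroup.mk'_surjective (center ↥L))
  obtain ⟨W, g, hg⟩ := hloc.exists_cycle L hL
  have hsca : HasSCA (↥L ⧸ center ↥L) := by
    refine ⟨Q, coverImg B L, fun hbot => ?_, coverImg_comm helem, ?_⟩
    · have : Nontrivial ↥W := Finite.one_lt_card_iff_nontrivial.1 (by have := hg.cycle.four_le; omega)
      obtain ⟨w, hw⟩ := exists_ne (1 : ↥W)
      apply hw
      have hwB : f ⟨w, hg.le w.2⟩ ∈ coverImg B L := mem_map_of_mem f (hg.cycle.le w.2)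
      rw [hbot, mem_bot] at hwB
      have hwZ : (⟨w, hg.le w.2⟩ : ↥L) ∈ center ↥L := (QuotientGroup.eq_one_iff _).1 hwB
      have hwC : (w : H) ∈ centralizer (L : Set H) := mem_centralizer_iff.2 fun l hl =>
        congrArg Subtype.val (mem_center_iff.1 hwZ ⟨l, hl⟩)
      exact Subtype.ext (mem_bot.1 (hg.inf_eq ▸ mem_inf.2 ⟨w.2, hwC⟩))
    · rw [Sylow.coe_mapSurjective]
      refine Cfsg.Agent.S1250.result P (B.subgroupOf L) ?_ (center ↥L)
      rw [hP]
      exact ⟨fun a ha => hsc.1 ha, fun a ha g hg => hsc.2 (a : H) ha (g : H) hg⟩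
  have hna : ¬ IsMulCommutative (↥L ⧸ center ↥L) := by
    intro hcomm
    have hperf : commutator ↥L = ⊤ := hL.1.2.1.commutator_eq_top
    have hle : commutator ↥L ≤ center ↥L := by
      rw [commutator_def, Subgroup.commutator_le]
      intro a _ b _
      rw [← QuotientGroup.eq_one_iff]
      show f ⁅a, b⁆ = 1
      rw [map_commutatorElement, commutatorElement_eq_one_iff_mul_comm]
      exact hcomm.1.comm (f a) (f b)
    exact CfsgLib.Components.quasisimple_center_ne_top hL.1.2 (top_le_iff.1 (hperf ▸ hle))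
  refine coverAt_of_coverFacts hCF hO T B helem hsc hloc L hL (hgood L hL)
    (hind _ ?_ hna hsca) hne
  exact (Nat.card_le_card_of_surjective _ (QuotientGroup.mk'_surjective _)).trans
    (Nat.card_le_card_of_injective _ L.subtype_injective)

end CfsgLib.Goldschmidt
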