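import Cfsg.Agent.Lib.Goldschmidt.EndgameBasic
import Cfsg.Agent.S1174

/-!
# Strongly closed abelian subgroups, three or more blocks: the endgame

If the signalizer `W` is non-trivial, its normaliser contains the centralisers of the involutions of `A`.
Otherwise the perfect cores of the normal closures of the blocks `V j` in the centralisers of the products
of the other blocks commute pairwise, and the normaliser of their product does.
-/

set_option autoImplicit false
set_option linter.unusedSectionVars false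

namespace CfsgLib.Goldschmidt

open Subgroup CfsgLib.Walter.RankFour CfsgLib.Walter.RankFour.Endgame
open scoped commutatorElement

universe u

variable {G : Type u} [Group G] [Finite G]

local instance : Fact (Nat.Prime 2) := ⟨Nat.prime_two⟩

namespace ABlocks

variable {E : Setting G} (B : ABlocks E)

/-- The centraliser of the product of the blocks other than `j`. -/
def cent (j : B.ι) : Subgroup G := centralizer (B.others j : Set G)

/-- The normal closure of `V j` in `B.cent j`. -/
def dom (j : B.ι) : Subgroup G := closure {x | ∃ c ∈ B.cent j, ∃ v ∈ B.V j, c * v * c⁻¹ = x}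

/-- The perfect core of `B.dom j`. -/
def core (j : B.ι) : Subgroup G := resid (B.dom j)

/-- The product of the cores of the blocks. -/
def prodCore : Subgroup G := ⨆ j, B.core j

theorem le_dom (j : B.ι) : B.V j ≤ B.dom j := fun v hv =>
  subset_closure ⟨1, one_mem _, v, hv, by rw [one_mul, inv_one, mul_one]⟩

theorem sylow_le_cent (j : B.ι) : E.A ≤ B.cent j := fun _ hs =>
  mem_centralizer_iff.2 fun _ ht => commute_of_mem E.elem (B.others_le j ht) hs

theorem dom_le_cent (j : B.ι) : B.dom j ≤ B.cent j := (closure_le _).2 (by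
  rintro _ ⟨c, hc, v, hv, rfl⟩
  exact mul_mem (mul_mem hc (B.sylow_le_cent j (B.block_le j hv))) (inv_mem hc))

theorem core_le_cent (j : B.ι) : B.core j ≤ B.cent j := (resid_le _).trans (B.dom_le_cent j)

theorem cent_le_normalizer_dom (j : B.ι) : B.cent j ≤ normalizer (B.dom j : Set G) := fun c hc => by
  refine mem_normalizer_of_map_le ?_
  rw [dom, MonoidHom.map_closure, closure_le]
  rintro _ ⟨_, ⟨d, hd, v, hv, rfl⟩, rfl⟩
  refine subset_closure ⟨c * d, mul_mem hc hd, v, hv, ?_⟩
  show _ = c * (d * v * d⁻¹) * c⁻¹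
  group

theorem cent_le_normalizer_core (j : B.ι) : B.cent j ≤ normalizer (B.core j : Set G) :=
  (B.cent_le_normalizer_dom j).trans (normalizer_le_normalizer_resid _)

/-- A subgroup normalised by `B.cent j` and containing `V j` contains the core. -/
theorem core_le_of_normalized {j : B.ι} {D : Subgroup G} (hD : B.cent j ≤ normalizer (D : Set G))
    (hV : B.V j ≤ D) : B.core j ≤ D := by
  refine (resid_le _).trans ((closure_le _).2 ?_)
  rintro _ ⟨c, hc, v, hv, rfl⟩
  exact (mem_normalizer_iff.1 (hD hc) v).1 (hV hv)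

end ABlocks

/-- With generation by the layer and `N(B)`, `B ⊔ E(H)` is normal. -/
theorem sup_layer_normal_of_generated {H : Type u} [Group H] [Finite H] {K : Subgroup H}
    (h : Cfsg.layer H ⊔ normalizer (K : Set H) = ⊤) : (K ⊔ Cfsg.layer H).Normal := by
  rw [← normalizer_eq_top_iff, eq_top_iff, ← h]
  refine sup_le (le_sup_right.trans le_normalizer) fun n hn => mem_normalizer_of_map_le ?_
  rw [Subgroup.map_sup]
  refine sup_le_sup ?_ ?_
  · rintro _ ⟨k, hk, rfl⟩
    exact (mem_normalizer_iff.1 hn k).1 hk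
  · rintro _ ⟨k, hk, rfl⟩
    exact (inferInstance : (Cfsg.layer H).Normal).conj_mem k hk n

/-- With generation by the layer and `N(B)`, the components centralised by `B` are permuted. -/
theorem centralizes_conj_of_generated {H : Type u} [Group H] [Finite H] {K : Subgroup H}
    (h : Cfsg.layer H ⊔ normalizer (K : Set H) = ⊤) (g : H) {L : Subgroup H}
    (hL : Cfsg.IsComponent L) (hK : K ≤ centralizer (L : Set H)) :
    K ≤ centralizer (L.map (MulAut.conj g).toMonoidHom : Set H) := by
  obtain ⟨l, hl, n, hn, rfl⟩ := mem_sup_of_normal_left.1 (h ▸ mem_top g : g ∈ _ ⊔ _)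
  have hLn := CfsgLib.Components.isComponent_conj n hL
  have e : L.map (MulAut.conj (l * n)).toMonoidHom ≤ L.map (MulAut.conj n).toMonoidHom := by
    rintro _ ⟨y, hy, rfl⟩
    have h1 : MulAut.conj n y ∈ L.map (MulAut.conj n).toMonoidHom := ⟨y, hy, rfl⟩
    show MulAut.conj (l * n) y ∈ L.map (MulAut.conj n).toMonoidHom
    rw [map_mul, MulAut.mul_apply, MulAut.conj_apply l]
    exact (mem_normalizer_iff.1 (CfsgLib.Components.layer_le_normalizer_component hLn hl) _).1 h1
  refine fun k hk => mem_centralizer_iff.2 fun z hz => ?_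
  obtain ⟨y, hy, rfl⟩ := e hz
  have hk' : n⁻¹ * k * n ∈ K := by
    have := (mem_normalizer_iff.1 (inv_mem hn) k).1 hk
    simpa using this
  have hc := mem_centralizer_iff.1 (hK hk') y hy
  show MulAut.conj n y * k = k * MulAut.conj n y
  rw [MulAut.conj_apply]
  calc n * y * n⁻¹ * k = n * (y * (n⁻¹ * k * n)) * n⁻¹ := by group
    _ = n * (n⁻¹ * k * n * y) * n⁻¹ := by rw [hc]
    _ = k * (n * y * n⁻¹) := by group

/-- The layer centralises `O₂`. -/
theorem layer_le_centralizer_pCore_two {H : Type u} [Group H] [Finite H] :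
    Cfsg.layer H ≤ centralizer (Cfsg.pCore 2 H : Set H) := by
  haveI := (CfsgLib.PCore.pCore_isPGroup (p := 2) (G := H)).isNilpotent
  exact CfsgLib.Components.le_centralizer_of_commutator_eq_bot
    (CfsgLib.Components.commutator_layer_solvable _)

section

variable {E : Setting G} (hc : E.CentreFree) (B : ABlocks E)
  (hfacts : ∀ u ∈ E.A, u ≠ 1 → CenFacts E.A u)
  (hloc : ∀ u ∈ E.A, u ≠ 1 → ∃ T : Subgroup (CenBar u), LocalFacts T (img u E.A))
  (hdelta : ∀ D : Subgroup G, D ≤ E.A → 8 ≤ Nat.card D → Cfsg.signalizerDelta 2 D = ⊥)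

include hloc in
theorem four_le_piece {u : G} (hu : u ∈ E.A) (hu1 : u ≠ 1) {L : Subgroup (CenBar u)}
    (hL : IsAComp (img u E.A) L) : 4 ≤ Nat.card (piece E.A u L) := by
  obtain ⟨T, hT⟩ := hloc u hu hu1
  obtain ⟨W, g, hg⟩ := hT.exists_cycle L hL
  refine hg.cycle.four_le.trans ((Nat.card_le_card_of_injective
    (fun w : W => (⟨w, hg.cycle.le w.2, hg.le w.2⟩ : ↥(img u E.A ⊓ L))) fun a b h =>
      Subtype.ext (congrArg (fun z : ↥(img u E.A ⊓ L) => (z : CenBar u)) h)).trans ?_)
  refine (Nat.card_le_card_of_surjective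
    (fun x : ↥((E.A.subgroupOf (cen u)) ⊓ L.comap (bar u)) =>
      (⟨bar u (x : ↥(cen u)), ⟨(x : ↥(cen u)), x.2.1, rfl⟩, x.2.2⟩ : ↥(img u E.A ⊓ L))) ?_).trans ?_
  · rintro ⟨_, ⟨x, hx, rfl⟩, hxL⟩
    exact ⟨⟨x, hx, hxL⟩, rfl⟩
  · refine Nat.card_le_card_of_injective
      (fun x : ↥((E.A.subgroupOf (cen u)) ⊓ L.comap (bar u)) =>
        (⟨((x : ↥(cen u)) : G), x.2.1, (x : ↥(cen u)), x.2.2, rfl⟩ : ↥(piece E.A u L))) ?_
    intro a b h
    exact Subtype.ext (Subtype.ext (congrArg (fun z : ↥(piece E.A u L) => (z : G)) h))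

include hc in
/-- An element centralising a non-identity element of the piece of a component normalises the component. -/
theorem bar_mem_normalizer_of_piece {u : G} (hu : u ∈ E.A) (hu1 : u ≠ 1) {L : Subgroup (CenBar u)}
    (hL : IsAComp (img u E.A) L) {y : G} (hy : y ∈ piece E.A u L) (hy1 : y ≠ 1)
    {x : ↥(cen u)} (hxy : (x : G) * y = y * x) : bar u x ∈ normalizer (L : Set (CenBar u)) := by
  obtain ⟨hyS, y', hy'L, hyy⟩ := hy
  have hy'L' : bar u y' ∈ L := hy'L
  replace hyy : (y' : G) = y := hyy
  have hne : bar u y' ≠ 1 :=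
    bar_ne_one E.elem (by rw [hyy]; exact hyS) (by rw [hyy]; exact hy1)
  have hcm : bar u x * bar u y' = bar u y' * bar u x := by
    rw [← map_mul, ← map_mul]
    refine congrArg _ (Subtype.ext ?_)
    show (x : G) * (y' : G) = y' * x
    rw [hyy]
    exact hxy
  have hy2 : bar u y' ∈ L.map (MulAut.conj (bar u x)).toMonoidHom :=
    ⟨bar u y', hy'L', by
      show bar u x * bar u y' * (bar u x)⁻¹ = bar u y'
      rw [hcm, mul_inv_cancel_right]⟩
  by_cases he : L.map (MulAut.conj (bar u x)).toMonoidHom = L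
  · exact mem_normalizer_of_map_le he.le
  · exfalso
    have hcomm := CfsgLib.Components.commutator_components_eq_bot
      (CfsgLib.Components.isComponent_conj (bar u x) hL.1) hL.1 he
    have hmem : bar u y' ∈ img u E.A ⊓ L ⊓ centralizer (L : Set (CenBar u)) :=
      ⟨⟨⟨y', mem_subgroupOf.2 (by rw [hyy]; exact hyS), rfl⟩, hy'L'⟩,
        CfsgLib.Components.le_centralizer_of_commutator_eq_bot hcomm hy2⟩
    rw [hc u hu hu1 L hL, mem_bot] at hmem
    exact hne hmem

include hc hfacts hloc hdelta in
/-- The key vanishing. -/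
theorem eq_one_of_inverted {j : B.ι} {R : Subgroup G} (hR : R ≤ B.others j) {F : Subgroup G}
    (hF : IsHyp E.A F) (hRF : R ≤ F) {v : G} (hv : v ∈ B.V j) {x : G}
    (hx : x ∈ CfsgLib.Components.centralizerCore 2 (R : Set G))
    (hxF : x ∈ centralizer (F : Set G)) (hinv : v * x * v⁻¹ = x⁻¹) : x = 1 := by
  have hA := E.elem
  have h8 : 8 ≤ Nat.card F := by
    have := hF.2
    have := B.sixtyfour_le
    omega
  suffices h : x ∈ Cfsg.signalizerDelta 2 F by
    rwa [hdelta F hF.1 h8, mem_bot] at h
  rw [Cfsg.signalizerDelta, mem_iInf]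
  rintro ⟨f, hfF, hf1⟩
  have hfS : f ∈ E.A := hF.1 hfF
  have hSf : E.A ≤ cen f := le_cen hA hfS
  have hxf : x ∈ cen f := centralizer_le (Set.singleton_subset_iff.2 hfF) hxF
  set x' : ↥(cen f) := ⟨x, hxf⟩ with hx'
  set v' : ↥(cen f) := ⟨v, hSf (B.block_le j hv)⟩ with hv'
  refine ⟨x', (QuotientGroup.eq_one_iff (N := Cfsg.pPrimeCore 2 ↥(cen f)) x').1 ?_, rfl⟩
  show bar f x' = 1
  have hvB : bar f v' ∈ img f E.A := ⟨v', mem_subgroupOf.2 (B.block_le j hv), rfl⟩
  have hinv' : bar f v' * bar f x' * (bar f v')⁻¹ = (bar f x')⁻¹ := by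
    rw [← map_inv, ← map_inv, ← map_mul, ← map_mul]
    exact congrArg _ (Subtype.ext hinv)
  have hco : (orderOf x).Coprime 2 := CfsgLib.Components.coprime_orderOf_of_mem_centralizerCore hx
  have hdvd : orderOf (bar f x') ∣ orderOf x :=
    (orderOf_map_dvd _ x').trans (Subgroup.orderOf_coe x').symm.dvd
  have hodd : Odd (orderOf (bar f x')) :=
    (Nat.coprime_two_right.1 hco).of_dvd_nat hdvd
  have hO : Cfsg.pPrimeCore 2 (CenBar f) = ⊥ := CfsgLib.PCore.pPrimeCore_quotient_pPrimeCore
  -- `x̄` lies in the layer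
  have hxl : bar f x' ∈ Cfsg.layer (CenBar f) := by
    have hN := sup_layer_normal_of_generated (hfacts f hfS hf1).generated
    obtain ⟨k, hk⟩ := CfsgLib.RankOneInvol.exists_pow_sq_eq hodd
    have hx2 : bar f x' * bar f x' ∈ img f E.A ⊔ Cfsg.layer (CenBar f) := by
      have e : bar f x' * bar f x' =
          (bar f x' * bar f v' * (bar f x')⁻¹) * (bar f v')⁻¹ := by
        calc bar f x' * bar f x' = bar f x' * ((bar f x')⁻¹)⁻¹ := by rw [inv_inv]
          _ = bar f x' * (bar f v' * bar f x' * (bar f v')⁻¹)⁻¹ := by rw [hinv']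
          _ = _ := by group
      rw [e]
      exact mul_mem (hN.conj_mem _ (mem_sup_left hvB) _) (inv_mem (mem_sup_left hvB))
    have hx1 : bar f x' ∈ img f E.A ⊔ Cfsg.layer (CenBar f) := by
      rw [← hk, ← (Commute.refl (bar f x')).mul_pow]
      exact pow_mem hx2 _
    obtain ⟨l, hl, b, hb, hlb⟩ := mem_sup_of_normal_left.1 (sup_comm (img f E.A) _ ▸ hx1)
    have hsq : bar f x' * bar f x' ∈ Cfsg.layer (CenBar f) := by
      obtain ⟨b', hb', rfl⟩ := hb
      have hbb : bar f b' * bar f b' = 1 := by
        rw [← map_mul, ← map_one (bar f)]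
        exact congrArg _ (Subtype.ext (by simpa [pow_two] using hA.2 _ (mem_subgroupOf.1 hb')))
      rw [← hlb, show l * bar f b' * (l * bar f b') =
        l * (bar f b' * l * (bar f b')⁻¹) * (bar f b' * bar f b') by group, hbb, mul_one]
      exact mul_mem hl ((inferInstance : (Cfsg.layer (CenBar f)).Normal).conj_mem l hl _)
    rw [← hk, ← (Commute.refl (bar f x')).mul_pow]
    exact pow_mem hsq _
  have hlayer : ∀ L : Subgroup (CenBar f), Cfsg.IsComponent L →
      bar f x' ∈ centralizer (L : Set (CenBar f)) := by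
    intro L hL
    have hN : bar f x' ∈ normalizer (L : Set (CenBar f)) :=
      CfsgLib.Components.layer_le_normalizer_component hL hxl
    by_cases hBL : img f E.A ≤ centralizer (L : Set (CenBar f))
    · exact mem_centralizer_of_inverted (hBL hvB) hN hinv' hodd
    obtain ⟨i, hi, hcent⟩ := B.component f hfS hf1 L ⟨hL, hBL⟩
    by_cases hij : j = i
    · subst hij
      set T := R.subgroupOf (cen f) with hT
      have hT2 : IsPGroup 2 T := fun t => ⟨1, Subtype.ext (Subtype.ext (by
        simpa using hA.2 _ (hF.1 (hRF (mem_subgroupOf.1 t.2)))))⟩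
      have hTL : T.map (FTCons.GoldFunctor.quo ↥(cen f)) ≤ centralizer (L : Set (CenBar f)) :=
        le_trans (map_mono (comap_mono hR)) (B.img_others_le hSf hcent)
      have hzle : zpowers x' ≤ CfsgLib.Components.centralizerCore 2 (T : Set ↥(cen f)) :=
        zpowers_le.2 (FTCons.GoldFunctor.centralizerCore_subgroupOf_le (cen f) R
          (hRF.trans (hF.1.trans hSf)) (mem_subgroupOf.2 hx))
      have hzN : (zpowers x').map (FTCons.GoldFunctor.quo ↥(cen f)) ≤
          normalizer (L : Set (CenBar f)) := by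
        rw [MonoidHom.map_zpowers]
        exact zpowers_le.2 hN
      have h := FTCons.GoldFunctor.core_commutes hL hT2 hTL hzle hzN
      rw [commutator_comm] at h
      exact CfsgLib.Components.le_centralizer_of_commutator_eq_bot h ⟨x', mem_zpowers x', rfl⟩
    · exact mem_centralizer_of_inverted (hcent j hij ⟨v', hv, rfl⟩) hN hinv' hodd
  exact CfsgLib.Components.eq_one_of_mem_pCore_of_coprime
    (CfsgLib.Tech46.mem_pCore_of_centralizes hO (CfsgLib.Tech46.mem_centralizer_layer hlayer)
      (layer_le_centralizer_pCore_two hxl))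
    (hco.coprime_dvd_left hdvd)

include hc hfacts hloc hdelta in
/-- `V j` centralises the cores of the centralisers of subgroups of the product of the other blocks. -/
theorem core_le_centralizer {j : B.ι} {R : Subgroup G} (hR : R ≤ B.others j) :
    CfsgLib.Components.centralizerCore 2 (R : Set G) ≤ centralizer (B.V j : Set G) := by
  have hA := E.elem
  set Y := CfsgLib.Components.centralizerCore 2 (R : Set G) with hY
  have hRS : R ≤ E.A := hR.trans (B.others_le j)
  have hSN : E.A ≤ normalizer (Y : Set G) := by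
    refine le_normalizer_of_conj hA fun s hs y hy => ?_
    exact CfsgLib.Components.conj_mem_centralizerCore (centralizer_le_normalizer _
      (mem_centralizer_iff.2 fun r hr => commute_of_mem hA (hRS hr) hs)) hy
  refine CfsgLib.Tech46.le_of_centralizers_corank_one hA _ _ (fun h => ?_) hSN
    fun B' hB' hcard x hx => ?_
  · exact Nat.prime_two.coprime_iff_not_dvd.1
      (CfsgLib.Components.card_centralizerCore_coprime (p := 2) (R : Set G)).symm h
  have hF : IsHyp E.A (B' ⊔ R) := ⟨sup_le hB' hRS, hcard.trans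
    (Nat.mul_le_mul_left 2 (Nat.le_of_dvd Nat.card_pos (card_dvd_of_le le_sup_left)))⟩
  have hxF : x ∈ centralizer ((B' ⊔ R : Subgroup G) : Set G) :=
    le_centralizer_iff.1 (sup_le (le_centralizer_iff.1 (zpowers_le.2 hx.2))
      (le_centralizer_iff.1 (zpowers_le.2
        (CfsgLib.Components.centralizerCore_le_centralizer _ hx.1)))) (mem_zpowers x)
  rw [mem_centralizer_iff]
  intro v hv
  have hvS : v ∈ E.A := B.block_le j hv
  have hvv : v * v = 1 := by simpa [pow_two] using hA.2 v hvS
  have hvi : v⁻¹ = v := inv_eq_of_mul_eq_one_right hvv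
  set z := x⁻¹ * (v * x * v⁻¹) with hz
  have hzY : z ∈ Y := mul_mem (inv_mem hx.1) ((mem_normalizer_iff.1 (hSN hvS) x).1 hx.1)
  have hzF : z ∈ centralizer ((B' ⊔ R : Subgroup G) : Set G) := by
    have hvc : v ∈ centralizer ((B' ⊔ R : Subgroup G) : Set G) :=
      mem_centralizer_iff.2 fun w hw => commute_of_mem hA (hF.1 hw) hvS
    exact mul_mem (inv_mem hxF) (mul_mem (mul_mem hvc hxF) (inv_mem hvc))
  have hzi : v * z * v⁻¹ = z⁻¹ := by
    rw [hz, hvi]
    calc v * (x⁻¹ * (v * x * v)) * v = v * x⁻¹ * v * x * (v * v) := by group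
      _ = (x⁻¹ * (v * x * v))⁻¹ := by
        rw [hvv, mul_inv_rev, mul_inv_rev, mul_inv_rev, hvi, inv_inv]; group
  have h1 := eq_one_of_inverted hc B hfacts hloc hdelta hR hF le_sup_right hv hzY hzF hzi
  rw [hz, inv_mul_eq_one] at h1
  calc v * x = v * x * v⁻¹ * v := by group
    _ = x * v := by rw [← h1]

include hc hfacts hloc hdelta in
theorem blockCore_le_centralizer {j : B.ι} {R : Subgroup G} (hR : R ≤ B.others j) :
    B.core j ≤ centralizer (CfsgLib.Components.centralizerCore 2 (R : Set G) : Set G) := by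
  refine B.core_le_of_normalized ?_
    (le_centralizer_iff.1 (core_le_centralizer hc B hfacts hloc hdelta hR))
  refine fun c hcm => CfsgLib.Components.normalizer_le_normalizer_centralizer _ ?_
  have hcR : c ∈ normalizer (R : Set G) :=
    centralizer_le_normalizer _ (centralizer_le (SetLike.coe_subset_coe.2 hR) hcm)
  exact mem_normalizer_of_map_le (by
    rintro _ ⟨y, hy, rfl⟩
    exact CfsgLib.Components.conj_mem_centralizerCore hcR hy)

include hc hfacts hloc in
/-- In `C(r)/O(C(r))`, `r` outside the block `j`, the core `K j` lies in the layer and centralises the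
components centralised by `A` and those over the other blocks. -/
theorem blockCore_img {j : B.ι} {r : G} (hr : r ∈ B.others j) (hr1 : r ≠ 1) :
    B.core j ≤ cen r ∧ img r (B.core j) ≤ Cfsg.layer (CenBar r) ∧
      ∀ (L : Subgroup (CenBar r)), Cfsg.IsComponent L →
        (img r E.A ≤ centralizer (L : Set (CenBar r)) ∨
          ∃ i, i ≠ j ∧ IsAComp (img r E.A) L ∧ piece E.A r L ≤ B.V i ∧
            ∀ k, k ≠ i → img r (B.V k) ≤ centralizer (L : Set (CenBar r))) →
          img r (B.core j) ≤ centralizer (L : Set (CenBar r)) := by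
  have hA := E.elem
  have hrS : r ∈ E.A := B.others_le j hr
  have hCr : B.cent j ≤ cen r := centralizer_le (Set.singleton_subset_iff.2 hr)
  have hSr : E.A ≤ cen r := le_cen hA hrS
  have hKr : B.core j ≤ cen r := (B.core_le_cent j).trans hCr
  -- a normalised overgroup of `V j` in the quotient contains the core
  have hover : ∀ D : Subgroup (CenBar r),
      (∀ c : ↥(cen r), (c : G) ∈ B.cent j → bar r c ∈ normalizer (D : Set (CenBar r))) →
      img r (B.V j) ≤ D → img r (B.core j) ≤ D := by
    intro D hN hV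
    have h := B.core_le_of_normalized (D := (D.comap (bar r)).map (cen r).subtype)
      (fun c hcm => ?_) (fun w hw => ⟨⟨w, hSr (B.block_le j hw)⟩, hV ⟨_, hw, rfl⟩, rfl⟩)
    · rintro _ ⟨y, hy, rfl⟩
      obtain ⟨z, hz, hzy⟩ := h (mem_subgroupOf.1 hy)
      rw [← Subtype.ext (a1 := z) (a2 := y) hzy]
      exact hz
    · refine mem_normalizer_of_map_le ?_
      rintro _ ⟨_, ⟨d, hd, rfl⟩, rfl⟩
      refine ⟨⟨c, hCr hcm⟩ * d * ⟨c, hCr hcm⟩⁻¹, ?_, rfl⟩
      show bar r (⟨c, hCr hcm⟩ * d * ⟨c, hCr hcm⟩⁻¹) ∈ D
      rw [map_mul, map_mul, map_inv]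
      exact (mem_normalizer_iff.1 (hN ⟨c, hCr hcm⟩ hcm) _).1 hd
  refine ⟨hKr, ?_, ?_⟩
  · haveI := sup_layer_normal_of_generated (hfacts r hrS hr1).generated
    have hle := hover (img r E.A ⊔ Cfsg.layer (CenBar r))
      (fun c _ => by rw [normalizer_eq_top]; exact mem_top _)
      (le_sup_left.trans' (map_mono (comap_mono (B.block_le j))))
    refine perfect_le_of_sup (N := Cfsg.layer (CenBar r)) (R := img r E.A) ?_ ?_
      (sup_comm (img r E.A) _ ▸ hle)
    · have hperf : ⁅(B.core j).subgroupOf (cen r), (B.core j).subgroupOf (cen r)⁆ =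
          (B.core j).subgroupOf (cen r) := by
        apply map_injective (cen r).subtype_injective
        rw [map_commutator, map_subgroupOf_eq_of_le hKr]
        exact commutator_resid _
      rw [img, ← map_commutator, hperf]
    · refine Group.isSolvable_of_comm fun a b => Subtype.ext ?_
      obtain ⟨a', ha', ha⟩ := a.2
      obtain ⟨b', hb', hb⟩ := b.2
      show (a : CenBar r) * b = b * a
      rw [← ha, ← hb, ← map_mul, ← map_mul]
      exact congrArg _ (Subtype.ext (commute_of_mem hA (mem_subgroupOf.1 ha') (mem_subgroupOf.1 hb')))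
  · intro L hL hcase
    rcases hcase with hBL | ⟨i, hij, hAL, hi, hcent⟩
    · -- all components centralised by `A`
      obtain ⟨T, hT⟩ : ∃ T : Subgroup (CenBar r), T = sSup {L : Subgroup (CenBar r) |
          Cfsg.IsComponent L ∧ img r E.A ≤ centralizer (L : Set (CenBar r))} := ⟨_, rfl⟩
      have hLT : L ≤ T := hT.ge.trans' (le_sSup ⟨hL, hBL⟩)
      have hmap : ∀ g : CenBar r, T.map (MulAut.conj g).toMonoidHom ≤ T := by
        intro g
        subst hT
        rw [Subgroup.map_le_iff_le_comap]
        refine sSup_le fun K hK => Subgroup.map_le_iff_le_comap.1 (le_sSup ?_)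
        exact ⟨CfsgLib.Components.isComponent_conj g hK.1,
          centralizes_conj_of_generated (hfacts r hrS hr1).generated g hK.1 hK.2⟩
      refine le_trans (hover (centralizer (T : Set (CenBar r))) (fun c _ => ?_) ?_)
        (centralizer_le hLT)
      · exact CfsgLib.Components.normalizer_le_normalizer_centralizer _
          (mem_normalizer_of_map_le (hmap _))
      subst hT
      refine (map_mono (comap_mono (B.block_le j))).trans (le_centralizer_iff.1 (sSup_le fun K hK => ?_))
      exact le_centralizer_iff.1 hK.2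
    · refine hover _ (fun c hcm => CfsgLib.Components.normalizer_le_normalizer_centralizer _ ?_)
        (hcent j hij.symm)
      have h4 := four_le_piece hloc hrS hr1 hAL
      obtain ⟨y, hy, hy1⟩ := ((piece E.A r L).bot_or_exists_ne_one).resolve_left
        fun h => by rw [h, card_bot] at h4; omega
      exact bar_mem_normalizer_of_piece hc hrS hr1 hAL hy hy1
        (mem_centralizer_iff.1 hcm y (B.le_others hij (hi hy))).symm

include hc hfacts hloc hdelta in
/-- The cores of different blocks commute. -/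
theorem blockCore_commute {i j : B.ι} (hij : i ≠ j) : ⁅B.core i, B.core j⁆ = ⊥ := by
  obtain ⟨l, hli, hlj⟩ := B.exists_third i j
  obtain ⟨r, hr, hr1⟩ := B.exists_ne_one l
  have hri : r ∈ B.others i := B.le_others hli hr
  have hrj : r ∈ B.others j := B.le_others hlj hr
  have hrS : r ∈ E.A := B.block_le l hr
  obtain ⟨hic, hiP, hiL⟩ := blockCore_img hc B hfacts hloc hri hr1
  obtain ⟨hjc, hjP, hjL⟩ := blockCore_img hc B hfacts hloc hrj hr1
  have hO : Cfsg.pPrimeCore 2 (CenBar r) = ⊥ := CfsgLib.PCore.pPrimeCore_quotient_pPrimeCore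
  have hle : ⁅img r (B.core i), img r (B.core j)⁆ ≤ Cfsg.pCore 2 (CenBar r) := by
    rw [commutator_le]
    intro a ha b hb
    refine CfsgLib.Tech46.mem_pCore_of_centralizes hO (CfsgLib.Tech46.mem_centralizer_layer
      fun L hL => commutator_mem_centralizer_component (fun M hM => ?_) hL) ?_
    · by_cases hBM : img r E.A ≤ centralizer (M : Set (CenBar r))
      · exact Or.inl (hiL M hM (Or.inl hBM) ha)
      obtain ⟨m, hm, hcent⟩ := B.component r hrS hr1 M ⟨hM, hBM⟩
      by_cases hmi : m = i
      · exact Or.inr (hjL M hM (Or.inr ⟨m, hmi ▸ hij, ⟨hM, hBM⟩, hm, hcent⟩) hb)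
      · exact Or.inl (hiL M hM (Or.inr ⟨m, hmi, ⟨hM, hBM⟩, hm, hcent⟩) ha)
    · rw [commutatorElement_def]
      have h1 := layer_le_centralizer_pCore_two (hiP ha)
      have h2 := layer_le_centralizer_pCore_two (hjP hb)
      exact mul_mem (mul_mem (mul_mem h1 h2) (inv_mem h1)) (inv_mem h2)
  have hperf : ⁅(B.core i).subgroupOf (cen r), (B.core i).subgroupOf (cen r)⁆ =
      (B.core i).subgroupOf (cen r) := by
    apply map_injective (cen r).subtype_injective
    rw [map_commutator, map_subgroupOf_eq_of_le hic]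
    exact commutator_resid _
  have h1 : ⁅img r (B.core i), img r (B.core j)⁆ = ⊥ := by
    refine CfsgLib.Components.commutator_eq_bot_of_perfect
      (by rw [img, ← map_commutator, hperf]) (le_bot_iff.1 ?_)
    refine (commutator_mono hle le_rfl).trans (le_of_eq ?_)
    rw [commutator_comm]
    exact commutator_eq_bot_iff_le_centralizer.2 (hiP.trans layer_le_centralizer_pCore_two)
  have h2 : ⁅B.core i, B.core j⁆ ≤
      CfsgLib.Components.centralizerCore 2 ((zpowers r : Subgroup G) : Set G) := by
    rw [img, img, ← map_commutator, Subgroup.map_eq_bot_iff, QuotientGroup.ker_mk'] at h1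
    rw [← CfsgLib.Components.centralizerPPrimeCore_eq_zpowers]
    refine le_trans (le_of_eq ?_) (map_mono h1)
    rw [map_commutator, map_subgroupOf_eq_of_le hic, map_subgroupOf_eq_of_le hjc]
  refine CfsgLib.Components.commutator_eq_bot_of_perfect (commutator_resid _) (le_bot_iff.1 ?_)
  refine (commutator_mono h2 le_rfl).trans (le_of_eq ?_)
  rw [commutator_comm]
  exact commutator_eq_bot_iff_le_centralizer.2
    (blockCore_le_centralizer hc B hfacts hloc hdelta (zpowers_le.2 hri))

include hloc in
/-- A component moved by `A` over the block `i` is covered by `K i`. -/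
theorem component_le_img {u : G} (hu : u ∈ E.A) (hu1 : u ≠ 1) {L : Subgroup (CenBar u)}
    (hL : IsAComp (img u E.A) L) {i : B.ι}
    (hcent : ∀ k, k ≠ i → img u (B.V k) ≤ centralizer (L : Set (CenBar u))) :
    L ≤ img u (B.core i) := by
  have hA := E.elem
  have hSu : E.A ≤ cen u := le_cen hA hu
  set T := (B.others i).subgroupOf (cen u) with hT
  have hT2 : IsPGroup 2 T := fun t => ⟨1, Subtype.ext (Subtype.ext (by
    simpa using hA.2 _ (B.others_le i (mem_subgroupOf.1 t.2))))⟩
  have hrange : L ≤ (centralizer (T : Set ↥(cen u))).map (bar u) :=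
    FTCons.GoldFunctor.le_range_of_fixed hT2 (B.img_others_le hSu hcent)
  set X := img u (B.dom i) with hX
  -- `L` normalises `X`
  have hLX : L ≤ normalizer (X : Set (CenBar u)) := by
    refine hrange.trans ((map_mono fun z hz => ?_).trans (le_normalizer_map _))
    have hzc : (z : G) ∈ B.cent i := mem_centralizer_iff.2 fun t ht =>
      congrArg Subtype.val (mem_centralizer_iff.1 hz (⟨t, hSu (B.others_le i ht)⟩ : ↥(cen u))
        (mem_subgroupOf.2 ht))
    refine mem_normalizer_of_map_le ?_
    rintro _ ⟨d, hd, rfl⟩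
    exact (mem_normalizer_iff.1 (B.cent_le_normalizer_dom i hzc) (d : G)).1 hd
  -- so `L ≤ X`
  have hLleX : L ≤ X := by
    obtain ⟨T', hT'⟩ := hloc u hu hu1
    have hVN : img u (B.V i) ≤ normalizer (L : Set (CenBar u)) :=
      (map_mono (comap_mono (B.block_le i))).trans (hT'.le_normalizer L hL.1)
    have hI : ⁅L, img u (B.V i)⁆ ≤ L ⊓ X := by
      refine le_inf (le_normalizer_iff_commutator_le_left.mp hVN)
        ((commutator_mono le_rfl (map_mono (comap_mono (B.le_dom i)))).trans ?_)
      rw [commutator_comm]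
      exact le_normalizer_iff_commutator_le_left.mp hLX
    obtain h1 | h1 := CfsgLib.Components.component_eq_or_commutator_of_normalized hL.1 inf_le_left
      (show L ≤ normalizer ((L ⊓ X : Subgroup (CenBar u)) : Set (CenBar u)) from
        (le_inf le_normalizer hLX).trans inf_normalizer_le_normalizer_inf)
    · exact inf_eq_left.1 h1
    · exfalso
      have h2 : ⁅L, img u (B.V i)⁆ = ⊥ := by
        refine CfsgLib.Components.commutator_eq_bot_of_perfect
          (CfsgLib.Components.component_commutator_self hL.1) (le_bot_iff.1 ?_)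
        exact (commutator_mono hI le_rfl).trans (by rw [commutator_comm, h1])
      refine hL.2 ?_
      have hall : ∀ k, True → img u (B.V k) ≤ centralizer (L : Set (CenBar u)) := fun k _ => by
        by_cases hk : k = i
        · subst hk
          rw [commutator_comm] at h2
          exact CfsgLib.Components.le_centralizer_of_commutator_eq_bot h2
        · exact hcent k hk
      refine le_trans (map_mono (comap_mono ?_)) (B.img_iSup_le hSu hall)
      exact B.sup_eq.ge.trans (iSup_le fun k =>
        le_iSup (fun k : {k : B.ι // True} => B.V (k : B.ι)) ⟨k, trivial⟩)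
  set Z := L.comap (bar u) ⊓ (B.dom i).subgroupOf (cen u) with hZ
  obtain ⟨P, hPZ, hP, -, n, hn⟩ := CfsgLib.InvChar.exists_perfect_core Z
  have hder : ∀ k, L ≤ ((derivedSeries Z k).map Z.subtype).map (bar u) := by
    intro k
    induction k with
    | zero =>
      intro y hy
      obtain ⟨z, hz, rfl⟩ := hLleX hy
      exact ⟨z, ⟨⟨z, hy, hz⟩, mem_top _, rfl⟩, rfl⟩
    | succ k ih =>
      rw [derivedSeries_succ, map_commutator, map_commutator]
      exact (CfsgLib.Components.component_commutator_self hL.1).ge.trans (commutator_mono ih ih)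
  refine ((hder n).trans (map_mono hn)).trans (map_mono fun p hp => mem_subgroupOf.2 ?_)
  have hle : P.map (cen u).subtype ≤ B.core i := by
    refine le_resid ?_ (by rw [← map_commutator, hP])
    rintro _ ⟨q, hq, rfl⟩
    exact mem_subgroupOf.1 (hPZ hq).2
  exact hle ⟨p, hp, rfl⟩

theorem normalizer_le_prodCore :
    normalizer (E.A : Set G) ≤ normalizer (B.prodCore : Set G) := by
  classical
  haveI := B.finite
  intro n hn
  choose σ hσ using B.perm n hn
  have hσinj : Function.Injective σ := by
    intro a b hab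
    have h := (hσ a).trans ((congrArg B.V hab).trans (hσ b).symm)
    have h' : B.V a = B.V b := map_injective (MulAut.conj n).injective h
    refine B.eq_of_le (fun hb => ?_) le_rfl h'.le
    have := B.four_le a
    rw [hb, card_bot] at this
    omega
  have hσsurj : Function.Surjective σ := Finite.surjective_of_injective hσinj
  -- the image of `C(Q i)` lies in `C(Q (σ i))`
  have hcent : ∀ i, ∀ c ∈ B.cent i, MulAut.conj n c ∈ B.cent (σ i) := by
    intro i c hci
    refine le_centralizer_iff.1 (iSup_le ?_ : B.others (σ i) ≤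
      centralizer (zpowers (MulAut.conj n c) : Set G)) (mem_zpowers _)
    rintro ⟨m, hm⟩
    obtain ⟨k, rfl⟩ := hσsurj m
    show B.V (σ k) ≤ _
    rw [← hσ k]
    rintro _ ⟨w, hw, rfl⟩
    have hki : k ≠ i := fun e => hm (congrArg σ e)
    have hcw : Commute w c := mem_centralizer_iff.1 hci w (B.le_others hki hw)
    rw [mem_centralizer_iff]
    intro z hz
    obtain ⟨m, rfl⟩ := mem_zpowers_iff.1 hz
    exact (((hcw.map (MulAut.conj n).toMonoidHom).zpow_right m).eq).symm
  refine mem_normalizer_of_map_le ?_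
  rw [ABlocks.prodCore, Subgroup.map_iSup]
  refine iSup_le fun i => le_trans (map_resid_le _ ?_) (le_iSup B.core (σ i))
  rw [ABlocks.dom, MonoidHom.map_closure, closure_le]
  rintro _ ⟨_, ⟨c, hci, v, hv, rfl⟩, rfl⟩
  refine subset_closure ⟨MulAut.conj n c, hcent i c hci, MulAut.conj n v, hσ i ▸ ⟨v, hv, rfl⟩, ?_⟩
  rw [← map_inv, ← map_mul, ← map_mul]
  rfl

include hc hfacts hloc hdelta in
theorem blockCentral_core_le {l : B.ι} {w : G} (hw : w ∈ B.V l) :
    Cfsg.centralizerPPrimeCore 2 w ≤ normalizer (B.prodCore : Set G) := by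
  rw [CfsgLib.Components.centralizerPPrimeCore_eq_zpowers]
  intro y hy
  have hR : ∀ j, j ≠ l → zpowers w ≤ B.others j := fun j hj =>
    zpowers_le.2 (B.le_others (Ne.symm hj) hw)
  refine mem_normalizer_of_map_le ?_
  rw [ABlocks.prodCore, Subgroup.map_iSup]
  refine iSup_mono fun j => ?_
  by_cases hjl : j = l
  · subst hjl
    have hyC : y ∈ B.cent j := by
      refine le_centralizer_iff.1 (iSup_le fun m => ?_ : B.others j ≤ centralizer (zpowers y : Set G))
        (mem_zpowers y)
      exact le_centralizer_iff.1 (zpowers_le.2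
        (core_le_centralizer hc B hfacts hloc hdelta (hR m m.2) hy))
    rintro _ ⟨k, hk, rfl⟩
    exact (mem_normalizer_iff.1 (B.cent_le_normalizer_core j hyC) k).1 hk
  · rintro _ ⟨k, hk, rfl⟩
    have hcm : y * k = k * y := mem_centralizer_iff.1
      (blockCore_le_centralizer hc B hfacts hloc hdelta (hR j hjl) hk) y hy
    show y * k * y⁻¹ ∈ B.core j
    rwa [hcm, mul_inv_cancel_right]

include hfacts hloc in
/-- `C(u)` lies in every subgroup containing `O(C(u))`, `N(A)` and the product of the cores. -/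
theorem cen_le_of_core {u : G} (hu : u ∈ E.A) (hu1 : u ≠ 1) {M : Subgroup G}
    (hcore : Cfsg.centralizerPPrimeCore 2 u ≤ M)
    (hN : normalizer (E.A : Set G) ≤ M) (hP : B.prodCore ≤ M) : cen u ≤ M := by
  refine cen_le_of_top hcore ?_
  rw [eq_top_iff, ← (hfacts u hu hu1).generated]
  refine sup_le (sSup_le fun L hL => ?_) (img_normalizer_le E.elem hu le_rfl hN)
  by_cases hBL : img u E.A ≤ centralizer (L : Set (CenBar u))
  · exact (le_centralizer_iff.1 hBL).trans ((centralizer_le_normalizer _).trans
      (img_normalizer_le E.elem hu le_rfl hN))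
  obtain ⟨i, -, hcent⟩ := B.component u hu hu1 L ⟨hL, hBL⟩
  exact (component_le_img B hloc hu hu1 ⟨hL, hBL⟩ hcent).trans
    (map_mono (comap_mono ((le_iSup B.core i).trans hP)))

include hc hfacts hloc hdelta in
/-- The normaliser of the product of the cores contains all centralisers. -/
theorem cen_le_normalizer {u : G} (hu : u ∈ E.A) (hu1 : u ≠ 1) :
    cen u ≤ normalizer (B.prodCore : Set G) := by
  have hA := E.elem
  have hN := normalizer_le_prodCore B
  have hone : ∀ l, ∀ w ∈ B.V l, w ≠ 1 → cen w ≤ normalizer (B.prodCore : Set G) := fun l w hw hw1 =>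
    cen_le_of_core B hfacts hloc (B.block_le l hw) hw1
      (blockCentral_core_le hc B hfacts hloc hdelta hw) hN le_normalizer
  refine cen_le_of_core B hfacts hloc hu hu1 ?_ hN le_normalizer
  obtain ⟨l⟩ := B.exists_index
  refine CfsgLib.Tech46.le_of_centralizers_corank_one (elementary_le hA (B.block_le l)) _ _
    (fun h => ?_) (((B.block_le l).trans (le_cen hA hu)).trans
      (CfsgLib.Tech46.le_normalizer_centralizerPPrimeCore u)) fun B' hB' hcard => ?_
  · exact Nat.Prime.not_coprime_iff_dvd.2 ⟨2, Nat.prime_two, h, dvd_refl 2⟩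
      (CfsgLib.Tech46.centralizerPPrimeCore_coprime u)
  · obtain ⟨w, hw, hw1⟩ := (B'.bot_or_exists_ne_one).resolve_left fun h => by
      have := B.four_le l
      rw [h, card_bot] at hcard
      omega
    exact inf_le_right.trans ((centralizer_le (Set.singleton_subset_iff.2 hw)).trans
      (hone l w (hB' hw) hw1))

include hc hfacts hloc hdelta in
theorem prodCore_normalizer_ne_top [IsSimpleGroup G] (hG : ¬ IsMulCommutative G) :
    normalizer (B.prodCore : Set G) ≠ ⊤ := by
  obtain ⟨i⟩ := B.exists_index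
  obtain ⟨l, hli, -⟩ := B.exists_third i i
  obtain ⟨r, hr, hr1⟩ := B.exists_ne_one l
  have hri : r ∈ B.others i := B.le_others hli hr
  have hKne : B.core i ≠ ⊥ := by
    obtain ⟨L, hL, hLV⟩ := B.exists_component i r hri hr1
    obtain ⟨m, hm, hcent⟩ := B.component r (B.others_le i hri) hr1 L hL
    have hVne : B.V i ≠ ⊥ := fun hb => by
      have := B.four_le i
      rw [hb, card_bot] at this
      omega
    obtain rfl := B.eq_of_le hVne le_rfl (hLV.ge.trans hm)
    intro hK
    have h := component_le_img B hloc (B.others_le i hri) hr1 hL hcent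
    rw [hK, img, bot_subgroupOf, Subgroup.map_bot, le_bot_iff] at h
    exact CfsgLib.Components.component_ne_bot hL.1 h
  intro htop
  rcases (normalizer_eq_top_iff.1 htop).eq_bot_or_eq_top with hb | ht
  · exact hKne (le_bot_iff.1 ((le_iSup B.core i).trans hb.le))
  have hnorm : (⊤ : Subgroup G) ≤ normalizer (B.core i : Set G) := by
    rw [← ht, ABlocks.prodCore]
    refine iSup_le fun j => ?_
    by_cases hji : j = i
    · rw [hji]
      exact le_normalizer
    · exact (CfsgLib.Components.le_centralizer_of_commutator_eq_bot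
        (blockCore_commute hc B hfacts hloc hdelta hji)).trans (centralizer_le_normalizer _)
  rcases (normalizer_eq_top_iff.1 (top_le_iff.1 hnorm)).eq_bot_or_eq_top with hb | hKtop
  · exact hKne hb
  have hcent : B.cent i = ⊤ := top_le_iff.1 (hKtop ▸ B.core_le_cent i)
  have hrc : r ∈ center G := mem_center_iff.2 fun g =>
    (mem_centralizer_iff.1 (hcent ▸ mem_top g : g ∈ B.cent i) r hri).symm
  rcases (inferInstance : (center G).Normal).eq_bot_or_eq_top with hb | hcz
  · rw [hb, mem_bot] at hrc
    exact hr1 hrc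
  · exact hG ⟨⟨fun a b => (mem_center_iff.1 (hcz ▸ mem_top b : b ∈ center G) a)⟩⟩

end

/-- A proper subgroup containing the centralisers of the involutions of `A` gives a strongly embedded
subgroup. -/
theorem concl_of_cen [IsSimpleGroup G] (E : Setting G) {M : Subgroup G} (hM : M ≠ ⊤)
    (hC : ∀ u ∈ E.A, u ≠ 1 → cen u ≤ M) : Concl G := by
  refine Or.inr (Cfsg.Agent.S1174.result E.S E.A E.ne_bot E.sc fun h => hM (top_le_iff.1 ?_))
  rw [← h]
  exact iSup_le fun t => hC t t.2.1 fun e => by
    have := t.2.2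
    rw [show ((t : G)) = 1 from e, orderOf_one] at this
    omega

/-- Three or more blocks give a strongly embedded subgroup. -/
theorem concl_of_blocks [IsSimpleGroup G] (hG : ¬ IsMulCommutative G) (E : Setting G)
    (hc : E.CentreFree) (B : ABlocks E) (hfacts : ∀ u ∈ E.A, u ≠ 1 → CenFacts E.A u)
    (hloc : ∀ u ∈ E.A, u ≠ 1 → ∃ T : Subgroup (CenBar u), LocalFacts T (img u E.A)) : Concl G := by
  have hA := E.elem
  have h64 := B.sixtyfour_le
  have hS5 : 32 ≤ Nat.card E.A := by omega
  have hbal := threeBalanced hA hfacts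
  have hWodd : ¬ 2 ∣ Nat.card (pieceJoin E.A ⊥) := not_two_dvd_signal hA hS5 hbal
  by_cases hW : pieceJoin E.A ⊥ = ⊥
  · have hdelta : ∀ D : Subgroup G, D ≤ E.A → 8 ≤ Nat.card D → Cfsg.signalizerDelta 2 D = ⊥ :=
      fun D hD hD8 => le_bot_iff.1 ((delta_le_signal hA hS5 hbal hD hD8).trans hW.le)
    exact concl_of_cen E (prodCore_normalizer_ne_top hc B hfacts hloc hdelta hG)
      fun u hu hu1 => cen_le_normalizer hc B hfacts hloc hdelta hu hu1
  refine concl_of_cen E (M := normalizer (pieceJoin E.A ⊥ : Set G)) ?_ fun u hu hu1 =>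
    cen_le_of_normalizers B hu hu1 (hfacts u hu hu1)
      fun D hD hD16 => normalizer_le_signal hA hS5 hbal hD hD16
  intro h
  rcases (normalizer_eq_top_iff.1 h).eq_bot_or_eq_top with hb | ht
  · exact hW hb
  refine hWodd ?_
  rw [ht, Subgroup.card_top]
  refine dvd_trans ?_ (card_subgroup_dvd_card E.A)
  obtain ⟨k, hk⟩ := IsPGroup.iff_card.1
    (show IsPGroup 2 E.A from fun a => ⟨1, Subtype.ext (by simpa using hA.2 a a.2)⟩)
  rw [hk] at h64 ⊢
  rcases k with _ | k
  · norm_num at h64
  · exact dvd_pow_self 2 k.succ_ne_zero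

end CfsgLib.Goldschmidt
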