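import Cfsg.Agent.Lib.Goldschmidt.Defs
import Cfsg.Agent.Lib.Components.Basic
import Cfsg.Agent.Lib.Components.Balance
import Cfsg.Agent.Lib.Components.ComponentAction
import Cfsg.Agent.Lib.Tech46.Balance
import Cfsg.Agent.Lib.LocalEven.SubnormalJoin
import Cfsg.Agent.Lib.PCore.Basic
import Cfsg.Agent.Lib.Coprime.Basic

/-!
# Goldschmidt's theorem: an abelian strongly closed subgroup and the components of a core-free group

In a core-free group `H` with an abelian subgroup `B` strongly closed in a Sylow 2-subgroup `T`, `B`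
normalises every component; on a component `L` it does not centralise it induces exactly the involutions
of the image of `T` in `L/Z(L)`, so `B = (B ∩ L) C_B(L)` and a cycle of `L/Z(L)` lifts to a `CompCycle`.
-/

set_option autoImplicit false
set_option linter.unusedSectionVars false
set_option linter.style.haveILetI false

namespace CfsgLib.Goldschmidt

open Subgroup CfsgLib.Walter.RankFour
open scoped commutatorElement

universe u

local instance : Fact (Nat.Prime 2) := ⟨Nat.prime_two⟩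

variable {H : Type u} [Group H] [Finite H]

section Good

variable {X : Type u} [Group X] [Finite X] {T : Sylow 2 X} {g : X}

/-- A cycle on the involutions of `T` fixes only the identity. -/
private theorem localSplit_fix (h4 : 4 ≤ (involSet (T : Subgroup X)).ncard)
    (htrans : ∀ x ∈ involSet (T : Subgroup X), x ≠ 1 → ∀ y ∈ involSet (T : Subgroup X), y ≠ 1 →
      ∃ i : ℕ, g ^ i * x * (g ^ i)⁻¹ = y)
    {x : X} (hx : x ∈ involSet (T : Subgroup X)) (hfix : g * x * g⁻¹ = x) : x = 1 := by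
  by_contra hx1
  have hsub : involSet (T : Subgroup X) ⊆ {1, x} := by
    intro y hy
    by_cases hy1 : y = 1
    · exact Or.inl hy1
    obtain ⟨i, hi⟩ := htrans x hx hx1 y hy hy1
    have hc : Commute g x := mul_inv_eq_iff_eq_mul.1 hfix
    rw [(hc.pow_left i).eq, mul_inv_cancel_right] at hi
    exact Or.inr hi.symm
  have h2 : ({1, x} : Set X).ncard ≤ 2 :=
    (Set.ncard_insert_le _ _).trans (by rw [Set.ncard_singleton])
  have := Set.ncard_le_ncard hsub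
  omega

private theorem localSplit_exists (h4 : 4 ≤ (involSet (T : Subgroup X)).ncard) :
    ∃ x ∈ involSet (T : Subgroup X), x ≠ 1 := by
  by_contra h
  push Not at h
  have := Set.ncard_le_ncard (t := {(1 : X)}) fun y hy => h y hy
  rw [Set.ncard_singleton] at this
  omega

end Good

/-- The centre of a component lies in every Sylow 2-subgroup. -/
theorem component_center_le_sylow (hO : Cfsg.pPrimeCore 2 H = ⊥) (T : Sylow 2 H) {L : Subgroup H}
    (hL : Cfsg.IsComponent L) : L ⊓ centralizer (L : Set H) ≤ (T : Subgroup H) :=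
  (CfsgLib.Components.component_center_le_pCore hO hL).trans (CfsgLib.PCore.pCore_le_sylow T)

section Component

variable (hO : Cfsg.pPrimeCore 2 H = ⊥) (T : Sylow 2 H) {L : Subgroup H}
  (hL : Cfsg.IsComponent L)

private theorem localSplit_eq_one_iff {L : Subgroup H} (a : ↥L) :
    QuotientGroup.mk' (center ↥L) a = 1 ↔ (a : H) ∈ centralizer (L : Set H) := by
  rw [QuotientGroup.mk'_apply, QuotientGroup.eq_one_iff, mem_center_iff, mem_centralizer_iff]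
  exact ⟨fun h y hy => congrArg Subtype.val (h ⟨y, hy⟩), fun h y => Subtype.ext (h y y.2)⟩

include hO hL

/-- The image of `T ∩ L` is a Sylow 2-subgroup of `L / Z(L)`. -/
private theorem localSplit_sylow :
    ∃ Tb : Sylow 2 (↥L ⧸ center ↥L), ∀ a : ↥L,
      QuotientGroup.mk' (center ↥L) a ∈ (Tb : Subgroup (↥L ⧸ center ↥L)) ↔ (a : H) ∈ T := by
  obtain ⟨Q, hQ⟩ := CfsgLib.SubJoin.exists_sylow_subnormal T hL.1
  refine ⟨Q.mapSurjective (QuotientGroup.mk'_surjective _), fun a => ?_⟩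
  rw [Sylow.coe_mapSurjective, hQ]
  constructor
  · rintro ⟨q, hq, hqa⟩
    have hz : ((q⁻¹ * a : ↥L) : H) ∈ centralizer (L : Set H) := (localSplit_eq_one_iff _).1 (by
      rw [map_mul, map_inv, hqa, inv_mul_cancel])
    have hzT : ((q⁻¹ * a : ↥L) : H) ∈ T :=
      component_center_le_sylow hO T hL ⟨(q⁻¹ * a).2, hz⟩
    have : (a : H) = (q : H) * ((q⁻¹ * a : ↥L) : H) := by simp
    rw [this]
    exact mul_mem (mem_subgroupOf.1 hq) hzT
  · exact fun ha => ⟨a, mem_subgroupOf.2 ha, rfl⟩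

end Component

variable {B : Subgroup H}

/-- `B` normalises every component. -/
theorem localSplit_le_normalizer (hO : Cfsg.pPrimeCore 2 H = ⊥) (T : Sylow 2 H)
    (hB : IsMulCommutative ↥B) (hsc : Cfsg.IsStronglyClosed B (T : Subgroup H)) (hgood : GoodComps B)
    {L : Subgroup H} (hL : Cfsg.IsComponent L) : B ≤ normalizer (L : Set H) := by
  intro b hb
  rw [mem_normalizer_iff_map_conj_eq]
  by_contra hne
  have hmoved : IsAComp B L := ⟨hL, fun h => hne (by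
    rw [← mem_normalizer_iff_map_conj_eq]
    exact centralizer_le_normalizer _ (h hb))⟩
  obtain ⟨Tb, hTb⟩ := localSplit_sylow hO T hL
  have hgd := hgood L hmoved
  obtain ⟨x, hx, hx1⟩ := localSplit_exists (hgd.four_le Tb)
  obtain ⟨g, hg, -, htrans, -⟩ := hgd.exists_cycle Tb
  obtain ⟨a, rfl⟩ := QuotientGroup.mk'_surjective _ x
  obtain ⟨l, rfl⟩ := QuotientGroup.mk'_surjective _ g
  refine hx1 (localSplit_fix (hgd.four_le Tb) htrans hx ?_)
  have haT : (a : H) ∈ T := (hTb a).1 hx.1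
  have hlaT : ((l * a * l⁻¹ : ↥L) : H) ∈ T := by
    refine (hTb _).1 ?_
    rw [map_mul, map_mul, map_inv]
    exact (mem_normalizer_iff.1 hg _).1 hx.1
  have hcomm : ∀ u ∈ L.map (MulAut.conj b).toMonoidHom, ∀ v ∈ L, u * v = v * u := fun u hu v hv =>
    CfsgLib.Components.commute_of_commutator_eq_bot
      (CfsgLib.Components.commutator_components_eq_bot (CfsgLib.Components.isComponent_conj b hL) hL hne)
      hu hv
  set t' : H := b * (a : H) * b⁻¹ with ht'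
  have ht'L : t' ∈ L.map (MulAut.conj b).toMonoidHom := ⟨a, a.2, rfl⟩
  have ht'T : t' ∈ T := mul_mem (mul_mem (hsc.1 hb) haT) (inv_mem (hsc.1 hb))
  -- `t' a⁻¹ ∈ B`
  have hc : t' * (a : H)⁻¹ ∈ B := by
    have h1 : (a : H) * b⁻¹ * (a : H)⁻¹ ∈ B :=
      hsc.2 _ (inv_mem hb) _ (mul_mem (mul_mem haT (inv_mem (hsc.1 hb))) (inv_mem haT))
    rw [show t' * (a : H)⁻¹ = b * ((a : H) * b⁻¹ * (a : H)⁻¹) by rw [ht']; group]
    exact mul_mem hb h1
  -- its conjugate by `l` lies in `B`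
  have hc2 : t' * ((l * a * l⁻¹ : ↥L) : H)⁻¹ ∈ B := by
    have e : (l : H) * (t' * (a : H)⁻¹) * (l : H)⁻¹ = t' * ((l * a * l⁻¹ : ↥L) : H)⁻¹ := by
      rw [← mul_assoc, ← hcomm t' ht'L l l.2]
      simp [mul_assoc]
    rw [← e]
    exact hsc.2 _ hc _ (by rw [e]; exact mul_mem ht'T (inv_mem hlaT))
  set d : H := (a : H) * ((l * a * l⁻¹ : ↥L) : H)⁻¹ with hd
  have hdB : d ∈ B := by
    have := mul_mem (inv_mem hc) hc2
    rwa [show (t' * (a : H)⁻¹)⁻¹ * (t' * ((l * a * l⁻¹ : ↥L) : H)⁻¹) = d by rw [hd]; group] at this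
  have hdL : d ∈ L := mul_mem a.2 (inv_mem (l * a * l⁻¹).2)
  have hdL' : d ∈ L.map (MulAut.conj b).toMonoidHom := by
    refine ⟨d, hdL, ?_⟩
    show b * d * b⁻¹ = d
    rw [show b * d = d * b from congrArg Subtype.val (hB.is_comm.comm (⟨b, hb⟩ : B) ⟨d, hdB⟩),
      mul_inv_cancel_right]
  have h1 := (localSplit_eq_one_iff (a * (l * a * l⁻¹)⁻¹)).2
    (mem_centralizer_iff.2 fun v hv => (hcomm d hdL' v hv).symm)
  rw [map_mul, map_inv, mul_inv_eq_one, map_mul, map_mul, map_inv] at h1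
  exact h1.symm

/-- A component moved by `B`: the cycle, and `[T ∩ L, B] ≤ C(L)`. -/
theorem localSplit_component (hO : Cfsg.pPrimeCore 2 H = ⊥) (T : Sylow 2 H)
    (hB : IsMulCommutative ↥B) (hsc : Cfsg.IsStronglyClosed B (T : Subgroup H)) (hgood : GoodComps B)
    {L : Subgroup H} (hA : IsAComp B L) :
    (∃ W : Subgroup H, ∃ g : H, CompCycle B L W g) ∧
      ∀ t ∈ (T : Subgroup H) ⊓ L, ∀ b ∈ B, t * b * t⁻¹ * b⁻¹ ∈ centralizer (L : Set H) := by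
  classical
  have hL := hA.1
  have hBn := localSplit_le_normalizer hO T hB hsc hgood hL
  have hgd := hgood L hA
  haveI : IsSimpleGroup (↥L ⧸ center ↥L) := hL.2.2
  obtain ⟨Tb, hTb⟩ := localSplit_sylow hO T hL
  set π := QuotientGroup.mk' (center ↥L) with hπ
  set Ω := involSet (Tb : Subgroup (↥L ⧸ center ↥L)) with hΩ
  have h4 := hgd.four_le Tb
  obtain ⟨g, hg, hgodd, htrans, -⟩ := hgd.exists_cycle Tb
  have hfix : ∀ x ∈ Ω, g * x * g⁻¹ = x → x = 1 := fun x hx => localSplit_fix h4 htrans hx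
  have hcB : ∀ a ∈ B, ∀ c ∈ B, a * c = c * a := fun a ha c hc =>
    congrArg Subtype.val (hB.is_comm.comm (⟨a, ha⟩ : B) ⟨c, hc⟩)
  have hLC : ∀ a ∈ L, ∀ c ∈ centralizer (L : Set H), a * c = c * a := fun a ha c hc =>
    mem_centralizer_iff.1 hc a ha
  have hone : ∀ a : ↥L, π a = 1 ↔ (a : H) ∈ centralizer (L : Set H) := localSplit_eq_one_iff
  have hconjL : ∀ b ∈ B, ∀ a : ↥L, b * (a : H) * b⁻¹ ∈ L := fun b hb a =>
    (mem_normalizer_iff.1 (hBn hb) _).1 a.2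
  -- a lift of odd order of the cycle
  obtain ⟨l, hlπ, hlodd⟩ : ∃ l : ↥L, π l = g ∧ Odd (orderOf (l : H)) := by
    obtain ⟨l₀, hl₀⟩ := QuotientGroup.mk'_surjective _ g
    obtain ⟨k, r, hr, hkr⟩ := Nat.exists_eq_two_pow_mul_odd (orderOf_pos (l₀ : H)).ne'
    obtain ⟨m, hm⟩ := exists_pow_eq_self_of_coprime (x := g) (n := 2 ^ k)
      ((Nat.coprime_two_left.2 hgodd).pow_left k)
    refine ⟨(l₀ ^ 2 ^ k) ^ m, by rw [map_pow, map_pow]; rw [show π l₀ = g from hl₀, hm], ?_⟩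
    refine hr.of_dvd_nat (orderOf_dvd_of_pow_eq_one ?_)
    rw [coe_pow, coe_pow, ← pow_mul, mul_comm m, pow_mul, ← pow_mul (l₀ : H), ← hkr, pow_orderOf_eq_one,
      one_pow]
  have hlT : ∀ a : ↥L, (a : H) ∈ T → ((l * a * l⁻¹ : ↥L) : H) ∈ T := by
    intro a ha
    refine (hTb _).1 ?_
    rw [map_mul, map_mul, map_inv, hlπ]
    exact (mem_normalizer_iff.1 hg _).1 ((hTb a).2 ha)
  -- `B ∩ L` is strongly closed in `T ∩ L` modulo the centre
  set D := B ⊓ L with hD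
  set Db := (D.subgroupOf L).map π with hDb
  have hDbT : Db ≤ (Tb : Subgroup (↥L ⧸ center ↥L)) := by
    rintro _ ⟨a, ha, rfl⟩
    exact (hTb a).2 (hsc.1 (mem_subgroupOf.1 ha).1)
  have hDbsc : Cfsg.IsStronglyClosed Db (Tb : Subgroup (↥L ⧸ center ↥L)) := by
    refine ⟨hDbT, ?_⟩
    rintro _ ⟨a, ha, rfl⟩ h hh
    obtain ⟨k, rfl⟩ := QuotientGroup.mk'_surjective _ h
    have hh' : π (k * a * k⁻¹) ∈ (Tb : Subgroup (↥L ⧸ center ↥L)) := by
      rw [map_mul, map_mul, map_inv]; exact hh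
    have h0 : ((k * a * k⁻¹ : ↥L) : H) ∈ (T : Subgroup H) := (hTb _).1 hh'
    have hkB := hsc.2 _ (mem_subgroupOf.1 ha).1 (k : H) (by simpa using h0)
    refine ⟨k * a * k⁻¹, mem_subgroupOf.2 ⟨by simpa using hkB, (k * a * k⁻¹).2⟩, ?_⟩
    rw [map_mul, map_mul, map_inv]
  have hDbc : IsMulCommutative ↥Db := by
    refine ⟨⟨fun x y => Subtype.ext ?_⟩⟩
    obtain ⟨a, ha, hax⟩ := x.2
    obtain ⟨c, hc, hcy⟩ := y.2
    show (x : ↥L ⧸ center ↥L) * y = y * x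
    rw [← hax, ← hcy, ← map_mul, ← map_mul]
    exact congrArg π (Subtype.ext (hcB _ (mem_subgroupOf.1 ha).1 _ (mem_subgroupOf.1 hc).1))
  have hDbcase : Db = ⊥ ∨ (Db : Set (↥L ⧸ center ↥L)) = Ω := by
    by_cases h : Db = ⊥
    · exact Or.inl h
    · exact Or.inr (hgd.sc_eq Tb Db hDbsc hDbc h)
  have hDbΩ : ∀ x ∈ Db, x ∈ Ω := by
    intro x hx
    rcases hDbcase with h | h
    · rw [h, mem_bot] at hx
      rw [hx]
      exact ⟨one_mem _, one_pow 2⟩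
    · rw [← h]; exact hx
  -- `[b, T ∩ L] ≤ B ∩ L`
  have hbD : ∀ b ∈ B, ∀ a : ↥L, (a : H) ∈ T → b * (a : H) * b⁻¹ * (a : H)⁻¹ ∈ D := by
    intro b hb a ha
    have h1 : (a : H) * b⁻¹ * (a : H)⁻¹ ∈ B :=
      hsc.2 _ (inv_mem hb) _ (mul_mem (mul_mem ha (inv_mem (hsc.1 hb))) (inv_mem ha))
    refine mem_inf.2 ⟨?_, mul_mem (hconjL b hb a) (inv_mem a.2)⟩
    rw [show b * (a : H) * b⁻¹ * (a : H)⁻¹ = b * ((a : H) * b⁻¹ * (a : H)⁻¹) by group]
    exact mul_mem hb h1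
  -- every element of `B` induces an inner automorphism from `T ∩ L`
  have hproj : ∀ b ∈ B, ∃ z : ↥L, (z : H) ∈ T ∧ (z : H)⁻¹ * b ∈ centralizer (L : Set H) := by
    intro b hb
    let e : ↥L ≃* ↥L := L.normalizerMonoidHom ⟨b, hBn hb⟩
    have he : ∀ a : ↥L, (e a : H) = b * (a : H) * b⁻¹ := fun a => rfl
    let φ : MulAut (↥L ⧸ center ↥L) := QuotientGroup.congr (center ↥L) (center ↥L) e
      (characteristic_iff_map_eq.1 inferInstance e)
    have hφ : ∀ a : ↥L, φ (π a) = π (e a) := fun a => rfl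
    have hφpow : ∀ (n : ℕ) (a : ↥L), ∃ a' : ↥L,
        (φ ^ n) (π a) = π a' ∧ (a' : H) = b ^ n * (a : H) * (b ^ n)⁻¹ := by
      intro n
      induction n with
      | zero => exact fun a => ⟨a, rfl, by simp⟩
      | succ n ih =>
        intro a
        obtain ⟨a', h1, h2⟩ := ih a
        refine ⟨e a', ?_, ?_⟩
        · rw [pow_succ', MulAut.mul_apply, h1, hφ]
        · rw [he, h2, pow_succ']; group
    have h2pow : ∃ k : ℕ, φ ^ 2 ^ k = 1 := by
      obtain ⟨k, hk⟩ := T.2 ⟨b, hsc.1 hb⟩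
      have hk' : b ^ 2 ^ k = 1 := congrArg Subtype.val hk
      refine ⟨k, MulEquiv.ext fun x => ?_⟩
      obtain ⟨a, rfl⟩ := QuotientGroup.mk'_surjective _ x
      obtain ⟨a', h1, h2⟩ := hφpow (2 ^ k) a
      rw [hk', one_mul, inv_one, mul_one] at h2
      show (φ ^ 2 ^ k) (π a) = π a
      rw [h1, Subtype.ext h2]
    have hmove : ∀ t ∈ (Tb : Subgroup (↥L ⧸ center ↥L)), φ t * t⁻¹ ∈ Db := by
      intro t ht
      obtain ⟨a, rfl⟩ := QuotientGroup.mk'_surjective _ t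
      have haT : (a : H) ∈ T := (hTb a).1 ht
      refine ⟨e a * a⁻¹, ?_, by rw [map_mul, map_inv, hφ]⟩
      show ((e a * a⁻¹ : ↥L) : H) ∈ D
      rw [coe_mul, coe_inv, he]
      exact hbD b hb a haT
    have hfixΩ : ∀ x ∈ Ω, φ x = x := by
      intro x hx
      rcases hDbcase with h | h
      · have := hmove x hx.1
        rw [h, mem_bot, mul_inv_eq_one] at this
        exact this
      · obtain ⟨a, ha, rfl⟩ : x ∈ (Db : Set (↥L ⧸ center ↥L)) := h.symm ▸ hx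
        rw [hφ]
        refine congrArg π (Subtype.ext ?_)
        rw [he, hcB b hb _ (mem_subgroupOf.1 ha).1, mul_inv_cancel_right]
    obtain ⟨z, hz, hzφ⟩ := hgd.inner Tb φ h2pow hfixΩ fun t ht => hDbΩ _ (hmove t ht)
    obtain ⟨z, rfl⟩ := QuotientGroup.mk'_surjective _ z
    refine ⟨z, (hTb z).1 hz, CfsgLib.Tech46.mem_centralizer_of_component_mod_center hL fun k hk => ?_⟩
    set k' : ↥L := z⁻¹ * e ⟨k, hk⟩ * z * ⟨k, hk⟩⁻¹ with hk'
    have hval : (k' : H) = ⁅(z : H)⁻¹ * b, k⁆ := by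
      rw [commutatorElement_def, hk']
      simp only [coe_mul, coe_inv, he]
      group
    rw [← hval]
    refine ⟨k'.2, (hone _).1 ?_⟩
    have e1 : π (e ⟨k, hk⟩) = π z * π ⟨k, hk⟩ * (π z)⁻¹ := by
      rw [← hφ, hzφ, MulAut.conj_apply]
    rw [hk', map_mul, map_mul, map_mul, e1, map_inv, map_inv]
    group
  have hBC : B ≤ normalizer ((centralizer (L : Set H) : Subgroup H) : Set H) :=
    hBn.trans (CfsgLib.Components.normalizer_le_normalizer_centralizer L)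
  -- the projection of `B` is strongly closed
  set Kb := (((B ⊔ centralizer (L : Set H)) ⊓ (T : Subgroup H)).subgroupOf L).map π with hKb
  have hdec : ∀ z ∈ B ⊔ centralizer (L : Set H), ∃ b ∈ B, ∃ c ∈ centralizer (L : Set H), b * c = z := by
    intro z hz
    rw [← SetLike.mem_coe, coe_mul_of_left_le_normalizer_right B _ hBC] at hz
    exact hz
  have hlB' : ∀ (k : ↥L) (z : ↥L) (b : H), (z : H) ∈ T → b ∈ B →
      (z : H)⁻¹ * b ∈ centralizer (L : Set H) → ((k * z * k⁻¹ : ↥L) : H) ∈ T →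
      (k : H) * b * (k : H)⁻¹ ∈ B ∧
        (k : H) * b * (k : H)⁻¹ = ((k * z * k⁻¹ : ↥L) : H) * ((z : H)⁻¹ * b) := by
    intro k z b hzT hb hc hk
    have e1 : (k : H) * b * (k : H)⁻¹ = ((k * z * k⁻¹ : ↥L) : H) * ((z : H)⁻¹ * b) := by
      calc (k : H) * b * (k : H)⁻¹ = (k : H) * (z : H) * (((z : H)⁻¹ * b) * (k : H)⁻¹) := by group
        _ = (k : H) * (z : H) * ((k : H)⁻¹ * ((z : H)⁻¹ * b)) := by
          rw [hLC _ (inv_mem k.2) _ hc]
        _ = _ := by simp [mul_assoc]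
    exact ⟨hsc.2 _ hb _ (by rw [e1]; exact mul_mem hk (mul_mem (inv_mem hzT) (hsc.1 hb))), e1⟩
  have hKbsc : Cfsg.IsStronglyClosed Kb (Tb : Subgroup (↥L ⧸ center ↥L)) := by
    refine ⟨?_, ?_⟩
    · rintro _ ⟨a, ha, rfl⟩
      exact (hTb a).2 (mem_subgroupOf.1 ha).2
    rintro _ ⟨a, ha, rfl⟩ h hh
    obtain ⟨k, rfl⟩ := QuotientGroup.mk'_surjective _ h
    obtain ⟨b, hb, c, hc, hbc⟩ := hdec _ (mem_subgroupOf.1 ha).1
    have hh' : π (k * a * k⁻¹) ∈ (Tb : Subgroup (↥L ⧸ center ↥L)) := by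
      rw [map_mul, map_mul, map_inv]; exact hh
    have hkT := (hTb _).1 hh'
    have hcL : (a : H)⁻¹ * b ∈ centralizer (L : Set H) := by
      rw [← hbc, mul_inv_rev, inv_mul_cancel_right]; exact inv_mem hc
    obtain ⟨hkB, hkeq⟩ := hlB' k a b (mem_subgroupOf.1 ha).2 hb hcL hkT
    refine ⟨k * a * k⁻¹, mem_subgroupOf.2 ⟨?_, hkT⟩, by rw [map_mul, map_mul, map_inv]⟩
    rw [eq_mul_inv_of_mul_eq hkeq.symm]
    exact mul_mem_sup hkB (inv_mem hcL)
  have hKbc : IsMulCommutative ↥Kb := by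
    refine ⟨⟨fun x y => Subtype.ext ?_⟩⟩
    obtain ⟨a, ha, hax⟩ := x.2
    obtain ⟨d, hd, hdy⟩ := y.2
    show (x : ↥L ⧸ center ↥L) * y = y * x
    rw [← hax, ← hdy, ← map_mul, ← map_mul]
    refine mul_inv_eq_one.1 ?_
    rw [← map_inv, ← map_mul, hone]
    obtain ⟨b₁, hb₁, c₁, hc₁, he₁⟩ := hdec _ (mem_subgroupOf.1 ha).1
    obtain ⟨b₂, hb₂, c₂, hc₂, he₂⟩ := hdec _ (mem_subgroupOf.1 hd).1
    have e12 : (a : H) * (d : H) = b₁ * b₂ * (c₂ * c₁) := by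
      calc (a : H) * (d : H) = b₁ * (c₁ * (d : H)) := by rw [← he₁, mul_assoc]
        _ = b₁ * ((d : H) * c₁) := by rw [hLC _ d.2 _ hc₁]
        _ = _ := by rw [← he₂]; simp [mul_assoc]
    have e21 : (d : H) * (a : H) = b₁ * b₂ * (c₁ * c₂) := by
      calc (d : H) * (a : H) = b₂ * (c₂ * (a : H)) := by rw [← he₂, mul_assoc]
        _ = b₂ * ((a : H) * c₂) := by rw [hLC _ a.2 _ hc₂]
        _ = b₂ * b₁ * (c₁ * c₂) := by rw [← he₁]; simp [mul_assoc]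
        _ = _ := by rw [hcB _ hb₂ _ hb₁]
    have key : ((a * d * (d * a)⁻¹ : ↥L) : H) =
        b₁ * b₂ * (c₂ * c₁ * (c₁ * c₂)⁻¹) * (b₁ * b₂)⁻¹ := by
      simp only [coe_mul, coe_inv]
      rw [e12, e21]
      group
    rw [key]
    exact (mem_normalizer_iff.1 (hBC (mul_mem hb₁ hb₂)) _).1
      (mul_mem (mul_mem hc₂ hc₁) (inv_mem (mul_mem hc₁ hc₂)))
  have hKmem : ∀ (z : ↥L) (b : H), (z : H) ∈ T → b ∈ B → (z : H)⁻¹ * b ∈ centralizer (L : Set H) →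
      π z ∈ Kb := by
    intro z b hz hb hc
    refine ⟨z, mem_subgroupOf.2 ⟨?_, hz⟩, rfl⟩
    rw [show (z : H) = b * ((z : H)⁻¹ * b)⁻¹ by group]
    exact mul_mem_sup hb (inv_mem hc)
  have hKne : Kb ≠ ⊥ := by
    intro h
    refine hA.2 fun b hb => ?_
    obtain ⟨z, hz, hc⟩ := hproj b hb
    have hz1 := hKmem z b hz hb hc
    rw [h, mem_bot, hone] at hz1
    simpa using mul_mem hz1 hc
  have hKΩ : (Kb : Set (↥L ⧸ center ↥L)) = Ω := hgd.sc_eq Tb Kb hKbsc hKbc hKne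
  have hlB : ∀ b ∈ B, (l : H) * b * (l : H)⁻¹ ∈ B := by
    intro b hb
    obtain ⟨z, hz, hc⟩ := hproj b hb
    exact (hlB' l z b hz hb hc (hlT z hz)).1
  -- `B ∩ L` covers the involutions
  have hDΩ : (Db : Set (↥L ⧸ center ↥L)) = Ω := by
    refine hDbcase.resolve_left fun h => hA.2 fun b hb => ?_
    obtain ⟨z, hz, hc⟩ := hproj b hb
    have hy : ((l * z * l⁻¹ * z⁻¹ : ↥L) : H) ∈ D := by
      refine mem_inf.2 ⟨?_, (l * z * l⁻¹ * z⁻¹).2⟩
      obtain ⟨-, he⟩ := hlB' l z b hz hb hc (hlT z hz)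
      have : ((l * z * l⁻¹ * z⁻¹ : ↥L) : H) = (l : H) * b * (l : H)⁻¹ * b⁻¹ := by
        rw [he]; simp [mul_assoc]
      rw [this]
      exact mul_mem (hlB b hb) (inv_mem hb)
    have h1 : π (l * z * l⁻¹ * z⁻¹) ∈ Db := ⟨_, hy, rfl⟩
    rw [h, mem_bot, map_mul, map_mul, map_mul, map_inv, map_inv, hlπ, mul_inv_eq_one] at h1
    have h2 : π z = 1 := hfix _ (hKΩ ▸ hKmem z b hz hb hc) h1
    simpa using mul_mem ((hone z).1 h2) hc
  -- `B = (B ∩ L) C_B(L)`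
  have hsplit : ∀ b ∈ B, ∃ d : ↥L, (d : H) ∈ B ∧ π d ∈ Ω ∧ (d : H)⁻¹ * b ∈ centralizer (L : Set H) := by
    intro b hb
    obtain ⟨z, hz, hc⟩ := hproj b hb
    have hzΩ : π z ∈ Ω := hKΩ ▸ hKmem z b hz hb hc
    obtain ⟨d, hd, hdz⟩ : π z ∈ (Db : Set (↥L ⧸ center ↥L)) := hDΩ.symm ▸ hzΩ
    refine ⟨d, (mem_subgroupOf.1 hd).1, hdz.symm ▸ hzΩ, ?_⟩
    have h1 : ((d⁻¹ * z : ↥L) : H) ∈ centralizer (L : Set H) := (hone _).1 (by
      rw [map_mul, map_inv, hdz, inv_mul_cancel])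
    simpa [mul_assoc] using mul_mem h1 hc
  have hcommmem : ∀ t ∈ (T : Subgroup H) ⊓ L, ∀ b ∈ B,
      t * b * t⁻¹ * b⁻¹ ∈ centralizer (L : Set H) := by
    rintro t ⟨htT, htL⟩ b hb
    obtain ⟨d, -, hdΩ, hc⟩ := hsplit b hb
    set a : ↥L := ⟨t, htL⟩
    have h1 : ((a * d * a⁻¹ * d⁻¹ : ↥L) : H) = t * b * t⁻¹ * b⁻¹ := by
      have hcc := hLC _ (inv_mem htL) _ hc
      calc ((a * d * a⁻¹ * d⁻¹ : ↥L) : H)
          = t * (d : H) * (t⁻¹ * ((d : H)⁻¹ * b)) * b⁻¹ := by simp [a, mul_assoc]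
        _ = t * (d : H) * (((d : H)⁻¹ * b) * t⁻¹) * b⁻¹ := by rw [hcc]
        _ = _ := by group
    rw [← h1]
    refine (hone _).1 ?_
    rw [map_mul, map_mul, map_mul, map_inv, map_inv,
      ← hgd.central Tb _ hdΩ _ ((hTb a).2 htT), mul_inv_cancel_right, mul_inv_cancel]
  refine ⟨?_, hcommmem⟩
  -- the commutator map of `l` on `B ∩ L`
  have hlD : ∀ d ∈ D, (l : H) * d * (l : H)⁻¹ * d⁻¹ ∈ D := fun d hd => mem_inf.2
    ⟨mul_mem (hlB d hd.1) (inv_mem hd.1), mul_mem (mul_mem (mul_mem l.2 hd.2) (inv_mem l.2)) (inv_mem hd.2)⟩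
  let f : ↥D →* ↥D := MonoidHom.mk' (fun d => ⟨(l : H) * d * (l : H)⁻¹ * (d : H)⁻¹, hlD d d.2⟩) fun d e => by
    refine Subtype.ext ?_
    show (l : H) * ((d : H) * e) * (l : H)⁻¹ * ((d : H) * e)⁻¹ =
      (l : H) * d * (l : H)⁻¹ * (d : H)⁻¹ * ((l : H) * e * (l : H)⁻¹ * (e : H)⁻¹)
    have h1 := hcB _ (inv_mem d.2.1) _ (mul_mem (hlB e e.2.1) (inv_mem e.2.1))
    calc (l : H) * ((d : H) * e) * (l : H)⁻¹ * ((d : H) * e)⁻¹
        = (l : H) * d * (l : H)⁻¹ * (((l : H) * e * (l : H)⁻¹ * (e : H)⁻¹) * (d : H)⁻¹) := by group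
      _ = _ := by rw [← h1]; group
  set W : Subgroup H := f.range.map D.subtype with hW
  have hWmem : ∀ x : H, x ∈ W ↔ ∃ d ∈ D, (l : H) * d * (l : H)⁻¹ * d⁻¹ = x := by
    intro x
    constructor
    · rintro ⟨_, ⟨d, rfl⟩, rfl⟩
      exact ⟨d, d.2, rfl⟩
    · rintro ⟨d, hd, rfl⟩
      exact ⟨_, ⟨⟨d, hd⟩, rfl⟩, rfl⟩
  have hWD : W ≤ D := map_subtype_le _
  have hWB : W ≤ B := hWD.trans inf_le_left
  have hWfix : ∀ x ∈ W, (l : H) * x * (l : H)⁻¹ = x → x = 1 := by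
    intro x hx hxl
    obtain ⟨d, hd, hdx⟩ := (hWmem x).1 hx
    have hpow : ∀ n : ℕ, (l : H) ^ n * d * ((l : H) ^ n)⁻¹ = x ^ n * d := by
      intro n
      induction n with
      | zero => simp
      | succ n ih =>
        have hxn : (l : H) * x ^ n * (l : H)⁻¹ = x ^ n := by rw [← conj_pow, hxl]
        calc (l : H) ^ (n + 1) * d * ((l : H) ^ (n + 1))⁻¹
            = (l : H) * ((l : H) ^ n * d * ((l : H) ^ n)⁻¹) * (l : H)⁻¹ := by rw [pow_succ']; group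
          _ = ((l : H) * x ^ n * (l : H)⁻¹) * ((l : H) * d * (l : H)⁻¹ * d⁻¹) * d := by rw [ih]; group
          _ = x ^ (n + 1) * d := by rw [hxn, hdx, pow_succ]
    have h1 := hpow (orderOf (l : H))
    rw [pow_orderOf_eq_one, one_mul, inv_one, mul_one, eq_comm, mul_eq_right] at h1
    obtain ⟨k, hk⟩ := T.2 ⟨x, hsc.1 (hWB hx)⟩
    have hk' : x ^ 2 ^ k = 1 := congrArg Subtype.val hk
    exact orderOf_eq_one_iff.1 (Nat.eq_one_of_dvd_coprimes ((Nat.coprime_two_left.2 hlodd).pow_left k)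
      (orderOf_dvd_of_pow_eq_one hk') (orderOf_dvd_of_pow_eq_one h1))
  have hWinj : W ⊓ centralizer (L : Set H) = ⊥ := by
    refine eq_bot_iff.2 fun x hx => mem_bot.2 (hWfix x hx.1 ?_)
    rw [hLC _ l.2 _ hx.2, mul_inv_cancel_right]
  -- `W` maps onto the involutions
  have hWsurj : ∀ x ∈ Ω, ∃ w : ↥L, (w : H) ∈ W ∧ π w = x := by
    have hgDb : ∀ y ∈ Db, g * y * g⁻¹ * y⁻¹ ∈ Db := by
      intro y hy
      refine mul_mem (hDbsc.2 y hy g ?_) (inv_mem hy)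
      exact (mem_normalizer_iff.1 hg y).1 (hDbT hy)
    let F : ↥Db → ↥Db := fun y => ⟨g * y * g⁻¹ * (y : ↥L ⧸ center ↥L)⁻¹, hgDb y y.2⟩
    have hinj : Function.Injective F := by
      intro y₁ y₂ h
      have h' : g * (y₁ : ↥L ⧸ center ↥L) * g⁻¹ * (y₁ : ↥L ⧸ center ↥L)⁻¹ =
          g * (y₂ : ↥L ⧸ center ↥L) * g⁻¹ * (y₂ : ↥L ⧸ center ↥L)⁻¹ := congrArg Subtype.val h
      have hc : (y₂ : ↥L ⧸ center ↥L)⁻¹ * y₁ = y₁ * (y₂ : ↥L ⧸ center ↥L)⁻¹ :=
        congrArg Subtype.val (hDbc.is_comm.comm y₂⁻¹ y₁)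
      have hu := hfix _ (hDbΩ _ (mul_mem (inv_mem y₂.2) y₁.2)) ?_
      · exact Subtype.ext (inv_mul_eq_one.1 hu).symm
      · calc g * ((y₂ : ↥L ⧸ center ↥L)⁻¹ * y₁) * g⁻¹
            = (g * (y₂ : ↥L ⧸ center ↥L) * g⁻¹)⁻¹ *
              ((g * (y₁ : ↥L ⧸ center ↥L) * g⁻¹ * (y₁ : ↥L ⧸ center ↥L)⁻¹) * y₁) := by group
          _ = (y₂ : ↥L ⧸ center ↥L)⁻¹ * y₁ := by rw [h']; group
    intro x hx
    obtain ⟨y, hy⟩ := Finite.surjective_of_injective hinj ⟨x, (Set.ext_iff.1 hDΩ x).2 hx⟩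
    obtain ⟨a, ha, hay⟩ := y.2
    have hy' : g * (y : ↥L ⧸ center ↥L) * g⁻¹ * (y : ↥L ⧸ center ↥L)⁻¹ = x := congrArg Subtype.val hy
    refine ⟨l * a * l⁻¹ * a⁻¹, (hWmem _).2 ⟨a, mem_subgroupOf.1 ha, by simp⟩, ?_⟩
    rw [map_mul, map_mul, map_mul, map_inv, map_inv, hlπ, hay, hy']
  have hWπinj : ∀ v w : ↥L, (v : H) ∈ W → (w : H) ∈ W → π v = π w → v = w := by
    intro v w hv hw h
    have h1 : ((v * w⁻¹ : ↥L) : H) ∈ W ⊓ centralizer (L : Set H) :=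
      ⟨by simpa using mul_mem hv (inv_mem hw), (hone _).1 (by rw [map_mul, map_inv, h, mul_inv_cancel])⟩
    rw [hWinj, mem_bot] at h1
    exact mul_inv_eq_one.1 (Subtype.ext h1)
  have hWΩ : ∀ w : ↥L, (w : H) ∈ W → π w ∈ Ω := fun w hw => hDbΩ _ ⟨w, mem_subgroupOf.2 (hWD hw), rfl⟩
  have hlW : ∀ x ∈ W, (l : H) * x * (l : H)⁻¹ ∈ W := by
    intro x hx
    obtain ⟨d, hd, rfl⟩ := (hWmem x).1 hx
    refine (hWmem _).2 ⟨(l : H) * d * (l : H)⁻¹, mem_inf.2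
      ⟨hlB d hd.1, mul_mem (mul_mem l.2 hd.2) (inv_mem l.2)⟩, ?_⟩
    group
  have hsplitW : ∀ b ∈ B, ∃ w ∈ W, b * w ∈ centralizer (L : Set H) := by
    intro b hb
    obtain ⟨d, -, hdΩ, hc⟩ := hsplit b hb
    obtain ⟨w, hw, hwd⟩ := hWsurj _ hdΩ
    refine ⟨(w : H)⁻¹, inv_mem hw, ?_⟩
    have hdw : ((d * w⁻¹ : ↥L) : H) ∈ centralizer (L : Set H) := (hone _).1 (by
      rw [map_mul, map_inv, hwd, mul_inv_cancel])
    have he : b * (w : H)⁻¹ = ((d * w⁻¹ : ↥L) : H) * ((d : H)⁻¹ * b) := by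
      have hcc := hLC _ (d * w⁻¹ : ↥L).2 _ hc
      calc b * (w : H)⁻¹ = (d : H) * (((d : H)⁻¹ * b) * (w : H)⁻¹) := by group
        _ = (d : H) * ((w : H)⁻¹ * ((d : H)⁻¹ * b)) := by rw [hLC _ (inv_mem w.2) _ hc]
        _ = _ := by simp [mul_assoc]
    rw [he]
    exact mul_mem hdw hc
  refine ⟨W, (l : H), l.2, hlodd,
    ⟨CfsgLib.Coprime.mem_normalizer_of_forall_conj hlB, hWB, ?_, ?_, ?_⟩,
    fun x hx => (hWD hx).2, hWinj, hsplitW, ?_⟩
  · -- four_le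
    refine h4.trans ?_
    rw [← Nat.card_coe_set_eq]
    refine Nat.card_le_card_of_surjective
      (fun w : ↥W => (⟨π ⟨w, (hWD w.2).2⟩, hWΩ _ w.2⟩ : ↥Ω)) fun x => ?_
    obtain ⟨w, hw, hwx⟩ := hWsurj x.1 x.2
    exact ⟨⟨w, hw⟩, Subtype.ext hwx⟩
  · -- move
    intro b hb
    obtain ⟨d, hdB, -, hc⟩ := hsplit b hb
    refine (hWmem _).2 ⟨d, mem_inf.2 ⟨hdB, d.2⟩, ?_⟩
    calc (l : H) * (d : H) * (l : H)⁻¹ * (d : H)⁻¹
        = (l : H) * (d : H) * ((l : H)⁻¹ * ((d : H)⁻¹ * b)) * b⁻¹ := by group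
      _ = (l : H) * (d : H) * (((d : H)⁻¹ * b) * (l : H)⁻¹) * b⁻¹ := by
        rw [hLC _ (inv_mem l.2) _ hc]
      _ = _ := by group
  · -- transitivity
    intro x hx hx1 y hy hy1
    have hne : ∀ (z : H) (hz : z ∈ W), z ≠ 1 → π ⟨z, (hWD hz).2⟩ ≠ 1 := fun z hz hz1 h => hz1
      (congrArg Subtype.val (hWπinj ⟨z, (hWD hz).2⟩ 1 hz (one_mem W) (by rw [h, map_one])))
    obtain ⟨i, hi⟩ := htrans _ (hWΩ ⟨x, (hWD hx).2⟩ hx) (hne x hx hx1) _ (hWΩ ⟨y, (hWD hy).2⟩ hy)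
      (hne y hy hy1)
    refine ⟨i, ?_⟩
    have hiW : ∀ n : ℕ, (l : H) ^ n * x * ((l : H) ^ n)⁻¹ ∈ W := by
      intro n
      induction n with
      | zero => simpa using hx
      | succ n ih =>
        rw [show (l : H) ^ (n + 1) * x * ((l : H) ^ (n + 1))⁻¹ =
          (l : H) * ((l : H) ^ n * x * ((l : H) ^ n)⁻¹) * (l : H)⁻¹ by rw [pow_succ']; group]
        exact hlW _ ih
    have h := hWπinj (l ^ i * ⟨x, (hWD hx).2⟩ * (l ^ i)⁻¹) ⟨y, (hWD hy).2⟩ (by simpa using hiW i) hy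
      (by rw [map_mul, map_mul, map_inv, map_pow, hlπ, hi])
    simpa using congrArg Subtype.val h
  · -- fixed points centralise
    intro b hb hbl
    obtain ⟨d, hdB, hdΩ, hc⟩ := hsplit b hb
    have hd1 : π d = 1 := by
      refine hfix _ hdΩ ?_
      rw [← hlπ, ← map_inv, ← map_mul, ← map_mul]
      refine congrArg π (Subtype.ext ?_)
      calc ((l * d * l⁻¹ : ↥L) : H)
          = (l : H) * b * ((l : H) * ((d : H)⁻¹ * b))⁻¹ := by simp [mul_assoc]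
        _ = (l : H) * b * (l : H)⁻¹ * b⁻¹ * (d : H) := by rw [hLC _ l.2 _ hc]; group
        _ = (d : H) := by rw [hbl, mul_inv_cancel, one_mul]
    simpa using mul_mem ((hone d).1 hd1) hc

/-- Piece A: the local facts about an abelian strongly closed subgroup and the components. -/
theorem localFacts (hO : Cfsg.pPrimeCore 2 H = ⊥) (T : Sylow 2 H)
    (hB : IsMulCommutative ↥B) (hsc : Cfsg.IsStronglyClosed B (T : Subgroup H))
    (hgood : GoodComps B) : LocalFacts (T : Subgroup H) B where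
  le_normalizer _ hL := localSplit_le_normalizer hO T hB hsc hgood hL
  exists_cycle _ hA := (localSplit_component hO T hB hsc hgood hA).1
  comm_mem _ hA := (localSplit_component hO T hB hsc hgood hA).2

end CfsgLib.Goldschmidt
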