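import Cfsg.Agent.Lib.Goldschmidt.Defs
import Cfsg.Agent.Lib.Signalizer74.Main
import Cfsg.Agent.Lib.SignalizerConn42
import Cfsg.Agent.Lib.Tech46.BalanceLocal
import Cfsg.Agent.Lib.PF.OddOrder
import Cfsg.Agent.S1174

/-!
# Goldschmidt's theorem: no component is seen by `A`

If the image of `A` is normal in `C(u)/O(C(u))` for all `u ∈ A#`, then `u ↦ O(C(u))` is balanced on `A`,
so its completion `W` gives a proper subgroup containing all the `C(u)`, hence a strongly embedded one.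
The balance and Frattini lemmas only use that the image of `A` is normal in one reduced centralizer.
-/

set_option autoImplicit false
set_option linter.unusedSectionVars false
set_option linter.style.haveILetI false

namespace CfsgLib.Goldschmidt

open Subgroup CfsgLib.Walter.RankFour

universe u

variable {G : Type u} [Group G] [Finite G]

local instance : Fact (Nat.Prime 2) := ⟨Nat.prime_two⟩

omit [Finite G] in
theorem le_cen_of_mem {A : Subgroup G} (hA : Cfsg.IsElementaryAbelian 2 A) {u : G} (hu : u ∈ A) :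
    A ≤ cen u := fun s hs => by
  haveI := hA.1
  exact mem_centralizer_singleton_iff.2 (congrArg Subtype.val (mul_comm' (⟨s, hs⟩ : A) ⟨u, hu⟩))

/-- If the image of `A` is normal in `C(u)/O(C(u))`, then `C(u) = O(C(u)) N_{C(u)}(A)`. -/
theorem exists_core_mul_normalizer {A : Subgroup G} (hA : Cfsg.IsElementaryAbelian 2 A) {u : G}
    (hAu : A ≤ cen u) (hnorm : (img u A).Normal) {c : G} (hc : c ∈ cen u) :
    ∃ o ∈ Cfsg.centralizerPPrimeCore 2 u, ∃ n ∈ normalizer (A : Set G), n ∈ cen u ∧ o * n = c := by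
  haveI := hnorm
  set O := Cfsg.pPrimeCore 2 ↥(cen u)
  set A' := A.subgroupOf (cen u)
  set N := (img u A).comap (bar u)
  have hA'N : A' ≤ N := le_comap_map (bar u) A'
  have hcardA : Nat.card A' = Nat.card A := Nat.card_congr (subgroupOfEquivOfLe hAu).toEquiv
  have hcardN : Nat.card N = Nat.card O * Nat.card A' := by
    rw [hcardA, ← (CfsgLib.Tech46.exists_image_elementary (p := 2) hA hAu).2.1]
    exact CfsgLib.PCore.card_comap_mk' O (img u A)
  have hindex : (A'.subgroupOf N).index = Nat.card O := by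
    have h := Subgroup.card_mul_index (A'.subgroupOf N)
    rw [Nat.card_congr (subgroupOfEquivOfLe hA'N).toEquiv, hcardN, mul_comm (Nat.card O)] at h
    exact Nat.eq_of_mul_eq_mul_left Nat.card_pos h
  have hp : IsPGroup 2 ↥(A'.subgroupOf N) := fun x => ⟨1, by
    ext
    simpa using hA.2 _ (mem_subgroupOf.1 (mem_subgroupOf.1 x.2))⟩
  have hodd : ¬ 2 ∣ (A'.subgroupOf N).index := hindex ▸ CfsgLib.PCore.not_dvd_card_pPrimeCore
  have hF := Sylow.normalizer_sup_eq_top (hp.toSylow hodd)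
  change normalizer ((A'.subgroupOf N).map N.subtype : Set ↥(cen u)) ⊔ N = ⊤ at hF
  rw [map_subgroupOf_eq_of_le hA'N] at hF
  have hN : N ≤ O ⊔ A' := by
    show ((A'.map (bar u)).comap (bar u)) ≤ _
    rw [comap_map_eq, QuotientGroup.ker_mk', sup_comm]
  have htop : O ⊔ normalizer (A' : Set ↥(cen u)) = ⊤ :=
    top_le_iff.1 (hF ▸ sup_le le_sup_right (hN.trans (sup_le_sup_left le_normalizer _)))
  haveI : O.Normal := Cfsg.pPrimeCore_normal 2 _
  obtain ⟨o, ho, n, hn, hon⟩ := mem_sup_of_normal_left.1 (htop ▸ mem_top (⟨c, hc⟩ : ↥(cen u)))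
  refine ⟨o, ⟨o, ho, rfl⟩, n, ?_, n.2, congrArg Subtype.val hon⟩
  refine CfsgLib.Coprime.mem_normalizer_of_forall_conj fun x hx => ?_
  exact mem_subgroupOf.1 ((mem_normalizer_iff.1 hn ⟨x, hAu hx⟩).1 (mem_subgroupOf.2 hx))

/-- Balance at `b`: if the image of `A` is normal in `C(b)/O(C(b))`, then `O(C(a)) ∩ C(b) ≤ O(C(b))`. -/
theorem core_inf_le_core {A : Subgroup G} (hA : Cfsg.IsElementaryAbelian 2 A) {a b : G} (ha : a ∈ A)
    (hAb : A ≤ cen b) (hnorm : (img b A).Normal) :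
    Cfsg.centralizerPPrimeCore 2 a ⊓ centralizer ({b} : Set G) ≤ Cfsg.centralizerPPrimeCore 2 b := by
  haveI := hnorm
  haveI := hA.1
  set X := Cfsg.centralizerPPrimeCore 2 a ⊓ centralizer ({b} : Set G)
  set Xb := (X.subgroupOf (cen b)).map (bar b)
  set B := img b A
  have hXodd : (Nat.card Xb).Coprime 2 := by
    refine (CfsgLib.Tech46.centralizerPPrimeCore_coprime (p := 2) a).coprime_dvd_left ?_
    refine (card_map_dvd (X.subgroupOf (cen b)) (bar b)).trans ?_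
    rw [Nat.card_congr (subgroupOfEquivOfLe (inf_le_right : X ≤ cen b)).toEquiv]
    exact card_dvd_of_le inf_le_left
  have hBp : IsPGroup 2 B := fun x => ⟨1, Subtype.ext (by
    simpa using (CfsgLib.Tech46.exists_image_elementary (p := 2) hA hAb).1.2 _ x.2)⟩
  have hdisj : B ⊓ Xb = ⊥ := CfsgLib.PCore.inf_eq_bot_of_isPGroup_coprime hBp hXodd
  -- `A` normalises `X`
  have hAX : ∀ s ∈ A, ∀ x ∈ X, s * x * s⁻¹ ∈ X := by
    intro s hs x hx
    refine ⟨(mem_normalizer_iff.1 (CfsgLib.Tech46.le_normalizer_centralizerPPrimeCore a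
      (le_cen_of_mem hA ha hs)) x).1 hx.1, ?_⟩
    show s * x * s⁻¹ ∈ centralizer ({b} : Set G)
    exact mul_mem (mul_mem (hAb hs) hx.2) (inv_mem (hAb hs))
  have hXC : Xb ≤ centralizer (B : Set (CenBar b)) := by
    rintro _ ⟨x, hx, rfl⟩
    refine mem_centralizer_iff.2 ?_
    rintro _ ⟨s, hs, rfl⟩
    have h1 : bar b s * bar b x * (bar b s)⁻¹ * (bar b x)⁻¹ ∈ B ⊓ Xb := by
      have hx1 : bar b x ∈ Xb := ⟨x, hx, rfl⟩
      have hx2 : bar b s * bar b x * (bar b s)⁻¹ ∈ Xb :=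
        ⟨s * x * s⁻¹, mem_subgroupOf.2 (hAX _ hs _ hx), by simp⟩
      refine Subgroup.mem_inf.2 ⟨?_, mul_mem hx2 (inv_mem hx1)⟩
      have hs1 : bar b s ∈ B := ⟨s, hs, rfl⟩
      rw [show bar b s * bar b x * (bar b s)⁻¹ * (bar b x)⁻¹ =
        bar b s * (bar b x * (bar b s)⁻¹ * (bar b x)⁻¹) by group]
      exact mul_mem hs1 (hnorm.conj_mem _ (inv_mem hs1) _)
    rw [hdisj, mem_bot, mul_inv_eq_one, mul_inv_eq_iff_eq_mul] at h1
    exact h1
  -- `C(B)` normalises `X̄`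
  have hCX : centralizer (B : Set (CenBar b)) ≤ normalizer (Xb : Set (CenBar b)) := by
    intro h hh
    obtain ⟨c, rfl⟩ := QuotientGroup.mk'_surjective _ h
    obtain ⟨o, ho, n, hn, hnb, hon⟩ := exists_core_mul_normalizer hA hAb hnorm c.2
    have hbar : bar b c = bar b ⟨n, hnb⟩ := by
      obtain ⟨y, hy, hyo⟩ := ho
      have hyc : c = y * ⟨n, hnb⟩ := Subtype.ext (by
        rw [coe_mul, ← hon, ← hyo]; rfl)
      have hy1 : bar b y = 1 := (QuotientGroup.eq_one_iff (N := Cfsg.pPrimeCore 2 ↥(cen b)) y).2 hy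
      rw [hyc, map_mul, hy1, one_mul]
    change bar b c ∈ centralizer (B : Set (CenBar b)) at hh
    show bar b c ∈ _
    rw [hbar] at hh ⊢
    -- `n` centralises `a`
    have hna : n * a = a * n := by
      have h1 : n * a * n⁻¹ * a⁻¹ ∈ A := mul_mem ((mem_normalizer_iff.1 hn a).1 ha) (inv_mem ha)
      have h2 : bar b ⟨n * a * n⁻¹ * a⁻¹, hAb h1⟩ = 1 := by
        rw [show (⟨n * a * n⁻¹ * a⁻¹, hAb h1⟩ : ↥(cen b)) =
          ⟨n, hnb⟩ * ⟨a, hAb ha⟩ * ⟨n, hnb⟩⁻¹ * ⟨a, hAb ha⟩⁻¹ from Subtype.ext rfl]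
        simp only [map_mul, map_inv]
        rw [← mem_centralizer_iff.1 hh _ ⟨⟨a, hAb ha⟩, ha, rfl⟩, mul_inv_cancel_right, mul_inv_cancel]
      have h3 : n * a * n⁻¹ * a⁻¹ = 1 := by
        rw [← orderOf_eq_one_iff]
        refine Nat.eq_one_of_dvd_coprimes
          (Nat.Coprime.pow_left 1 ((CfsgLib.PCore.pPrimeCore_coprime (p := 2)
            (G := ↥(cen b))).symm)) (orderOf_dvd_of_pow_eq_one (by rw [pow_one]; exact hA.2 _ h1)) ?_
        have := orderOf_dvd_natCard (Cfsg.pPrimeCore 2 ↥(cen b))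
          ((QuotientGroup.eq_one_iff (N := Cfsg.pPrimeCore 2 ↥(cen b)) _).1 h2)
        simpa [orderOf_mk] using this
      exact mul_inv_eq_iff_eq_mul.1 (mul_inv_eq_one.1 h3)
    refine CfsgLib.Coprime.mem_normalizer_of_forall_conj ?_
    rintro _ ⟨x, hx, rfl⟩
    refine ⟨⟨n, hnb⟩ * x * ⟨n, hnb⟩⁻¹, mem_subgroupOf.2 ⟨?_, ?_⟩, by simp⟩
    · exact (mem_normalizer_iff.1 (CfsgLib.Tech46.le_normalizer_centralizerPPrimeCore a
        (mem_centralizer_singleton_iff.2 hna)) _).1 (mem_subgroupOf.1 hx).1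
    · exact ((⟨n, hnb⟩ * x * ⟨n, hnb⟩⁻¹ : ↥(cen b))).2
  have hCn : (centralizer (B : Set (CenBar b))).Normal := inferInstance
  have hsn : Xb.IsSubnormal :=
    IsSubnormal.step _ _ hXC hCn.isSubnormal
      ((normal_subgroupOf_iff_le_normalizer hXC).2 hCX)
  have hbot : Xb = ⊥ := by
    have h := CfsgLib.PCore.le_pPrimeCore_of_isSubnormal (p := 2) hsn hXodd
    rwa [CfsgLib.PCore.pPrimeCore_quotient_pPrimeCore, le_bot_iff] at h
  intro x hx
  have hxb : bar b ⟨x, hx.2⟩ ∈ Xb := ⟨⟨x, hx.2⟩, mem_subgroupOf.2 hx, rfl⟩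
  rw [hbot, mem_bot] at hxb
  exact ⟨⟨x, hx.2⟩, (QuotientGroup.eq_one_iff (N := Cfsg.pPrimeCore 2 ↥(cen b)) _).1 hxb, rfl⟩

/-- The odd cores of the centralizers form a solvable signalizer functor on `A`. -/
theorem isSolvableSignalizerFunctor_core {A : Subgroup G} (hA : Cfsg.IsElementaryAbelian 2 A)
    (hnorm : ∀ u ∈ A, u ≠ 1 → (img u A).Normal) :
    Cfsg.IsSolvableSignalizerFunctor 2 A (fun a => Cfsg.centralizerPPrimeCore 2 a) := by
  have hodd : ∀ a : G, ¬ 2 ∣ Nat.card ↥(Cfsg.centralizerPPrimeCore 2 a) := fun a h =>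
    Nat.Prime.not_coprime_iff_dvd.2 ⟨2, Nat.prime_two, h, dvd_refl 2⟩
      (CfsgLib.Tech46.centralizerPPrimeCore_coprime a)
  refine ⟨⟨fun a _ _ => CfsgLib.Tech46.centralizerPPrimeCore_le a, fun a _ _ => hodd a,
    fun a ha _ b hb x hx => (mem_normalizer_iff.1 (CfsgLib.Tech46.le_normalizer_centralizerPPrimeCore a
      (le_cen_of_mem hA ha hb)) x).1 hx,
    fun a ha _ b hb hb1 => core_inf_le_core hA ha (le_cen_of_mem hA hb) (hnorm b hb hb1)⟩,
    fun a _ _ => CfsgLib.PF.oddSolvable _ (Nat.odd_iff.2 (Nat.two_dvd_ne_zero.1 (hodd a)))⟩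

/-- Piece H: without components seen by `A`, the theorem holds in rank at least three. -/
theorem concl_of_no_comp [IsSimpleGroup G] (hG : ¬ IsMulCommutative G) (E : Setting G)
    (_hno : ¬ E.HasComp) (h8 : 8 ≤ Nat.card E.A)
    (hnorm : ∀ u ∈ E.A, u ≠ 1 → (img u E.A).Normal) : Concl G := by
  set θ : G → Subgroup G := fun a => Cfsg.centralizerPPrimeCore 2 a
  set W := ⨆ a : {a : G // a ∈ E.A ∧ a ≠ 1}, θ (a : G) with hW
  obtain ⟨⟨-, hWodd, -, -⟩, -⟩ :=
    CfsgLib.Signalizer74.completion E.elem (by norm_num; exact h8)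
      (isSolvableSignalizerFunctor_core E.elem hnorm)
  rw [← hW] at hWodd
  have hnoTop : ∀ N : Subgroup G, N ≠ ⊥ → normalizer (N : Set G) = ⊤ → N = ⊤ := fun N hN h =>
    ((normalizer_eq_top_iff.1 h).eq_bot_or_eq_top).resolve_left hN
  have hNA : ∀ g ∈ normalizer (E.A : Set G), g ∈ normalizer (W : Set G) := by
    intro g hg
    refine CfsgLib.Coprime.mem_normalizer_of_forall_conj fun y hy => ?_
    have hle : W.map (MulAut.conj g).toMonoidHom ≤ W := by
      rw [hW, Subgroup.map_iSup]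
      exact iSup_le fun b => (CfsgLib.SignalizerConn42.centralizerPPrimeCore_conj (p := 2) (b : G) g).trans
        (le_iSup (fun a : {a : G // a ∈ E.A ∧ a ≠ 1} => θ (a : G))
          ⟨g * b * g⁻¹, (mem_normalizer_iff.1 hg b).1 b.2.1, fun e => b.2.2 (conj_eq_one_iff.1 e)⟩)
    exact hle (mem_map_of_mem _ hy)
  obtain ⟨M, hM, hMA, hMθ⟩ : ∃ M : Subgroup G, M ≠ ⊤ ∧ normalizer (E.A : Set G) ≤ M ∧
      ∀ a ∈ E.A, a ≠ 1 → θ a ≤ M := by
    by_cases hW1 : W = ⊥
    · refine ⟨_, fun h => hG ?_, le_rfl, fun a ha ha1 => ?_⟩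
      · haveI := E.elem.1
        have hA := hnoTop E.A E.ne_bot h
        exact ⟨⟨fun x y => congrArg Subtype.val
          (mul_comm' (⟨x, hA ▸ mem_top x⟩ : E.A) ⟨y, hA ▸ mem_top y⟩)⟩⟩
      · have h1 : θ a ≤ W := le_iSup (fun b : {b : G // b ∈ E.A ∧ b ≠ 1} => θ (b : G)) ⟨a, ha, ha1⟩
        rw [hW1, le_bot_iff] at h1
        rw [h1]
        exact bot_le
    · refine ⟨normalizer (W : Set G), fun h => hWodd ?_, hNA, fun a ha ha1 =>
        (le_iSup (fun b : {b : G // b ∈ E.A ∧ b ≠ 1} => θ (b : G)) ⟨a, ha, ha1⟩).trans le_normalizer⟩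
      rw [hnoTop W hW1 h, card_top]
      obtain ⟨x, hx, hx1⟩ : ∃ x ∈ E.A, x ≠ 1 := E.A.ne_bot_iff_exists_ne_one.1 E.ne_bot |> fun ⟨x, hx⟩ =>
        ⟨(x : G), x.2, fun h => hx (Subtype.ext h)⟩
      rw [← orderOf_eq_prime (E.elem.2 x hx) hx1]
      exact orderOf_dvd_natCard x
  refine Or.inr (Cfsg.Agent.S1174.result E.S E.A E.ne_bot E.sc fun h => hM ?_)
  refine top_le_iff.1 (h.symm.le.trans (iSup_le fun t => fun c hc => ?_))
  have ht1 : (t : G) ≠ 1 := fun e => by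
    have := t.2.2
    rw [e, orderOf_one] at this
    omega
  obtain ⟨o, ho, n, hn, -, rfl⟩ := exists_core_mul_normalizer E.elem (le_cen_of_mem E.elem t.2.1)
    (hnorm _ t.2.1 ht1) hc
  exact mul_mem (hMθ _ t.2.1 ht1 ho) (hMA hn)

end CfsgLib.Goldschmidt
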