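import Cfsg.Agent.Lib.Goldschmidt.Basic
import Cfsg.Agent.Lib.Goldschmidt.CentreFree
import Cfsg.Agent.Lib.Goldschmidt.CoverAt
import Cfsg.Agent.Lib.Goldschmidt.Endgame
import Cfsg.Agent.Lib.Goldschmidt.LocalSplit
import Cfsg.Agent.Lib.Goldschmidt.NoComp
import Cfsg.Agent.Lib.Goldschmidt.Reduced
import Cfsg.Prelude.Def_LocalEven

/-!
# Goldschmidt's theorem on strongly closed abelian 2-subgroups: the induction

`Inputs` collects the theorems of the pieces, in the form the induction uses them.  From them every simple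
non-abelian group with a non-trivial abelian subgroup strongly closed in a Sylow 2-subgroup satisfies `Concl`.
-/

set_option autoImplicit false
set_option linter.unusedSectionVars false

namespace CfsgLib.Goldschmidt

open Subgroup CfsgLib.Walter.RankFour

universe u

/-- The local facts of every `u ∈ A#`. -/
def Setting.HasLocal {G : Type u} [Group G] (E : Setting G) : Prop :=
  ∀ u ∈ E.A, u ≠ 1 → ∀ T : Sylow 2 (CenBar u),
    Cfsg.IsStronglyClosed (img u E.A) (T : Subgroup (CenBar u)) →
      LocalFacts (T : Subgroup (CenBar u)) (img u E.A)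

/-- The pieces the induction needs. -/
structure Inputs : Prop where
  /-- Piece C. -/
  goodComps : ∀ {G : Type u} [Group G] [Finite G] [IsSimpleGroup G], ¬ IsMulCommutative G → Below G →
    ∀ (S : Sylow 2 G) (A : Subgroup G), Cfsg.IsElementaryAbelian 2 A →
      Cfsg.IsStronglyClosed A (S : Subgroup G) → A ≠ ⊥ →
      ∀ x : G, orderOf x = 2 → x ∈ (S : Subgroup G) → x ∈ centralizer (A : Set G) → GoodComps (img x A)
  /-- Piece I. -/
  concl_of_four : ∀ {G : Type u} [Group G] [Finite G] [IsSimpleGroup G], ¬ IsMulCommutative G → Below G →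
    ∀ E : Setting G, E.HasLocal → Nat.card E.A = 4 → Concl G
  /-- Piece K3. -/
  concl_of_eight : ∀ {G : Type u} [Group G] [Finite G] [IsSimpleGroup G], ¬ IsMulCommutative G → Below G →
    ∀ E : Setting G, E.HasLocal → Nat.card E.A = 8 → E.CentreFree → E.HasComp → Concl G
  /-- Pieces D and F. -/
  exists_blocks : ∀ {G : Type u} [Group G] [Finite G] [IsSimpleGroup G], ¬ IsMulCommutative G →
    ∀ E : Setting G, E.HasLocal → (∀ u ∈ E.A, u ≠ 1 → CenFacts E.A u) → 16 ≤ Nat.card E.A →
      E.CentreFree → E.HasComp → Nonempty (ABlocks E)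
  /-- Piece L. -/
  coverFacts : CoverFacts.{u}

section Step

variable {G : Type u} [Group G] [Finite G]

local instance : Fact (Nat.Prime 2) := ⟨Nat.prime_two⟩

/-- A non-trivial element of `A` is an involution. -/
theorem Setting.orderOf_eq_two (E : Setting G) {u : G} (hu : u ∈ E.A) (hu1 : u ≠ 1) : orderOf u = 2 :=
  orderOf_eq_prime (E.elem.2 u hu) hu1

theorem Setting.goodComps_of_mem (E : Setting G) {u : G} (hu : u ∈ E.A) (hu1 : u ≠ 1) :
    GoodComps (img u E.A) :=
  E.good u (E.orderOf_eq_two hu hu1) (E.sc.1 hu) (mem_centralizer_iff.2 fun _ ha => E.commute_A ha hu)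

/-- The local facts from the local split. -/
theorem Setting.hasLocal (E : Setting G) : E.HasLocal := fun u hu hu1 T hT =>
  localFacts (cenBar_core u) T (img_isMulCommutative E.comm_A) hT (E.goodComps_of_mem hu hu1)

/-- The facts of `C(u)/O(C(u))`. -/
theorem cenFacts_of_hasLocal (E : Setting G) (hloc : E.HasLocal) {u : G} (hu : u ∈ E.A) (hu1 : u ≠ 1) :
    CenFacts E.A u := by
  obtain ⟨P, T, -, -, hT⟩ := E.exists_local (E.le_cen hu)
  exact ⟨fun D hD h8 => delta_eq_bot (cenBar_core u) (img_isElementary E.elem)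
      (E.goodComps_of_mem hu hu1) (hloc u hu hu1 T hT) hD h8,
    layer_sup_normalizer (cenBar_core u) (img_isMulCommutative E.comm_A) hT (hloc u hu hu1 T hT)⟩

/-- The theorem for a setting, the smaller groups given. -/
theorem Inputs.concl_of_setting (I : Inputs.{u}) [IsSimpleGroup G] (hG : ¬ IsMulCommutative G)
    (hbelow : Below G) (E : Setting G) : Concl G := by
  have hloc := E.hasLocal
  have h4 := E.four_le_card hG
  obtain ⟨k, hk⟩ := IsPGroup.iff_card.1 E.isPGroup_A
  rcases eq_or_ne k 2 with rfl | hk2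
  · exact I.concl_of_four hG hbelow E hloc (by rw [hk]; norm_num)
  have hk3 : 3 ≤ k := by
    by_contra h
    interval_cases k <;> simp_all
  have h8 : 8 ≤ Nat.card E.A := by
    rw [hk]
    exact (show 8 = 2 ^ 3 by norm_num).le.trans (Nat.pow_le_pow_right two_pos hk3)
  by_cases hex : E.HasComp
  swap
  · refine concl_of_no_comp hG E hex h8 fun u hu hu1 => ?_
    obtain ⟨P, T, -, -, hT⟩ := E.exists_local (E.le_cen hu)
    exact normal_of_no_comp (cenBar_core u) (img_isMulCommutative E.comm_A) hT
      fun L hL => hex ⟨u, hu, hu1, L, hL⟩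
  have hcard : ∀ u : G, u ≠ 1 → Nat.card (CenBar u) < Nat.card G := fun u hu1 => by
    refine (Nat.card_le_card_of_surjective _ (QuotientGroup.mk'_surjective _)).trans_lt
      (CfsgLib.Components.card_lt_card_of_ne_top fun htop => ?_)
    have hz : u ∈ center G := mem_center_iff.2 fun g =>
      mem_centralizer_singleton_iff.1 (show g ∈ cen u from htop ▸ mem_top g)
    rcases (inferInstance : (center G).Normal).eq_bot_or_eq_top with hb | ht
    · rw [hb, mem_bot] at hz
      exact hu1 hz
    · exact hG (center_eq_top_iff.1 ht)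
  have hcf : E.CentreFree := centreFree E hloc fun u hu hu1 L hL hne => by
    obtain ⟨P, T, -, -, hT⟩ := E.exists_local (E.le_cen hu)
    exact coverAt_of_below I.coverFacts (cenBar_core u) T (img_isElementary E.elem) hT
      (E.goodComps_of_mem hu hu1) (hloc u hu hu1 T hT)
      (fun X _ _ _ hle hX hs => hbelow X (hle.trans_lt (hcard u hu1)) hX hs) L hL hne
  rcases eq_or_ne k 3 with rfl | hk'
  · exact I.concl_of_eight hG hbelow E hloc (by rw [hk]; norm_num) hcf hex
  have hfacts : ∀ u ∈ E.A, u ≠ 1 → CenFacts E.A u := fun u hu hu1 => cenFacts_of_hasLocal E hloc hu hu1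
  obtain ⟨B⟩ := I.exists_blocks hG E hloc hfacts (by
    rw [hk]
    exact (show 16 = 2 ^ 4 by norm_num).le.trans (Nat.pow_le_pow_right two_pos (by omega))) hcf hex
  refine concl_of_blocks hG E hcf B hfacts fun u hu hu1 => ?_
  obtain ⟨P, T, -, -, hT⟩ := E.exists_local (E.le_cen hu)
  exact ⟨_, hloc u hu hu1 T hT⟩

end Step

/-- **Goldschmidt's theorem for simple groups**, from the pieces. -/
theorem concl_of_inputs (I : Inputs.{u}) (X : Type u) [Group X] [Finite X] [IsSimpleGroup X]
    (hX : ¬ IsMulCommutative X) (h : HasSCA X) : Concl X := by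
  suffices H : ∀ (n : ℕ) (X : Type u) [Group X] [Finite X] [IsSimpleGroup X], Nat.card X = n →
      ¬ IsMulCommutative X → HasSCA X → Concl X from H _ X rfl hX h
  intro n
  induction n using Nat.strong_induction_on with
  | _ n ih =>
    intro X _ _ _ hn hX h
    have hbelow : Below X := fun Y _ _ _ hlt hY hs => ih _ (hn ▸ hlt) Y rfl hY hs
    obtain ⟨T, A, hA, hAc, hsc⟩ := h
    obtain ⟨E⟩ := exists_setting T hA hAc hsc fun A' hel hsc' hA' =>
      I.goodComps hX hbelow T A' hel hsc' hA'
    exact I.concl_of_setting hX hbelow E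

/-- The statement of S1169, from the pieces. -/
theorem sylow_comm_or_stronglyEmbedded (I : Inputs.{u}) {G : Type u} [Group G] [Finite G] [IsSimpleGroup G]
    (S : Sylow 2 G) (A : Subgroup G) (hA : A ≠ ⊥) (hAcomm : IsMulCommutative ↥A)
    (hsc : Cfsg.IsStronglyClosed A (S : Subgroup G)) :
    IsMulCommutative ↥(S : Subgroup G) ∨ ∃ H : Subgroup G, Cfsg.IsStronglyEmbedded H := by
  by_cases hG : IsMulCommutative G
  · exact Or.inl ⟨⟨fun a b => Subtype.ext (hG.1.comm _ _)⟩⟩
  refine (concl_of_inputs I G hG ⟨S, A, hA, hAcomm, hsc⟩).imp_left fun ⟨T, hT⟩ => ?_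
  exact ⟨⟨fun a b => (Sylow.equiv S T).injective (by rw [map_mul, map_mul]; exact hT.1.comm _ _)⟩⟩

/-- Simple non-abelian groups with a non-trivial abelian strongly closed 2-subgroup are Goldschmidt groups. -/
def GoldschmidtSimple : Prop :=
  ∀ (G : Type u) [Group G] [Finite G] [IsSimpleGroup G], ¬ IsMulCommutative G →
    ∀ (S : Sylow 2 G) (A : Subgroup G), A ≠ ⊥ → IsMulCommutative ↥A →
      Cfsg.IsStronglyClosed A (S : Subgroup G) → Cfsg.IsGoldschmidtGroup G

/-- `GoldschmidtSimple` from the pieces and the identification. -/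
theorem goldschmidtSimple_of_inputs (I : Inputs.{u})
    (hid : ∀ (G : Type u) [Group G] [Finite G] [IsSimpleGroup G], ¬ IsMulCommutative G → Concl G →
      Cfsg.IsGoldschmidtGroup G) : GoldschmidtSimple.{u} := fun G _ _ _ hG S A hA hAc hsc =>
  hid G hG (concl_of_inputs I G hG ⟨S, A, hA, hAc, hsc⟩)

end CfsgLib.Goldschmidt
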