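import Cfsg.Agent.Lib.Goldschmidt.Blocks
import Cfsg.Agent.Lib.Goldschmidt.BigUse
import Cfsg.Agent.Lib.Goldschmidt.Main

/-!
# Goldschmidt: the blocks exist when `|A| ≥ 16`

The field `Inputs.exists_blocks` of the induction, from the blocks and the lemma that pieces are small.
-/

set_option autoImplicit false

namespace CfsgLib.Goldschmidt

open Subgroup CfsgLib.Walter.RankFour

universe u

variable {G : Type u} [Group G] [Finite G]

local instance : Fact (Nat.Prime 2) := ⟨Nat.prime_two⟩

/-- The local inputs of the blocks from the local facts. -/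
theorem aLocal_of_hasLocal (E : Setting G) (hloc : E.HasLocal) (hcf : E.CentreFree) : ALocal E where
  centreFree := hcf
  exists_facts u hu hu1 := by
    obtain ⟨P, T, -, -, hT⟩ := E.exists_local (E.le_cen hu)
    exact ⟨_, hloc u hu hu1 T hT⟩
  normal u hu hu1 := by
    obtain ⟨P, T, -, -, hT⟩ := E.exists_local (E.le_cen hu)
    exact sup_layer_normal (cenBar_core u) (img_isMulCommutative E.comm_A) hT (hloc u hu hu1 T hT)
  comp u hu hu1 W g hg hc := by
    obtain ⟨P, T, -, -, hT⟩ := E.exists_local (E.le_cen hu)
    exact exists_component_of_cycle (img_isMulCommutative E.comm_A) (hloc u hu hu1 T hT) hg hc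

/-- **The blocks.** -/
theorem exists_blocks_of_hasLocal [IsSimpleGroup G] (hG : ¬ IsMulCommutative G) (E : Setting G)
    (hloc : E.HasLocal) (h16 : 16 ≤ Nat.card E.A) (hcf : E.CentreFree) (hex : E.HasComp) :
    Nonempty (ABlocks E) :=
  exists_blocks (aLocal_of_hasLocal E hloc hcf) (E.card_piece_lt hG hloc h16 hcf) hex

end CfsgLib.Goldschmidt
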