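import Cfsg.Agent.Lib.Components.Balance

/-!
# The layer modulo its centre is the product of the components modulo their centres
-/

set_option autoImplicit false
set_option linter.unusedSectionVars false
set_option linter.unusedVariables false

namespace CfsgLib.Goldschmidt

open Subgroup
open scoped Classical

universe u v

variable {H : Type u} [Group H] [Finite H] {ι : Type v} [Fintype ι]
  (f : ι ≃ {L : Subgroup H // Cfsg.IsComponent L})

theorem layerPi_pairwise : Pairwise fun i j : ι => ∀ x y : H,
    x ∈ ((f i : Subgroup H)) → y ∈ ((f j : Subgroup H)) → Commute x y := fun i j hij x y hx hy =>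
  Components.commute_of_commutator_eq_bot (Components.commutator_components_eq_bot (f i).2 (f j).2
    fun e => hij (f.injective (Subtype.ext e))) hx hy

/-- The product map of the components. -/
noncomputable def layerPiHom : ((i : ι) → ↥((f i : Subgroup H))) →* H :=
  Subgroup.noncommPiCoprod (layerPi_pairwise f)

theorem layerPiHom_mulSingle (i : ι) (a : ↥((f i : Subgroup H))) :
    layerPiHom f (Pi.mulSingle i a) = (a : H) :=
  Subgroup.noncommPiCoprod_mulSingle (hcomm := layerPi_pairwise f) i a

theorem layerPiHom_range : (layerPiHom f).range = Cfsg.layer H := by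
  rw [layerPiHom, Subgroup.noncommPiCoprod_range]
  refine le_antisymm (iSup_le fun i => Components.component_le_layer (f i).2) (sSup_le fun L hL => ?_)
  refine le_iSup_of_le (f.symm ⟨L, hL⟩) ?_
  rw [Equiv.apply_symm_apply]

theorem layerPiHom_conj (l : (i : ι) → ↥((f i : Subgroup H))) (i : ι) (a : ↥((f i : Subgroup H))) :
    layerPiHom f l * a * (layerPiHom f l)⁻¹ = ((l i * a * (l i)⁻¹ : ↥((f i : Subgroup H))) : H) := by
  have e : l * Pi.mulSingle i a * l⁻¹ = Pi.mulSingle i (l i * a * (l i)⁻¹) := by
    funext j
    by_cases h : j = i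
    · subst h; simp
    · simp [h]
  rw [← layerPiHom_mulSingle f i a, ← map_inv, ← map_mul, ← map_mul, e, layerPiHom_mulSingle]

theorem layerPiHom_mem_center_iff (l : (i : ι) → ↥((f i : Subgroup H))) :
    layerPiHom f l ∈ centralizer (Cfsg.layer H : Set H) ↔
      ∀ i, l i ∈ center ↥((f i : Subgroup H)) := by
  constructor
  · intro h i
    rw [mem_center_iff]
    intro a
    have ha := mem_centralizer_iff.1 h a (Components.component_le_layer (f i).2 a.2)
    have := layerPiHom_conj f l i a
    rw [← ha, mul_inv_cancel_right] at this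
    have e : a = l i * a * (l i)⁻¹ := Subtype.ext this
    calc a * l i = l i * a * (l i)⁻¹ * l i := by rw [← e]
      _ = l i * a := by group
  · intro h
    have hle : Cfsg.layer H ≤ centralizer ({layerPiHom f l} : Set H) := by
      refine sSup_le fun L hL a ha => mem_centralizer_singleton_iff.2 ?_
      obtain ⟨i, hi⟩ := f.surjective ⟨L, hL⟩
      have hi' : (f i : Subgroup H) = L := congrArg Subtype.val hi
      have hai : a ∈ (f i : Subgroup H) := hi' ▸ ha
      have := layerPiHom_conj f l i ⟨a, hai⟩
      rw [← (mem_center_iff.1 (h i) ⟨a, hai⟩), mul_inv_cancel_right] at this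
      calc a * layerPiHom f l = layerPiHom f l * a * (layerPiHom f l)⁻¹ * layerPiHom f l := by
            rw [this]
        _ = layerPiHom f l * a := by group
    exact mem_centralizer_iff.2 fun a ha => mem_centralizer_singleton_iff.1 (hle ha)

/-- The product map into the layer. -/
noncomputable def layerPiToLayer : ((i : ι) → ↥((f i : Subgroup H))) →* ↥(Cfsg.layer H) :=
  (layerPiHom f).codRestrict (Cfsg.layer H) fun l => layerPiHom_range f ▸ ⟨l, rfl⟩

theorem layerPiToLayer_surjective : Function.Surjective (layerPiToLayer f) := fun x => by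
  have hx : (x : H) ∈ (layerPiHom f).range := by rw [layerPiHom_range]; exact x.2
  obtain ⟨l, hl⟩ := hx
  exact ⟨l, Subtype.ext hl⟩

/-- The product of the quotient maps. -/
noncomputable def layerPiQuot : ((i : ι) → ↥((f i : Subgroup H))) →*
    ((i : ι) → ↥((f i : Subgroup H)) ⧸ center ↥((f i : Subgroup H))) where
  toFun l i := QuotientGroup.mk' _ (l i)
  map_one' := funext fun i => map_one _
  map_mul' _ _ := funext fun i => map_mul _ _ _

theorem layerPi_ker :
    ((QuotientGroup.mk' (center ↥(Cfsg.layer H))).comp (layerPiToLayer f)).ker =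
      (layerPiQuot f).ker := by
  ext l
  rw [MonoidHom.mem_ker, MonoidHom.mem_ker]
  show QuotientGroup.mk' _ (layerPiToLayer f l) = 1 ↔ _
  rw [QuotientGroup.mk'_apply, QuotientGroup.eq_one_iff]
  constructor
  · intro h
    refine funext fun i => (QuotientGroup.eq_one_iff _).2 ?_
    refine (layerPiHom_mem_center_iff f l).1 (mem_centralizer_iff.2 fun a ha => ?_) i
    exact congrArg Subtype.val (mem_center_iff.1 h ⟨a, ha⟩)
  · intro h
    refine mem_center_iff.2 fun a => Subtype.ext ?_
    have hc := (layerPiHom_mem_center_iff f l).2 fun i =>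
      (QuotientGroup.eq_one_iff _).1 (congrFun h i)
    exact mem_centralizer_iff.1 hc a a.2

/-- The layer modulo its centre. -/
noncomputable def layerPiEquiv :
    ↥(Cfsg.layer H) ⧸ center ↥(Cfsg.layer H) ≃*
      ((i : ι) → ↥((f i : Subgroup H)) ⧸ center ↥((f i : Subgroup H))) :=
  ((QuotientGroup.quotientKerEquivOfSurjective
      ((QuotientGroup.mk' (center ↥(Cfsg.layer H))).comp (layerPiToLayer f))
      ((QuotientGroup.mk'_surjective _).comp (layerPiToLayer_surjective f))).symm.trans
    (QuotientGroup.quotientMulEquivOfEq (layerPi_ker f))).trans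
    (QuotientGroup.quotientKerEquivOfSurjective (layerPiQuot f) fun q =>
      ⟨fun i => Quotient.out (q i), funext fun i => QuotientGroup.out_eq' _⟩)

theorem layerPiEquiv_apply (l : (i : ι) → ↥((f i : Subgroup H))) :
    layerPiEquiv f (QuotientGroup.mk' _ (layerPiToLayer f l)) = layerPiQuot f l := by
  have e : QuotientGroup.mk' (center ↥(Cfsg.layer H)) (layerPiToLayer f l) =
      (QuotientGroup.quotientKerEquivOfSurjective
        ((QuotientGroup.mk' (center ↥(Cfsg.layer H))).comp (layerPiToLayer f))
        ((QuotientGroup.mk'_surjective _).comp (layerPiToLayer_surjective f))) (QuotientGroup.mk l) := rfl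
  rw [e, layerPiEquiv, MulEquiv.trans_apply, MulEquiv.trans_apply, MulEquiv.symm_apply_apply]
  rfl

/-- The projection of the layer onto one component modulo its centre. -/
noncomputable def layerProj (i : ι) :
    ↥(Cfsg.layer H) →* ↥((f i : Subgroup H)) ⧸ center ↥((f i : Subgroup H)) :=
  ((Pi.evalMonoidHom _ i).comp (layerPiEquiv f).toMonoidHom).comp (QuotientGroup.mk' _)

theorem layerProj_apply (i : ι) (l : (j : ι) → ↥((f j : Subgroup H))) :
    layerProj f i (layerPiToLayer f l) = QuotientGroup.mk' _ (l i) :=
  congrFun (layerPiEquiv_apply f l) i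

theorem layerProj_component (i : ι) (a : ↥((f i : Subgroup H))) :
    layerProj f i ⟨a, Components.component_le_layer (f i).2 a.2⟩ = QuotientGroup.mk' _ a := by
  have e : layerPiToLayer f (Pi.mulSingle i a) = ⟨a, Components.component_le_layer (f i).2 a.2⟩ :=
    Subtype.ext (layerPiHom_mulSingle f i a)
  rw [← e, layerProj_apply, Pi.mulSingle_eq_same]

end CfsgLib.Goldschmidt
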