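import Cfsg.Agent.Lib.Goldschmidt.Centralizer
import Cfsg.Agent.Lib.Goldschmidt.LayerPi
import Cfsg.Agent.Lib.Components.PComponent
import Cfsg.Agent.Lib.LocalEven.SubnormalJoin
import Cfsg.Agent.Lib.PCore.Basic
import Cfsg.Agent.S1249
import Cfsg.Agent.S1250
import Cfsg.Agent.S1251

/-!
# Component quotients inherit a strongly closed abelian subgroup

If an abelian `B` strongly closed in a Sylow 2-subgroup of a core-free `H` does not centralise a component
`L`, the projection of `B ⊓ layer H` to `L/Z(L)` is strongly closed, abelian and non-trivial.  No goodness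
of the components is used, so this starts the induction on the order.
-/

set_option autoImplicit false
set_option linter.unusedSectionVars false
set_option linter.style.haveILetI false

namespace CfsgLib.Goldschmidt

open Subgroup CfsgLib.Walter.RankFour
open scoped Classical commutatorElement

universe u

local instance : Fact (Nat.Prime 2) := ⟨Nat.prime_two⟩

section Comp

variable {H : Type u} [Group H] [Finite H]

theorem compSCA_mk_eq_one_iff {L : Subgroup H} (a : ↥L) :
    QuotientGroup.mk' (center ↥L) a = 1 ↔ (a : H) ∈ centralizer (L : Set H) := by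
  rw [QuotientGroup.mk'_apply, QuotientGroup.eq_one_iff, mem_center_iff, mem_centralizer_iff]
  exact ⟨fun h y hy => congrArg Subtype.val (h ⟨y, hy⟩), fun h y => Subtype.ext (h y y.2)⟩

/-- A component of a core-free group has a 2-element outside its centre. -/
theorem compSCA_exists_two (hO : Cfsg.pPrimeCore 2 H = ⊥) (T : Sylow 2 H) {L : Subgroup H}
    (hL : Cfsg.IsComponent L) : ∃ t ∈ (T : Subgroup H) ⊓ L, t ∉ centralizer (L : Set H) := by
  by_contra hcon
  push Not at hcon
  obtain ⟨P, hP⟩ := CfsgLib.SubJoin.exists_sylow_subnormal T hL.1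
  have hPc : (P : Subgroup ↥L) ≤ center ↥L := fun a ha => by
    rw [hP] at ha
    exact (QuotientGroup.eq_one_iff a).1 ((compSCA_mk_eq_one_iff a).2 (hcon a ⟨mem_subgroupOf.1 ha, a.2⟩))
  have hall : Components.pElemClosure 2 (⊤ : Subgroup ↥L) ≤ center ↥L := by
    refine (closure_le _).2 fun g hg => ?_
    obtain ⟨n, hn⟩ := hg.2
    have hz : IsPGroup 2 ↥(zpowers g) := by
      obtain ⟨m, -, hm⟩ := (Nat.dvd_prime_pow Nat.prime_two).1 (orderOf_dvd_of_pow_eq_one hn)
      exact IsPGroup.of_card (n := m) (by rw [Nat.card_zpowers, hm])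
    obtain ⟨Q, hQ⟩ := hz.exists_le_sylow
    obtain ⟨c, hc⟩ := MulAction.exists_smul_eq (↥L) Q P
    have h1 : c * g * c⁻¹ ∈ (P : Subgroup ↥L) := by
      rw [← hc, Sylow.coe_subgroup_smul]
      exact smul_mem_pointwise_smul g (MulAut.conj c) _ (hQ (mem_zpowers g))
    have h2 := (inferInstance : (center ↥L).Normal).conj_mem _ (hPc h1) c⁻¹
    simpa [mul_assoc] using h2
  rw [Components.pElemClosure_top_of_quasisimple hL.2 (Components.dvd_card_component hO hL)] at hall
  exact Components.component_inf_centralizer_ne hL (inf_eq_left.2 fun a ha =>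
    (compSCA_mk_eq_one_iff ⟨a, ha⟩).1 ((QuotientGroup.eq_one_iff _).2 (hall (mem_top _))))

/-- If `B` normalises `L` and meets it centrally, it centralises it. -/
theorem compSCA_centralizes (hO : Cfsg.pPrimeCore 2 H = ⊥) (T : Sylow 2 H) {B : Subgroup H}
    (hsc : Cfsg.IsStronglyClosed B (T : Subgroup H)) {L : Subgroup H} (hL : Cfsg.IsComponent L)
    (hBn : B ≤ normalizer (L : Set H)) (hmeet : B ⊓ L ≤ centralizer (L : Set H)) :
    B ≤ centralizer (L : Set H) := by
  set M : Subgroup H := normalizer (L : Set H) with hM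
  set Z : Subgroup ↥M := (L ⊓ centralizer (L : Set H)).subgroupOf M with hZ
  haveI : Z.Normal := by
    refine ⟨fun z hz m => ?_⟩
    rw [hZ, mem_subgroupOf] at hz ⊢
    have hmL : ∀ a, a ∈ L → (m : H) * a * (m : H)⁻¹ ∈ L := fun a ha =>
      (mem_normalizer_iff.1 m.2 a).1 ha
    simp only [Subgroup.coe_mul, Subgroup.coe_inv]
    refine ⟨hmL _ hz.1, mem_centralizer_iff.2 fun a ha => ?_⟩
    have hc := mem_centralizer_iff.1 hz.2 _ ((mem_normalizer_iff.1 (inv_mem m.2) a).1 ha)
    rw [inv_inv] at hc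
    calc a * ((m : H) * z * (m : H)⁻¹) = m * ((m : H)⁻¹ * a * m * z) * (m : H)⁻¹ := by group
      _ = m * (z * ((m : H)⁻¹ * a * m)) * (m : H)⁻¹ := by rw [hc]
      _ = m * z * (m : H)⁻¹ * a := by group
  -- a Sylow subgroup of the normaliser containing `B`
  have hB2 : IsPGroup 2 ↥(B.subgroupOf M) := (T.2.to_le hsc.1).comap_subtype
  obtain ⟨Q, hQ⟩ := hB2.exists_le_sylow
  obtain ⟨P, hP⟩ := (Q.2.map M.subtype).exists_le_sylow
  have hscP : Cfsg.IsStronglyClosed B (P : Subgroup H) := Cfsg.Agent.S1249.result T P B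
    (fun b hb => hP ⟨⟨b, hBn hb⟩, hQ (mem_subgroupOf.2 hb), rfl⟩) hsc
  have hscQ : Cfsg.IsStronglyClosed (B.subgroupOf M) (Q : Subgroup ↥M) := by
    refine ⟨hQ, fun b hb g hg => ?_⟩
    rw [mem_subgroupOf] at hb ⊢
    simp only [Subgroup.coe_mul, Subgroup.coe_inv]
    refine hscP.2 b hb g ?_
    have := hP ⟨_, hg, rfl⟩
    simpa using this
  set q := QuotientGroup.mk' Z with hq
  set Lb := (L.subgroupOf M).map q with hLb
  have hBb := Cfsg.Agent.S1250.result Q (B.subgroupOf M) hscQ Z
  let Qb : Sylow 2 (↥M ⧸ Z) := Q.mapSurjective (QuotientGroup.mk'_surjective Z)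
  have hLM : L ≤ M := le_normalizer
  have hnormLb : (B.subgroupOf M).map q ≤ normalizer (Lb : Set (↥M ⧸ Z)) := by
    haveI : (L.subgroupOf M).Normal := (normal_subgroupOf_iff_le_normalizer hLM).2 le_rfl
    haveI : Lb.Normal := (inferInstance : (L.subgroupOf M).Normal).map q (QuotientGroup.mk'_surjective _)
    rw [normalizer_eq_top]
    exact le_top
  have hdisj : (B.subgroupOf M).map q ⊓ Lb = ⊥ := by
    refine (eq_bot_iff_forall _).2 ?_
    rintro _ ⟨⟨b, hb, rfl⟩, ⟨a, ha, hab⟩⟩
    rw [SetLike.mem_coe, mem_subgroupOf] at ha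
    have hz : a⁻¹ * b ∈ Z := (QuotientGroup.eq).1 hab
    rw [hZ, mem_subgroupOf] at hz
    have hbL : (b : H) ∈ L := by
      have := mul_mem ha hz.1
      simpa using this
    exact (QuotientGroup.eq_one_iff b).2 (mem_subgroupOf.2 ⟨hbL, hmeet ⟨mem_subgroupOf.1 hb, hbL⟩⟩)
  have hodd : Cfsg.oddCore ↥Lb = ⊥ := by
    set r : ↥L →* ↥Lb := (q.comp (inclusion hLM)).codRestrict Lb fun a =>
      ⟨inclusion hLM a, mem_subgroupOf.2 a.2, rfl⟩ with hr
    have hrs : Function.Surjective r := by
      rintro ⟨_, a, ha, rfl⟩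
      exact ⟨⟨a, mem_subgroupOf.1 ha⟩, Subtype.ext rfl⟩
    have hker : ∀ a : ↥L, r a = 1 ↔ (a : H) ∈ centralizer (L : Set H) := fun a => by
      rw [hr, Subtype.ext_iff]
      show q (inclusion hLM a) = 1 ↔ _
      rw [hq, QuotientGroup.mk'_apply, QuotientGroup.eq_one_iff, hZ, mem_subgroupOf]
      exact ⟨fun h => h.2, fun h => ⟨a.2, h⟩⟩
    haveI : (Cfsg.oddCore ↥Lb).Normal := Cfsg.pPrimeCore_normal 2 _
    rcases Components.quasisimple_normal_eq_top_or_le_center hL.2 ((Cfsg.oddCore ↥Lb).comap r) with h | h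
    · obtain ⟨t, ht, htc⟩ := compSCA_exists_two hO T hL
      refine absurd ((hker ⟨t, ht.2⟩).1 ?_) htc
      have hmem : r ⟨t, ht.2⟩ ∈ Cfsg.oddCore ↥Lb := (h ▸ mem_top _ : (⟨t, ht.2⟩ : ↥L) ∈ (Cfsg.oddCore ↥Lb).comap r)
      obtain ⟨k, hk⟩ := T.2 ⟨t, ht.1⟩
      have h2 : orderOf (r ⟨t, ht.2⟩) ∣ 2 ^ k := orderOf_dvd_of_pow_eq_one (by
        rw [← map_pow, show (⟨t, ht.2⟩ : ↥L) ^ 2 ^ k = 1 from
          Subtype.ext (congrArg Subtype.val hk :), map_one])
      have h3 : orderOf (⟨_, hmem⟩ : Cfsg.oddCore ↥Lb) ∣ Nat.card (Cfsg.oddCore ↥Lb) :=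
        orderOf_dvd_natCard _
      rw [Subgroup.orderOf_mk] at h3
      exact orderOf_eq_one_iff.1 (Nat.eq_one_of_dvd_coprimes
        (CfsgLib.PCore.pPrimeCore_coprime.pow_right k) h3 h2)
    · refine (eq_bot_iff_forall _).2 fun y hy => ?_
      obtain ⟨a, rfl⟩ := hrs y
      refine (hker a).2 ?_
      exact mem_centralizer_iff.2 fun b hb =>
        congrArg Subtype.val (mem_center_iff.1 (h hy) ⟨b, hb⟩)
  have hc := Cfsg.Agent.S1251.result Qb ((B.subgroupOf M).map q)
    (by rw [Sylow.coe_mapSurjective]; exact hBb) Lb hnormLb hodd hdisj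
  -- three subgroups
  have h1 : ⁅L, B⁆ ≤ L ⊓ centralizer (L : Set H) := by
    rw [commutator_le]
    intro a ha b hb
    have hcm := mem_centralizer_iff.1 (hc ⟨⟨b, hBn hb⟩, mem_subgroupOf.2 hb, rfl⟩) (q ⟨a, hLM ha⟩)
      ⟨_, mem_subgroupOf.2 ha, rfl⟩
    rw [← map_mul, ← map_mul] at hcm
    have := (QuotientGroup.eq).1 hcm.symm
    rw [hZ, mem_subgroupOf] at this
    simp only [Subgroup.coe_mul, Subgroup.coe_inv, mul_inv_rev] at this
    have e : ⁅a, b⁆ = (b * a) * ((a⁻¹ * b⁻¹) * (a * b)) * (b * a)⁻¹ := by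
      rw [commutatorElement_def]; group
    have hmem : b * a ∈ normalizer ((L ⊓ centralizer (L : Set H) : Subgroup H) : Set H) :=
      Components.normalizer_le_normalizer_inf_centralizer L (mul_mem (hBn hb) (hLM ha))
    rw [e]
    exact (mem_normalizer_iff.1 hmem _).1 this
  have h2 : ⁅⁅L, B⁆, L⁆ = ⊥ := commutator_eq_bot_iff_le_centralizer.2 (h1.trans inf_le_right)
  have h3 := Components.commutator_eq_bot_of_perfect (Components.component_commutator_self hL) h2
  rw [commutator_comm] at h3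
  exact commutator_eq_bot_iff_le_centralizer.1 h3

/-- The projection of `B ⊓ layer` to a moved component quotient. -/
theorem compSCA_aux (hO : Cfsg.pPrimeCore 2 H = ⊥) (T : Sylow 2 H) {B : Subgroup H}
    (hB : IsMulCommutative ↥B) (hsc : Cfsg.IsStronglyClosed B (T : Subgroup H)) {ι : Type u} [Fintype ι]
    (f : ι ≃ {K : Subgroup H // Cfsg.IsComponent K}) (i : ι) (hA : IsAComp B (f i : Subgroup H)) :
    HasSCA (↥(f i : Subgroup H) ⧸ center ↥(f i : Subgroup H)) := by
  set Tl : Subgroup ↥(Cfsg.layer H) := (T : Subgroup H).subgroupOf (Cfsg.layer H) with hTl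
  -- the coordinates of a 2-element of the layer in `T` lie in `T`
  have hsyl : ∀ j, ∃ Tb : Sylow 2 (↥(f j : Subgroup H) ⧸ center ↥(f j : Subgroup H)),
      (Tb : Subgroup (↥(f j : Subgroup H) ⧸ center ↥(f j : Subgroup H))) = Tl.map (layerProj f j) ∧
      ∀ a : ↥(f j : Subgroup H), QuotientGroup.mk' _ a ∈ Tb ↔ (a : H) ∈ T := by
    intro j
    obtain ⟨P, hP⟩ := CfsgLib.SubJoin.exists_sylow_subnormal T (f j).2.1
    let Tb := P.mapSurjective (QuotientGroup.mk'_surjective (center ↥(f j : Subgroup H)))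
    have hle : (Tb : Subgroup (↥(f j : Subgroup H) ⧸ center ↥(f j : Subgroup H))) ≤
        Tl.map (layerProj f j) := by
      rw [Sylow.coe_mapSurjective, hP]
      rintro _ ⟨a, ha, rfl⟩
      exact ⟨⟨a, Components.component_le_layer (f j).2 a.2⟩, mem_subgroupOf.2 (mem_subgroupOf.1 ha :),
        layerProj_component f j a⟩
    refine ⟨Tb, (Tb.3 ((T.2.comap_subtype (K := Cfsg.layer H)).map _) hle).symm, fun a => ?_⟩
    refine ⟨fun ha => ?_, fun ha => ?_⟩
    · change QuotientGroup.mk' _ a ∈ (Tb : Subgroup (↥(f j : Subgroup H) ⧸ center ↥(f j : Subgroup H))) at ha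
      rw [Sylow.coe_mapSurjective, hP] at ha
      obtain ⟨w, hw, hwa⟩ := ha
      have hz : ((w⁻¹ * a : ↥(f j : Subgroup H)) : H) ∈ (T : Subgroup H) :=
        (CfsgLib.Components.component_center_le_pCore hO (f j).2).trans
          (CfsgLib.PCore.pCore_le_sylow T) ⟨(w⁻¹ * a).2, (compSCA_mk_eq_one_iff _).1 (by
            rw [map_mul, map_inv, hwa, inv_mul_cancel])⟩
      have e : (a : H) = (w : H) * ((w⁻¹ * a : ↥(f j : Subgroup H)) : H) := by simp
      rw [e]
      exact mul_mem (mem_subgroupOf.1 hw) hz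
    · show QuotientGroup.mk' _ a ∈ (Tb : Subgroup (↥(f j : Subgroup H) ⧸ center ↥(f j : Subgroup H)))
      rw [Sylow.coe_mapSurjective, hP]
      exact ⟨a, mem_subgroupOf.2 ha, rfl⟩
  choose Tb hTbmap hTb using hsyl
  set C := (B.subgroupOf (Cfsg.layer H)).map (layerProj f i) with hC
  refine ⟨Tb i, C, ?_, ?_, ?_, ?_⟩
  · -- non-trivial
    intro hbot
    have hone : ∀ d, d ∈ B → ∀ h : d ∈ Cfsg.layer H, layerProj f i ⟨d, h⟩ = 1 := fun d hd h => by
      have hin : layerProj f i ⟨d, h⟩ ∈ C := ⟨_, mem_subgroupOf.2 hd, rfl⟩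
      exact mem_bot.1 (hbot ▸ hin)
    by_cases hBn : B ≤ normalizer ((f i : Subgroup H) : Set H)
    · refine hA.2 (compSCA_centralizes hO T hsc (f i).2 hBn fun d hd => ?_)
      have h1 := hone d hd.1 (Components.component_le_layer (f i).2 hd.2)
      rw [layerProj_component f i ⟨d, hd.2⟩] at h1
      exact (compSCA_mk_eq_one_iff (L := (f i : Subgroup H)) ⟨d, hd.2⟩).1 h1
    · obtain ⟨b, hb, hbn⟩ := SetLike.not_le_iff_exists.1 hBn
      obtain ⟨t, ht, htc⟩ := compSCA_exists_two hO T (f i).2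
      let j : ι := f.symm ⟨(f i : Subgroup H).map (MulAut.conj b).toMonoidHom,
        Components.isComponent_map_equiv (MulAut.conj b) (f i).2⟩
      have hfj : (f j : Subgroup H) = (f i : Subgroup H).map (MulAut.conj b).toMonoidHom :=
        congrArg Subtype.val (f.apply_symm_apply _)
      have hji : j ≠ i := fun e => hbn (mem_normalizer_iff_map_conj_eq.2 (hfj.symm.trans (by rw [e])))
      let u : ↥(f j : Subgroup H) := ⟨b * t⁻¹ * b⁻¹, hfj.symm ▸ ⟨t⁻¹, inv_mem ht.2, rfl⟩⟩
      have hd : t * (b * t⁻¹ * b⁻¹) ∈ B := by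
        rw [← mul_assoc, ← mul_assoc]
        exact mul_mem (hsc.2 b hb t (mul_mem (mul_mem ht.1 (hsc.1 hb)) (inv_mem ht.1))) (inv_mem hb)
      have h1 := hone _ hd (mul_mem (Components.component_le_layer (f i).2 ht.2)
        (Components.component_le_layer (f j).2 u.2))
      have e : (⟨t * (b * t⁻¹ * b⁻¹), mul_mem (Components.component_le_layer (f i).2 ht.2)
          (Components.component_le_layer (f j).2 u.2)⟩ : ↥(Cfsg.layer H)) =
          layerPiToLayer f (Pi.mulSingle i ⟨t, ht.2⟩ * Pi.mulSingle j u) := by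
        refine Subtype.ext ?_
        show _ = layerPiHom f _
        rw [map_mul, layerPiHom_mulSingle, layerPiHom_mulSingle]
      rw [e, layerProj_apply, Pi.mul_apply, Pi.mulSingle_eq_same, Pi.mulSingle_eq_of_ne (Ne.symm hji),
        mul_one] at h1
      exact htc ((compSCA_mk_eq_one_iff (L := (f i : Subgroup H)) ⟨t, ht.2⟩).1 h1)
  · refine ⟨⟨?_⟩⟩
    rintro ⟨_, a, ha, rfl⟩ ⟨_, c, hc, rfl⟩
    refine Subtype.ext ?_
    show layerProj f i a * layerProj f i c = layerProj f i c * layerProj f i a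
    rw [← map_mul, ← map_mul]
    exact congrArg (layerProj f i) (Subtype.ext (congrArg Subtype.val
      (hB.is_comm.comm (⟨a, mem_subgroupOf.1 ha⟩ : B) ⟨c, mem_subgroupOf.1 hc⟩) :))
  · rw [hC, hTbmap i]
    exact map_mono fun d hd => mem_subgroupOf.2 (hsc.1 (mem_subgroupOf.1 hd))
  · rintro _ ⟨d, hd, rfl⟩ y hy
    obtain ⟨ls, rfl⟩ := layerPiToLayer_surjective f d
    obtain ⟨a, rfl⟩ := QuotientGroup.mk'_surjective _ y
    set al := Pi.mulSingle (M := fun k => ↥(f k : Subgroup H)) i a with hal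
    have hcoord : ∀ k, ((al * ls * al⁻¹) k : H) ∈ T := by
      intro k
      refine (hTb k _).1 ?_
      rcases eq_or_ne k i with rfl | hk
      · rw [Pi.mul_apply, Pi.mul_apply, Pi.inv_apply, hal, Pi.mulSingle_eq_same, map_mul, map_mul,
          map_inv, ← layerProj_apply f k ls]
        exact hy
      · rw [Pi.mul_apply, Pi.mul_apply, Pi.inv_apply, hal, Pi.mulSingle_eq_of_ne hk, one_mul, inv_one,
          mul_one]
        show _ ∈ (Tb k : Subgroup (↥(f k : Subgroup H) ⧸ center ↥(f k : Subgroup H)))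
        rw [hTbmap k]
        exact ⟨_, mem_subgroupOf.2 (hsc.1 (mem_subgroupOf.1 hd)), layerProj_apply f k ls⟩
    have hmemT : layerPiHom f (al * ls * al⁻¹) ∈ (T : Subgroup H) := by
      rw [layerPiHom, Subgroup.noncommPiCoprod_apply]
      exact Subgroup.noncommProd_mem _ _ fun k _ => hcoord k
    rw [map_mul, map_mul, map_inv] at hmemT
    refine ⟨layerPiToLayer f (al * ls * al⁻¹), mem_subgroupOf.2 ?_, ?_⟩
    · show layerPiHom f _ ∈ B
      rw [map_mul, map_mul, map_inv]
      exact hsc.2 _ (mem_subgroupOf.1 hd) _ hmemT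
    · rw [layerProj_apply, Pi.mul_apply, Pi.mul_apply, Pi.inv_apply, hal, Pi.mulSingle_eq_same,
        map_mul, map_mul, map_inv, layerProj_apply]

/-- **Component quotients inherit a strongly closed abelian subgroup.** -/
theorem hasSCA_of_comp (hO : Cfsg.pPrimeCore 2 H = ⊥) (T : Sylow 2 H) {B : Subgroup H}
    (hB : IsMulCommutative ↥B) (hsc : Cfsg.IsStronglyClosed B (T : Subgroup H)) {L : Subgroup H}
    (hA : IsAComp B L) : HasSCA (↥L ⧸ center ↥L) := by
  haveI : Fintype {K : Subgroup H // Cfsg.IsComponent K} := Fintype.ofFinite _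
  exact compSCA_aux hO T hB hsc (Equiv.refl _) ⟨L, hA.1⟩ hA

end Comp

section Glue

/-- The components moved by `B` are good when the simple groups with a strongly closed abelian subgroup and
order at most that of `H` are. -/
theorem goodComps_of_agood {H : Type u} [Group H] [Finite H] (hO : Cfsg.pPrimeCore 2 H = ⊥)
    (T : Sylow 2 H) {B : Subgroup H} (hB : IsMulCommutative ↥B)
    (hsc : Cfsg.IsStronglyClosed B (T : Subgroup H))
    (h : ∀ (X : Type u) [Group X] [Finite X] [IsSimpleGroup X], Nat.card X ≤ Nat.card H →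
      ¬ IsMulCommutative X → HasSCA X → AGood X) : GoodComps B := by
  intro L hA
  haveI : IsSimpleGroup (↥L ⧸ center ↥L) := hA.1.2.2
  haveI := hA.1.2.1
  haveI : Group.IsPerfect (↥L ⧸ center ↥L) :=
    Group.IsPerfect.ofSurjective (QuotientGroup.mk'_surjective _)
  refine h _ ((Nat.card_le_card_of_surjective _ (QuotientGroup.mk'_surjective _)).trans
    (Subgroup.card_le_card_group L)) (fun hc => ?_) (hasSCA_of_comp hO T hB hsc hA)
  have h1 : commutator (↥L ⧸ center ↥L) = ⊥ := by
    rw [_root_.commutator_def]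
    exact commutator_eq_bot_iff_le_centralizer.2 fun a _ => mem_centralizer_iff.2 fun b _ =>
      hc.is_comm.comm b a
  rw [Group.IsPerfect.commutator_eq_top] at h1
  exact top_ne_bot h1

theorem card_cenBar_lt {G : Type u} [Group G] [Finite G] [IsSimpleGroup G] (hG : ¬ IsMulCommutative G)
    {x : G} (hx : x ≠ 1) : Nat.card (CenBar x) < Nat.card G := by
  refine (Nat.card_le_card_of_surjective _ (QuotientGroup.mk'_surjective _)).trans_lt
    (CfsgLib.Components.card_lt_card_of_ne_top fun htop => ?_)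
  have hz : x ∈ center G := mem_center_iff.2 fun g =>
    mem_centralizer_singleton_iff.1 (show g ∈ cen x from htop ▸ mem_top g)
  rcases (inferInstance : (center G).Normal).eq_bot_or_eq_top with hb | ht
  · rw [hb, mem_bot] at hz
    exact hx hz
  · exact hG (center_eq_top_iff.1 ht)

/-- The form used by the induction. -/
theorem goodComps_of_below_agood
    (hagood : ∀ (X : Type u) [Group X] [Finite X] [IsSimpleGroup X], ¬ IsMulCommutative X →
      HasSCA X → Concl X → AGood X)
    {G : Type u} [Group G] [Finite G] [IsSimpleGroup G] (hG : ¬ IsMulCommutative G) (hbelow : Below G)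
    (S : Sylow 2 G) (A : Subgroup G) (hA : Cfsg.IsElementaryAbelian 2 A)
    (hsc : Cfsg.IsStronglyClosed A (S : Subgroup G)) {x : G} (hx : orderOf x = 2)
    (hxS : x ∈ (S : Subgroup G)) (hxA : x ∈ centralizer (A : Set G)) : GoodComps (img x A) := by
  have hAcen : A ≤ cen x := fun a ha =>
    mem_centralizer_singleton_iff.2 (mem_centralizer_iff.1 hxA a ha)
  have hle : A ⊔ zpowers x ≤ (S : Subgroup G) := sup_le hsc.1 (zpowers_le.2 hxS)
  obtain ⟨P, T, -, -, -, hT⟩ := exists_sylow_cen (x := x) S hsc (S.2.to_le hle)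
    (sup_le hAcen (zpowers_le.2 (mem_centralizer_singleton_iff.2 rfl))) le_sup_left
  have hx1 : x ≠ 1 := fun e => by rw [e, orderOf_one] at hx; omega
  exact goodComps_of_agood (cenBar_core x) T (img_isMulCommutative hA.1) hT
    fun X _ _ _ hle hX hs => hagood X hX hs (hbelow X (hle.trans_lt (card_cenBar_lt hG hx1)) hX hs)

/-- The form used by the structural theorem. -/
theorem goodComps_of_concl
    (hagood : ∀ (X : Type u) [Group X] [Finite X] [IsSimpleGroup X], ¬ IsMulCommutative X →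
      HasSCA X → Concl X → AGood X)
    (hconcl : ∀ (X : Type u) [Group X] [Finite X] [IsSimpleGroup X], ¬ IsMulCommutative X →
      HasSCA X → Concl X)
    {H : Type u} [Group H] [Finite H] (hO : Cfsg.pPrimeCore 2 H = ⊥) (T : Sylow 2 H) {B : Subgroup H}
    (hB : IsMulCommutative ↥B) (hsc : Cfsg.IsStronglyClosed B (T : Subgroup H)) : GoodComps B :=
  goodComps_of_agood hO T hB hsc fun X _ _ _ _ hX hs => hagood X hX hs (hconcl X hX hs)

end Glue

end CfsgLib.Goldschmidt
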