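import Cfsg.Agent.Lib.Goldschmidt.Defs

/-!
# The cover facts used to make the component centres trivial

`CoverFacts` says: in a quasisimple group `L` with 2-group centre, good simple quotient and a strongly closed
abelian-looking preimage `B` of the involutions meeting the centre, the quotient behaves like `Sz(8)`.
-/

set_option autoImplicit false

namespace CfsgLib.Goldschmidt

open Subgroup

universe u

/-- A cover whose Sylow 2-subgroup `T` contains an elementary subgroup `B` meeting the centre and mapping onto
the involutions of `T̄`: the quotient has rank at least three, the centre has order at most four, `T` does not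
centralise `B`, and 2-automorphisms of the quotient fixing `T̄` fix its involutions. -/
def CoverFacts : Prop :=
  ∀ (L : Type u) [Group L] [Finite L], Cfsg.IsQuasisimple L → IsPGroup 2 ↥(Subgroup.center L) →
    (∃ (T : Sylow 2 (L ⧸ Subgroup.center L)) (C : Subgroup (L ⧸ Subgroup.center L)),
      C ≠ ⊥ ∧ IsMulCommutative ↥C ∧ Cfsg.IsStronglyClosed C (T : Subgroup (L ⧸ Subgroup.center L))) →
    (Concl (L ⧸ Subgroup.center L)) →
    ∀ (T : Sylow 2 L) (B : Subgroup L), B ≤ (T : Subgroup L) → Cfsg.IsElementaryAbelian 2 B →
      (∀ x ∈ involSet (((T : Subgroup L)).map (QuotientGroup.mk' (Subgroup.center L))),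
        ∃ b ∈ B, QuotientGroup.mk' (Subgroup.center L) b = x) →
      B ⊓ Subgroup.center L ≠ ⊥ →
      8 ≤ (involSet (((T : Subgroup L)).map (QuotientGroup.mk' (Subgroup.center L)))).ncard ∧
      Nat.card ↥(Subgroup.center L) ≤ 4 ∧
      (∃ t ∈ (T : Subgroup L), ∃ b ∈ B, t * b ≠ b * t) ∧
      ∀ φ : MulAut (L ⧸ Subgroup.center L), (∃ k : ℕ, φ ^ 2 ^ k = 1) →
        (∀ x ∈ ((T : Subgroup L)).map (QuotientGroup.mk' (Subgroup.center L)),
          φ x ∈ ((T : Subgroup L)).map (QuotientGroup.mk' (Subgroup.center L))) →
        ∀ x ∈ involSet (((T : Subgroup L)).map (QuotientGroup.mk' (Subgroup.center L))), φ x = x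

end CfsgLib.Goldschmidt
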