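import Cfsg.Agent.Lib.Goldschmidt.CoverDefs
import Cfsg.Agent.Lib.BenderQ.Bender
import Cfsg.Agent.Lib.BenderQ.RankOne
import Cfsg.Agent.Lib.SuzukiEight.Cover
import Cfsg.Agent.Lib.SuzukiGroup.Automorphisms
import Cfsg.Agent.Lib.SLTwoPresent.Target
import Cfsg.Agent.Lib.Schur.Basic
import Cfsg.Agent.S2089
import Cfsg.Agent.S2111
import Cfsg.Agent.S2126

/-!
# Covers of the good simple groups

In a quasisimple `L` with 2-group centre, a Sylow 2-subgroup `T` and an elementary `B ≤ T` mapping onto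
the involutions of `T̄` and meeting the centre: `T̄` is not abelian, so `L / Z(L)` is `Sz(8)` by Bender's
theorem and the multipliers.
-/

set_option autoImplicit false
set_option linter.unusedSectionVars false

namespace CfsgLib.Goldschmidt.Covers

open Subgroup
open scoped Pointwise
open scoped commutatorElement

universe u

/-- The Sylow 2-subgroups of a simple group are elementary when abelian. -/
def AbelianElementary : Prop :=
  ∀ (X : Type u) [Group X] [Finite X] [IsSimpleGroup X], ¬ IsMulCommutative X →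
    ∀ T : Sylow 2 X, IsMulCommutative ↥(T : Subgroup X) → ∀ x ∈ (T : Subgroup X), x ^ 2 = 1

local instance : Fact (Nat.Prime 2) := ⟨Nat.prime_two⟩

section Transfer

variable {L : Type u} [Group L]

/-- The isomorphic copy of a finite group in `Type`. -/
theorem exists_small [Finite L] : ∃ (L₀ : Type) (_ : Group L₀) (_ : Finite L₀), Nonempty (L₀ ≃* L) := by
  obtain ⟨n, ⟨e⟩⟩ := Finite.exists_equiv_fin L
  letI : Group (Fin n) := Equiv.group e.symm
  exact ⟨Fin n, inferInstance, inferInstance, ⟨Equiv.mulEquiv e.symm⟩⟩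

/-- The kernel of a stem extension is an image of the multiplier, in any universe. -/
theorem card_ker_le [Finite L] {Y : Type} [Group Y] {A : Type} [CommGroup A] [Finite A]
    (hY : Cfsg.HasSchurMultiplier Y A) (σ : L →* Y) (hσ : Cfsg.IsStemExtension σ) :
    Nat.card σ.ker ∣ Nat.card A := by
  obtain ⟨L₀, i1, i2, ⟨e⟩⟩ := exists_small (L := L)
  let σ₀ : L₀ →* Y := σ.comp e.toMonoidHom
  have hker : σ₀.ker.map e.toMonoidHom = σ.ker := by
    ext x
    refine ⟨fun ⟨y, hy, hyx⟩ => hyx ▸ hy, fun hx => ⟨e.symm x, ?_, e.apply_symm_apply x⟩⟩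
    show σ (e (e.symm x)) = 1
    rw [e.apply_symm_apply]; exact hx
  have h₀ : Cfsg.IsStemExtension σ₀ := by
    refine ⟨hσ.1.comp e.surjective, fun x hx => mem_center_iff.2 fun y => e.injective ?_, fun x hx => ?_⟩
    · rw [map_mul, map_mul, mem_center_iff.1 (hσ.2.1 (show e x ∈ σ.ker from hx)) (e y)]
    · have h1 : e x ∈ (commutator L₀).map e.toMonoidHom := by
        rw [commutator_def, map_commutator, map_top_of_surjective _ e.surjective]
        exact hσ.2.2 hx
      obtain ⟨y, hy, he⟩ := h1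
      rwa [← e.injective he]
  obtain ⟨π, hπ⟩ := hY.2 L₀ σ₀ h₀
  rw [← hker, card_map_of_injective e.injective]
  exact card_dvd_of_surjective π hπ

/-- The quotient by the centre is a stem extension for a perfect group. -/
theorem stem_of_equiv {Y : Type*} [Group Y] (hperf : Group.IsPerfect L)
    (f : L ⧸ center L ≃* Y) :
    Cfsg.IsStemExtension (f.toMonoidHom.comp (QuotientGroup.mk' (center L))) ∧
      (f.toMonoidHom.comp (QuotientGroup.mk' (center L))).ker = center L := by
  have hker : (f.toMonoidHom.comp (QuotientGroup.mk' (center L))).ker = center L := by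
    ext x
    rw [MonoidHom.mem_ker, MonoidHom.comp_apply, MulEquiv.coe_toMonoidHom, MulEquiv.map_eq_one_iff,
      QuotientGroup.mk'_apply, QuotientGroup.eq_one_iff]
  refine ⟨⟨f.surjective.comp (QuotientGroup.mk'_surjective _), hker.le, ?_⟩, hker⟩
  rw [hperf.commutator_eq_top]
  exact le_top

end Transfer

/-- The Sylow 2-subgroups of `PSL₂(2ⁿ)` are abelian. -/
theorem psl_sylow_comm (F : Type) [Field F] [Fintype F] {n : ℕ} (hn : 1 ≤ n)
    (hF : Fintype.card F = 2 ^ n) (S : Sylow 2 (Matrix.ProjectiveSpecialLinearGroup (Fin 2) F)) :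
    IsMulCommutative ↥(S : Subgroup (Matrix.ProjectiveSpecialLinearGroup (Fin 2) F)) := by
  classical
  let ι : Multiplicative F →* Matrix.SpecialLinearGroup (Fin 2) F :=
    { toFun := fun t => SLTwoPresent.uu t.toAdd
      map_one' := SLTwoPresent.uu_zero
      map_mul' := fun a b => SLTwoPresent.uu_add _ _ }
  have hι : Function.Injective ι := fun a b e => by
    have h : Multiplicative.toAdd a = Multiplicative.toAdd b :=
      congrArg (fun g : Matrix.SpecialLinearGroup (Fin 2) F => (g : Matrix (Fin 2) (Fin 2) F) 0 1) e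
    exact Multiplicative.toAdd.injective h
  have hU : Nat.card ι.range = 2 ^ n := by
    rw [← Nat.card_congr (MonoidHom.ofInjective hι).toEquiv, Nat.card_congr Multiplicative.toAdd,
      Nat.card_eq_fintype_card, hF]
  obtain ⟨P, hP⟩ := (IsPGroup.of_card (p := 2) hU).exists_le_sylow
  have hPeq : (P : Subgroup (Matrix.SpecialLinearGroup (Fin 2) F)) = ι.range := by
    refine (eq_of_le_of_card_ge hP ?_).symm
    rw [hU, Sylow.card_eq_multiplicity, CfsgLib.ClassicalGroups.slTwo_card, hF]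
    refine Nat.pow_le_pow_right two_pos ?_
    have h2 : 2 ^ n ≥ 2 := Nat.le_self_pow (by omega) 2
    have hodd : ¬ 2 ∣ (2 ^ n - 1) * (2 ^ n + 1) := by
      have he : 2 ∣ 2 ^ n := dvd_pow_self 2 (by omega)
      rw [Nat.prime_two.dvd_mul]
      omega
    rw [mul_assoc,
      Nat.factorization_mul (by positivity) (fun h => hodd (by rw [h]; exact dvd_zero 2)), Finsupp.add_apply,
      Nat.Prime.factorization_pow Nat.prime_two, Finsupp.single_eq_same,
      Nat.factorization_eq_zero_of_not_dvd hodd]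
    simp
  have hab : ∀ x ∈ (P : Subgroup (Matrix.SpecialLinearGroup (Fin 2) F)),
      ∀ y ∈ (P : Subgroup (Matrix.SpecialLinearGroup (Fin 2) F)), x * y = y * x := by
    rw [hPeq]
    rintro _ ⟨a, rfl⟩ _ ⟨b, rfl⟩
    rw [← map_mul, ← map_mul, mul_comm]
  let π := QuotientGroup.mk' (center (Matrix.SpecialLinearGroup (Fin 2) F))
  let P' : Sylow 2 (Matrix.ProjectiveSpecialLinearGroup (Fin 2) F) :=
    Sylow.mapSurjective (f := π) (QuotientGroup.mk'_surjective _) P
  have hab' : ∀ x y : ↥(P' : Subgroup (Matrix.ProjectiveSpecialLinearGroup (Fin 2) F)), x * y = y * x := by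
    rintro ⟨x, hx⟩ ⟨y, hy⟩
    rw [Sylow.coe_mapSurjective] at hx hy
    obtain ⟨a, ha, rfl⟩ := hx
    obtain ⟨b, hb, rfl⟩ := hy
    exact Subtype.ext (by
      show π a * π b = π b * π a
      rw [← map_mul, ← map_mul, hab a ha b hb])
  let eS := P'.equiv S
  exact ⟨⟨fun a b => eS.symm.injective (by rw [map_mul, map_mul, hab'])⟩⟩

/-- An element of `2`-power order normalising a Sylow 2-subgroup lies in it. -/
theorem mem_sylow_of_normalizer {X : Type*} [Group X] [Finite X] (T : Sylow 2 X) {g : X} {k : ℕ}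
    (hg : g ^ 2 ^ k = 1) (hN : g ∈ normalizer ((T : Subgroup X) : Set X)) : g ∈ (T : Subgroup X) := by
  have h1 : IsPGroup 2 ↥(zpowers g) := by
    obtain ⟨j, -, hj⟩ := (Nat.dvd_prime_pow Nat.prime_two).1 (orderOf_dvd_of_pow_eq_one hg)
    exact IsPGroup.of_card (n := j) (by rw [Nat.card_zpowers, hj])
  have h2 : IsPGroup 2 ↥(zpowers g ⊔ (T : Subgroup X)) :=
    IsPGroup.to_sup_of_normal_right' h1 T.2 (zpowers_le.2 hN)
  have h3 := T.3 h2 le_sup_right
  rw [← h3]
  exact mem_sup_left (mem_zpowers g)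

/-- The facts of `Sz(8)` used for its covers. -/
theorem suzuki_eight {L : Type u} [Group L] [Finite L] {F : Type} [Field F] [Fintype F] [CharP F 2]
    (hF : Fintype.card F = 2 ^ (2 * 1 + 1)) (P : SuzukiGroup.Params F (2 ^ (1 + 1)))
    (hperf : Group.IsPerfect L) (T : Sylow 2 L) (hZT : center L ≤ (T : Subgroup L))
    (f : L ⧸ center L ≃* Cfsg.Lie.Sz F (2 ^ (1 + 1)))
    (hf : ((T : Subgroup L).map (QuotientGroup.mk' (center L))).map f.toMonoidHom = SuzukiGroup.unip P)
    (B : Subgroup L) (hBT : B ≤ (T : Subgroup L)) (hB : Cfsg.IsElementaryAbelian 2 B)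
    (hcov : ∀ x ∈ involSet (((T : Subgroup L)).map (QuotientGroup.mk' (center L))),
      ∃ b ∈ B, QuotientGroup.mk' (center L) b = x) (hBZ : B ⊓ center L ≠ ⊥) :
    8 ≤ (involSet (((T : Subgroup L)).map (QuotientGroup.mk' (center L)))).ncard ∧
      Nat.card ↥(center L) ≤ 4 ∧
      (∃ t ∈ (T : Subgroup L), ∃ b ∈ B, t * b ≠ b * t) ∧
      ∀ φ : MulAut (L ⧸ center L), (∃ k : ℕ, φ ^ 2 ^ k = 1) →
        (∀ x ∈ ((T : Subgroup L)).map (QuotientGroup.mk' (center L)),
          φ x ∈ ((T : Subgroup L)).map (QuotientGroup.mk' (center L))) →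
        ∀ x ∈ involSet (((T : Subgroup L)).map (QuotientGroup.mk' (center L))), φ x = x := by
  classical
  set π := QuotientGroup.mk' (center L) with hπ
  set Tb := (T : Subgroup L).map π with hTb
  have hmemT : ∀ x, x ∈ Tb ↔ f x ∈ SuzukiGroup.unip P := fun x => by
    rw [← hf]
    exact (mem_map_iff_mem (f := f.toMonoidHom) f.injective).symm
  have hsq : ∀ a b : F, (SuzukiGroup.uEl P a b) ^ 2 = SuzukiGroup.uEl P 0 (a * P.θ a) := fun a b => by
    refine (sq (SuzukiGroup.uEl P a b)).trans ((SuzukiGroup.uEl_mul P a b a b).trans ?_)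
    congr 1
    · exact CharTwo.add_self_eq_zero a
    · rw [CharTwo.add_self_eq_zero b, zero_add]
  have hzero : SuzukiGroup.uEl P (0 : F) 0 = 1 := SuzukiGroup.uEl_zero P
  have hinv : ∀ x, x ∈ involSet Tb ↔ ∃ b : F, f x = SuzukiGroup.uEl P 0 b := by
    intro x
    constructor
    · rintro ⟨hx, hx2⟩
      obtain ⟨a, b, hab⟩ := (hmemT x).1 hx
      have h : SuzukiGroup.uEl P 0 (a * P.θ a) = SuzukiGroup.uEl P 0 0 := by
        rw [← hsq a b, ← hab, ← map_pow, hx2, map_one, hzero]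
      have ha : a = 0 := by
        rcases mul_eq_zero.1 (SuzukiGroup.uEl_inj P h).2 with h | h
        · exact h
        · simpa using h
      exact ⟨b, by rw [hab, ha]⟩
    · rintro ⟨b, hb⟩
      refine ⟨(hmemT x).2 ⟨0, b, hb⟩, f.injective ?_⟩
      rw [map_pow, hb, hsq, map_one, zero_mul, hzero]
  obtain ⟨hstem, hker⟩ := stem_of_equiv hperf f
  set σ : L →* Cfsg.Lie.Sz F (2 ^ (1 + 1)) := f.toMonoidHom.comp π with hσ
  refine ⟨?_, ?_, ?_, ?_⟩
  · have hinj : Function.Injective fun b : F => f.symm (SuzukiGroup.uEl P 0 b) := fun b b' e =>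
      (SuzukiGroup.uEl_inj P (f.symm.injective e)).2
    have h8 : Nat.card F = 8 := by rw [Nat.card_eq_fintype_card, hF]; norm_num
    rw [← h8, ← Nat.card_range_of_injective hinj, Nat.card_coe_set_eq]
    refine Set.ncard_le_ncard ?_ (Set.toFinite _)
    rintro _ ⟨b, rfl⟩
    exact (hinv _).2 ⟨b, f.apply_symm_apply _⟩
  · have hY : Cfsg.HasSchurMultiplier ↥(Cfsg.Lie.Sz F (2 ^ (1 + 1))) (Multiplicative (ZMod 2 × ZMod 2)) :=
      ⟨SuzukiEight.exists_stem_four P hF, fun Γ _ _ τ hτ => SuzukiEight.kernel_image P hF τ hτ⟩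
    have h1 := card_ker_le hY σ hstem
    rw [hker, Nat.card_congr Multiplicative.toAdd, Nat.card_prod, Nat.card_zmod] at h1
    exact Nat.le_of_dvd (by norm_num) h1
  · by_contra hcon
    push Not at hcon
    obtain ⟨w, hwBZ, hw1⟩ : ∃ w : L, w ∈ B ⊓ center L ∧ w ≠ 1 := by
      obtain ⟨⟨w, hw⟩, hne⟩ := Subgroup.ne_bot_iff_exists_ne_one.1 hBZ
      exact ⟨w, hw, fun h => hne (Subtype.ext h)⟩
    have hwT : w ∈ (T : Subgroup L) := hBT hwBZ.1
    have hwC : w ∈ ⁅(T : Subgroup L), (T : Subgroup L)⁆ :=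
      Schur.center_commutator_sylow T hwBZ.2 (hperf.commutator_eq_top.symm ▸ mem_top w) hwT
    have hw2 : w ^ 2 = 1 := hB.2 w hwBZ.1
    have hpre : ∀ g, σ g ∈ SuzukiGroup.unip P → g ∈ (T : Subgroup L) := by
      intro g hg
      obtain ⟨t, ht, he⟩ := (hmemT (π g)).2 hg
      have h1 : t⁻¹ * g ∈ center L := (QuotientGroup.eq).1 he
      simpa using mul_mem ht (hZT h1)
    refine hw1 (SuzukiEight.derived_inf_ker_of_mixed P hF (le_refl 1) hstem.1 hstem.2.1
      (Q := (T : Subgroup L)) ?_ (by rw [hker]; exact hwBZ.2) hwC hw2 ?_)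
    · rw [hσ, ← Subgroup.map_map, ← hTb, hf]
    · intro g h a b hg hh
      obtain ⟨d, hd, hdh⟩ := hcov (π h) ((hinv _).2 ⟨b, hh⟩)
      have h1 : d⁻¹ * h ∈ center L := (QuotientGroup.eq).1 hdh
      have h2 : Commute g d := hcon g (hpre g ⟨a, 0, hg⟩) d hd
      have h3 := h2.mul_right (mem_center_iff.1 h1 g : Commute g (d⁻¹ * h))
      rwa [mul_inv_cancel_left] at h3
  · rintro φ ⟨k, hk⟩ hφT x hx
    have hout : Nat.card (Cfsg.Out ↥(Cfsg.Lie.Sz F (2 ^ (1 + 1)))) = 3 :=
      Cfsg.Agent.S2126.result (le_refl 1) hF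
    set ψ : MulAut ↥(Cfsg.Lie.Sz F (2 ^ (1 + 1))) := (f.symm.trans φ).trans f with hψ
    have hψpow : ∀ (j : ℕ) y, (ψ ^ j) (f y) = f ((φ ^ j) y) := by
      intro j
      induction j with
      | zero => intro y; rfl
      | succ j ih =>
        intro y
        show (ψ ^ j * ψ) (f y) = f ((φ ^ j * φ) y)
        rw [MulAut.mul_apply, MulAut.mul_apply, ← ih (φ y)]
        simp [hψ]
    have hψk : ψ ^ 2 ^ k = 1 := MulEquiv.ext fun y => by
      obtain ⟨y, rfl⟩ := f.surjective y
      rw [hψpow, hk]; rfl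
    have hmk : (QuotientGroup.mk' (Cfsg.Inn ↥(Cfsg.Lie.Sz F (2 ^ (1 + 1))))) ψ = 1 := by
      set o := (QuotientGroup.mk' (Cfsg.Inn ↥(Cfsg.Lie.Sz F (2 ^ (1 + 1))))) ψ with ho
      have h1 : orderOf o ∣ 2 ^ k := orderOf_dvd_of_pow_eq_one (by rw [ho, ← map_pow, hψk, map_one])
      have h2 : orderOf o ∣ 3 := hout ▸ orderOf_dvd_natCard o
      have h3 : Nat.Coprime (2 ^ k) 3 := Nat.Coprime.pow_left k (by norm_num)
      exact orderOf_eq_one_iff.1 (Nat.eq_one_of_dvd_coprimes h3 h1 h2)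
    obtain ⟨c, hc⟩ : ψ ∈ Cfsg.Inn ↥(Cfsg.Lie.Sz F (2 ^ (1 + 1))) := (QuotientGroup.eq_one_iff ψ).1 hmk
    set d := f.symm c with hd
    have hφ : ∀ y, φ y = d * y * d⁻¹ := fun y => f.injective (by
      have h := hψpow 1 y
      rw [pow_one, pow_one] at h
      rw [← h, ← hc, MulAut.conj_apply, map_mul, map_mul, map_inv, hd, f.apply_symm_apply])
    have hsimp : IsSimpleGroup (L ⧸ center L) :=
      @MulEquiv.isSimpleGroup _ _ _ _ (SuzukiGroup.isSimple P (by rw [hF]; norm_num)) f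
    have hcenter : center (L ⧸ center L) = ⊥ := by
      rcases (inferInstance : (center (L ⧸ center L)).Normal).eq_bot_or_eq_top with h | h
      · exact h
      · exfalso
        have hall : ∀ a b : L ⧸ center L, a * b = b * a := fun a b =>
          (mem_center_iff.1 (h ▸ mem_top b) a)
        have h4 : (commutator (L ⧸ center L) : Subgroup (L ⧸ center L)) = ⊥ :=
          (commutator_eq_bot_iff_center_eq_top _).2 h
        have h5 : Group.IsPerfect (L ⧸ center L) := by
          haveI := hperf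
          infer_instance
        rw [h5.commutator_eq_top] at h4
        exact bot_ne_top h4.symm
    have hdk : d ^ 2 ^ k = 1 := by
      have h : ∀ (j : ℕ) y, (φ ^ j) y = d ^ j * y * (d ^ j)⁻¹ := by
        intro j
        induction j with
        | zero => intro y; simp
        | succ j ih => intro y; rw [pow_succ, MulAut.mul_apply, hφ, ih, pow_succ]; group
      rw [← Subgroup.mem_bot, ← hcenter, mem_center_iff]
      intro y
      have h1 := h (2 ^ k) y
      rw [hk, MulAut.one_apply, eq_mul_inv_iff_mul_eq] at h1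
      exact h1
    let Tq : Sylow 2 (L ⧸ center L) := Sylow.mapSurjective (f := π) (QuotientGroup.mk'_surjective _) T
    have hTq : (Tq : Subgroup (L ⧸ center L)) = Tb := Sylow.coe_mapSurjective _ _
    have hdN : d ∈ normalizer ((Tq : Subgroup (L ⧸ center L)) : Set (L ⧸ center L)) := by
      rw [hTq, mem_normalizer_iff_map_conj_eq]
      refine eq_of_le_of_card_ge ?_ (Nat.card_congr (equivMapOfInjective _ (MulAut.conj d).toMonoidHom (MulAut.conj d).injective).toEquiv).le
      rintro _ ⟨y, hy, rfl⟩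
      simpa [hφ y] using hφT y hy
    have hdT : f d ∈ SuzukiGroup.unip P := (hmemT d).1 (hTq ▸ mem_sylow_of_normalizer Tq hdk hdN)
    obtain ⟨a, a', ha⟩ := hdT
    obtain ⟨b, hb⟩ := (hinv x).1 hx
    rw [hφ, mul_inv_eq_iff_eq_mul]
    refine f.injective ?_
    rw [map_mul, map_mul, ha, hb, SuzukiGroup.uEl_mul, SuzukiGroup.uEl_mul]
    simp [add_comm]

/-- The covers of the good simple groups. -/
theorem coverFacts_of (hel : AbelianElementary.{u}) : CoverFacts.{u} := by
  intro L _ _ hqs hZp hsc hconcl T B hBT hB hcov hBZ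
  obtain ⟨hperf, hsimp⟩ := hqs
  set π := QuotientGroup.mk' (center L) with hπ
  obtain ⟨w, hwB, hwZ, hw1⟩ : ∃ w : L, w ∈ B ∧ w ∈ center L ∧ w ≠ 1 := by
    obtain ⟨⟨w, hw⟩, hne⟩ := Subgroup.ne_bot_iff_exists_ne_one.1 hBZ
    exact ⟨w, hw.1, hw.2, fun h => hne (Subtype.ext h)⟩
  have hZT : center L ≤ (T : Subgroup L) := by
    obtain ⟨S, hS⟩ := hZp.exists_le_sylow
    obtain ⟨g, hg⟩ := MulAction.exists_smul_eq L S T
    intro z hz
    rw [← hg, Sylow.coe_subgroup_smul]
    refine ⟨z, hS hz, ?_⟩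
    show g * z * g⁻¹ = z
    rw [mem_center_iff.1 hz g, mul_inv_cancel_right]
  have hXna : ¬ IsMulCommutative (L ⧸ center L) := fun h => by
    haveI := hperf
    haveI := hsimp
    have h4 : commutator (L ⧸ center L) = ⊥ :=
      (commutator_eq_bot_iff_center_eq_top _).2 (eq_top_iff' _ |>.2 fun a => mem_center_iff.2 fun b =>
        h.is_comm.comm b a)
    rw [(inferInstance : Group.IsPerfect (L ⧸ center L)).commutator_eq_top] at h4
    exact bot_ne_top h4.symm
  let Tq : Sylow 2 (L ⧸ center L) := Sylow.mapSurjective (f := π) (QuotientGroup.mk'_surjective _) T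
  have hTq : (Tq : Subgroup (L ⧸ center L)) = (T : Subgroup L).map π := Sylow.coe_mapSurjective _ _
  -- an abelian quotient Sylow subgroup is covered by `B Z`
  have habel : IsMulCommutative ↥(Tq : Subgroup (L ⧸ center L)) → False := by
    intro hab
    have hsq := @hel (L ⧸ center L) _ _ hsimp hXna Tq hab
    have hcomm : ∀ s ∈ (T : Subgroup L), ∀ t ∈ (T : Subgroup L), s * t = t * s := by
      have hdec : ∀ s ∈ (T : Subgroup L), ∃ b ∈ B, b⁻¹ * s ∈ center L := fun s hs => by
        have hm : π s ∈ (Tq : Subgroup (L ⧸ center L)) := hTq ▸ mem_map_of_mem π hs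
        obtain ⟨b, hb, he⟩ := hcov (π s) ⟨hTq ▸ hm, hsq _ hm⟩
        exact ⟨b, hb, QuotientGroup.eq.1 he⟩
      intro s hs t ht
      obtain ⟨b, hb, hbz⟩ := hdec s hs
      obtain ⟨d, hd, hdz⟩ := hdec t ht
      have hbd : Commute b d := congrArg Subtype.val (hB.1.is_comm.comm ⟨b, hb⟩ ⟨d, hd⟩)
      have h1 : Commute (b * (b⁻¹ * s)) (d * (d⁻¹ * t)) :=
        ((hbd.mul_right (mem_center_iff.1 hdz b)).mul_left
          ((mem_center_iff.1 hbz (d * (d⁻¹ * t))) : Commute (d * (d⁻¹ * t)) (b⁻¹ * s)).symm)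
      simpa using h1.eq
    have hwC := Schur.center_commutator_sylow T hwZ (hperf.commutator_eq_top.symm ▸ mem_top w) (hBT hwB)
    have hbot : ⁅(T : Subgroup L), (T : Subgroup L)⁆ = ⊥ :=
      Subgroup.commutator_eq_bot_iff_le_centralizer.2 fun s hs =>
        mem_centralizer_iff.2 fun t ht => hcomm t ht s hs
    exact hw1 (mem_bot.1 (hbot ▸ hwC))
  -- a trivial 2-part of the multiplier
  have htriv : ∀ {Y : Type} [Group Y] (f : L ⧸ center L ≃* Y) (n : ℕ), Odd n →
      Cfsg.HasCyclicSchurMultiplier Y n → False := by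
    intro Y _ f n hn hY
    haveI : NeZero n := ⟨by rintro rfl; exact Nat.not_odd_zero hn⟩
    obtain ⟨hstem, hker⟩ := stem_of_equiv hperf f
    have h1 := card_ker_le hY _ hstem
    rw [hker, Nat.card_congr Multiplicative.toAdd, Nat.card_zmod] at h1
    have h2 : orderOf (⟨w, hwZ⟩ : center L) = 2 := orderOf_eq_prime
      (Subtype.ext (hB.2 w hwB)) (fun h => hw1 (congrArg Subtype.val h))
    exact hn.not_two_dvd_nat (h2 ▸ (orderOf_dvd_natCard (⟨w, hwZ⟩ : center L)).trans h1)
  haveI := hsimp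
  rcases hconcl with ⟨S, hS⟩ | ⟨H, hH⟩
  · exact False.elim <| habel (⟨⟨fun a b => (S.equiv Tq).symm.injective (by
      rw [map_mul, map_mul]; exact hS.is_comm.comm _ _)⟩⟩ : IsMulCommutative ↥(Tq : Subgroup (L ⧸ center L)))
  have hna' : ∃ a b : L ⧸ center L, a * b ≠ b * a := by
    by_contra hc
    push Not at hc
    exact hXna ⟨⟨hc⟩⟩
  rcases BenderQ.simple_isBenderType BenderQ.benderKernel BenderQ.rankOneClass hna' hH with
    ⟨F, i1, i2, ⟨n, hn, hF⟩, ⟨f⟩⟩ | ⟨F, i1, i2, m, hm, hF, ⟨f⟩⟩ | ⟨F, i1, i2, n, hn, hF, ⟨f⟩⟩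
  · exfalso
    let S : Sylow 2 (Matrix.ProjectiveSpecialLinearGroup (Fin 2) F) :=
      Sylow.mapSurjective (f := f.toMonoidHom) f.surjective Tq
    have hS := psl_sylow_comm F (by omega) hF S
    refine habel ⟨⟨fun a b => Subtype.ext (f.injective ?_)⟩⟩
    have hm : ∀ y : ↥(Tq : Subgroup (L ⧸ center L)), f y ∈ (S : Subgroup _) := fun y => by
      show f y ∈ (Tq : Subgroup (L ⧸ center L)).map f.toMonoidHom
      exact mem_map_of_mem f.toMonoidHom y.2
    simpa using congrArg Subtype.val (hS.is_comm.comm ⟨_, hm a⟩ ⟨_, hm b⟩)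
  · rcases Nat.lt_or_ge m 2 with hm2 | hm2
    · obtain rfl : m = 1 := by omega
      obtain ⟨hc, ⟨P⟩⟩ := SuzukiGroup.exists_params hF
      haveI := hc
      let S₁ : Sylow 2 ↥(Cfsg.Lie.Sz F (2 ^ (1 + 1))) := Sylow.mapSurjective (f := f.toMonoidHom) f.surjective Tq
      obtain ⟨g, hg⟩ := MulAction.exists_smul_eq ↥(Cfsg.Lie.Sz F (2 ^ (1 + 1))) S₁ (SuzukiGroup.sylowTwo P)
      refine suzuki_eight hF P hperf T hZT (f.trans (MulAut.conj g)) ?_ B hBT hB hcov hBZ
      rw [← hTq]
      have h1 : (MulAut.conj g • (S₁ : Subgroup ↥(Cfsg.Lie.Sz F (2 ^ (1 + 1))))) = SuzukiGroup.unip P := by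
        rw [← SuzukiGroup.coe_sylowTwo P, ← hg, Sylow.coe_subgroup_smul]
      rw [← h1, Subgroup.pointwise_smul_def]
      show (Tq : Subgroup (L ⧸ center L)).map (f.trans (MulAut.conj g)).toMonoidHom =
        ((Tq : Subgroup (L ⧸ center L)).map f.toMonoidHom).map (MulAut.conj g).toMonoidHom
      rw [Subgroup.map_map]
      rfl
    · exact (htriv f 1 odd_one (Cfsg.Agent.S2111.result hm2 hF)).elim
  · have h4 : 4 ≤ 2 ^ n := by
      have := Nat.pow_le_pow_right two_pos hn
      omega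
    refine (htriv f (Nat.gcd 3 (2 ^ n + 1)) ?_
      (Cfsg.Agent.S2089.result 3 (2 ^ n) hF le_rfl (fun h => by omega) ?_)).elim
    · exact Odd.of_dvd_nat (by decide) (Nat.gcd_dvd_left 3 _)
    · simp only [Set.mem_insert_iff, Set.mem_singleton_iff, Prod.mk.injEq]
      omega

end CfsgLib.Goldschmidt.Covers
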