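import Cfsg.Agent.Lib.Goldschmidt.CoverFacts
import Cfsg.Agent.Lib.Walter.RankFour.Assembly
import Cfsg.Agent.Lib.Walter.CoreFree

/-!
The cover facts with Walter's elementary Sylow subgroups.
-/

set_option autoImplicit false

namespace CfsgLib.Goldschmidt.Covers

universe u

/-- Walter: abelian Sylow 2-subgroups of simple groups are elementary. -/
theorem abelianElementary (hD : Walter.CoreFree.{u}) : AbelianElementary.{u} :=
  fun X _ _ _ hX T hT => (Walter.RankFour.good_all hD X hX T hT).elementary T

/-- The cover facts. -/
theorem coverFacts (hD : Walter.CoreFree.{u}) : CoverFacts.{u} := coverFacts_of (abelianElementary hD)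

/-- The cover facts, unconditionally. -/
theorem coverFacts_holds : CoverFacts.{u} := coverFacts Walter.coreFree

end CfsgLib.Goldschmidt.Covers
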