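import Cfsg.Agent.Lib.Walter.RankFour.Interface
import Cfsg.Prelude.Def_Transfer
import Cfsg.Prelude.Def_TwoFusion
import Cfsg.Prelude.Def_Involutions
import Cfsg.Prelude.Def_EvenType

/-!
# Goldschmidt's theorem on strongly closed abelian 2-subgroups: shared vocabulary

Plan and split: coord/notes/Goldschmidt_helper3.md.  `Concl` is S1169, the local facts are about a finite group
`H` with trivial core and an abelian subgroup `B` strongly closed in a Sylow 2-subgroup `T`, and `Setting` is a
counterexample candidate: a minimal elementary strongly closed `A` in a simple group `G`.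
-/

set_option autoImplicit false

namespace CfsgLib.Goldschmidt

open Subgroup CfsgLib.Walter.RankFour

universe u

/-- The conclusion of Goldschmidt's theorem for a simple group. -/
def Concl (G : Type u) [Group G] : Prop :=
  (∃ S : Sylow 2 G, IsMulCommutative ↥(S : Subgroup G)) ∨ ∃ H : Subgroup G, Cfsg.IsStronglyEmbedded H

/-- `X` has a non-trivial abelian subgroup strongly closed in a Sylow 2-subgroup. -/
def HasSCA (X : Type u) [Group X] : Prop :=
  ∃ (T : Sylow 2 X) (B : Subgroup X), B ≠ ⊥ ∧ IsMulCommutative ↥B ∧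
    Cfsg.IsStronglyClosed B (T : Subgroup X)

/-- The theorem holds for simple groups smaller than `G`. -/
def Below (G : Type u) [Group G] : Prop :=
  ∀ (X : Type u) [Group X] [Finite X] [IsSimpleGroup X], Nat.card X < Nat.card G →
    ¬ IsMulCommutative X → HasSCA X → Concl X

/-- The elements of order at most two of `T`. -/
def involSet {X : Type u} [Group X] (T : Subgroup X) : Set X := {x | x ∈ T ∧ x ^ 2 = 1}

/-- What the proof uses about a simple group that can occur as a component seen by `A`. -/
structure AGood (X : Type u) [Group X] : Prop where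
  /-- The involutions of a Sylow 2-subgroup are central in it. -/
  central : ∀ T : Sylow 2 X, ∀ x ∈ involSet (T : Subgroup X), ∀ y ∈ (T : Subgroup X), x * y = y * x
  four_le : ∀ T : Sylow 2 X, 4 ≤ (involSet (T : Subgroup X)).ncard
  /-- An abelian strongly closed subgroup consists of the elements of order at most two. -/
  sc_eq : ∀ T : Sylow 2 X, ∀ B : Subgroup X, Cfsg.IsStronglyClosed B (T : Subgroup X) →
    IsMulCommutative ↥B → B ≠ ⊥ → (B : Set X) = involSet (T : Subgroup X)
  /-- An element of odd order of `N(T)` permutes the involutions of `T` transitively, and its action on them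
  is normalised by every automorphism fixing `T`. -/
  exists_cycle : ∀ T : Sylow 2 X, ∃ g ∈ normalizer ((T : Subgroup X) : Set X), Odd (orderOf g) ∧
    (∀ x ∈ involSet (T : Subgroup X), x ≠ 1 → ∀ y ∈ involSet (T : Subgroup X), y ≠ 1 →
      ∃ i : ℕ, g ^ i * x * (g ^ i)⁻¹ = y) ∧
    ∀ φ : MulAut X, (∀ t ∈ (T : Subgroup X), φ t ∈ (T : Subgroup X)) → ∃ i : ℕ,
      ∀ x ∈ involSet (T : Subgroup X), φ (g * x * g⁻¹) = g ^ i * φ x * (g ^ i)⁻¹
  /-- A 2-automorphism centralising the involutions of `T` and moving `T` only by such elements is inner. -/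
  inner : ∀ T : Sylow 2 X, ∀ φ : MulAut X, (∃ k : ℕ, φ ^ 2 ^ k = 1) →
    (∀ x ∈ involSet (T : Subgroup X), φ x = x) →
    (∀ t ∈ (T : Subgroup X), φ t * t⁻¹ ∈ involSet (T : Subgroup X)) →
    ∃ z ∈ (T : Subgroup X), φ = MulAut.conj z
  /-- Involution centralizers are core-free in rank at least three. -/
  coreFree : ∀ T : Sylow 2 X, 8 ≤ (involSet (T : Subgroup X)).ncard →
    ∀ d ∈ involSet (T : Subgroup X), d ≠ 1 → Cfsg.centralizerPPrimeCore 2 d = ⊥
  /-- An automorphism of odd order centralising the centralizers of three independent commuting involutions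
  is trivial. -/
  rigid : ∀ T : Sylow 2 X, ∀ D : Subgroup X, (D : Set X) ⊆ involSet (T : Subgroup X) → 8 ≤ Nat.card D →
    ∀ φ : MulAut X, Odd (orderOf φ) → (∀ d ∈ D, d ≠ 1 → ∀ x : X, x * d = d * x → φ x = x) → φ = 1

section Local

variable {H : Type u} [Group H]

/-- A component on which `B` acts non-trivially. -/
def IsAComp (B L : Subgroup H) : Prop :=
  Cfsg.IsComponent L ∧ ¬ B ≤ centralizer (L : Set H)

/-- All these components are good modulo their centres. -/
def GoodComps (B : Subgroup H) : Prop :=
  ∀ L : Subgroup H, IsAComp B L → AGood (↥L ⧸ Subgroup.center ↥L)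

/-- `g ∈ L` is a cycle for the component `L` over `W ≤ B ∩ L`, a complement of `C_B(L)` in `B`. -/
structure CompCycle (B L W : Subgroup H) (g : H) : Prop where
  mem : g ∈ L
  odd : Odd (orderOf g)
  cycle : Cycle B W g
  le : W ≤ L
  inf_eq : W ⊓ centralizer (L : Set H) = ⊥
  exists_mul : ∀ b ∈ B, ∃ w ∈ W, b * w ∈ centralizer (L : Set H)
  of_fix : ∀ b ∈ B, g * b * g⁻¹ = b → b ∈ centralizer (L : Set H)

/-- The facts about the components of a core-free group. -/
structure LocalFacts (T B : Subgroup H) : Prop where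
  le_normalizer : ∀ L : Subgroup H, Cfsg.IsComponent L → B ≤ normalizer (L : Set H)
  exists_cycle : ∀ L : Subgroup H, IsAComp B L → ∃ W : Subgroup H, ∃ g : H, CompCycle B L W g
  comm_mem : ∀ L : Subgroup H, IsAComp B L → ∀ t ∈ T ⊓ L, ∀ b ∈ B,
    t * b * t⁻¹ * b⁻¹ ∈ centralizer (L : Set H)

end Local

variable {G : Type u} [Group G]

/-- A minimal elementary strongly closed subgroup of a Sylow 2-subgroup with good local components. -/
structure Setting (G : Type u) [Group G] where
  S : Sylow 2 G
  A : Subgroup G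
  ne_bot : A ≠ ⊥
  elem : Cfsg.IsElementaryAbelian 2 A
  sc : Cfsg.IsStronglyClosed A (S : Subgroup G)
  irr : ∀ V : Subgroup G, V ≤ A → normalizer (A : Set G) ≤ normalizer (V : Set G) → V = ⊥ ∨ V = A
  good : ∀ x : G, orderOf x = 2 → x ∈ (S : Subgroup G) → x ∈ centralizer (A : Set G) →
    GoodComps (img x A)

namespace Setting

variable (E : Setting G)

/-- Some involution of `A` sees a component moved by `A`. -/
def HasComp : Prop :=
  ∃ u ∈ E.A, u ≠ 1 ∧ ∃ L : Subgroup (CenBar u), IsAComp (img u E.A) L

/-- The automorphisms of `A` induced by `N(A)`. -/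
def aut : Subgroup (MulAut ↥E.A) := E.A.normalizerMonoidHom.range

/-- No component seen by `A` has a centre meeting `A`. -/
def CentreFree : Prop :=
  ∀ u ∈ E.A, u ≠ 1 → ∀ L : Subgroup (CenBar u), IsAComp (img u E.A) L →
    img u E.A ⊓ L ⊓ centralizer (L : Set (CenBar u)) = ⊥

end Setting

/-- At least three blocks of `A` permuted by `N(A)`: every component moved by `A` lies over one block and
is centralised by the others, and every block is the piece of a component in the centralizer of each
involution of the product of the others. -/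
structure ABlocks (E : Setting G) where
  ι : Type u
  finite : Finite ι
  V : ι → Subgroup G
  three_le : 3 ≤ Nat.card ι
  four_le : ∀ i, 4 ≤ Nat.card (V i)
  sup_eq : ⨆ i, V i = E.A
  indep : ∀ i, V i ⊓ (⨆ j : {j : ι // j ≠ i}, V (j : ι)) = ⊥
  perm : ∀ n ∈ normalizer (E.A : Set G), ∀ i, ∃ j, (V i).map (MulAut.conj n).toMonoidHom = V j
  component : ∀ u ∈ E.A, u ≠ 1 → ∀ L : Subgroup (CenBar u), IsAComp (img u E.A) L →
    ∃ i, piece E.A u L ≤ V i ∧ ∀ j, j ≠ i → img u (V j) ≤ centralizer (L : Set (CenBar u))
  exists_component : ∀ i, ∀ u ∈ (⨆ j : {j : ι // j ≠ i}, V (j : ι) : Subgroup G), u ≠ 1 →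
    ∃ L : Subgroup (CenBar u), IsAComp (img u E.A) L ∧ piece E.A u L = V i

end CfsgLib.Goldschmidt
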