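import Cfsg.Agent.Lib.Goldschmidt.Defs
import Cfsg.Agent.Lib.Walter.RankFour.Endgame

/-!
# Strongly closed abelian subgroups, three or more blocks: the blocks

Elementary facts on the blocks of `A`, and the centraliser `C(u)` inside a subgroup containing `O(C(u))`,
the normalisers of enough subgroups of `A`.
-/

set_option autoImplicit false
set_option linter.unusedSectionVars false

namespace CfsgLib.Goldschmidt

open Subgroup CfsgLib.Walter.RankFour

universe u

variable {G : Type u} [Group G]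

namespace ABlocks

variable {E : Setting G} (B : ABlocks E)

/-- The product of the blocks other than `i`. -/
def others (i : B.ι) : Subgroup G := ⨆ j : {j : B.ι // j ≠ i}, B.V (j : B.ι)

theorem block_le (i : B.ι) : B.V i ≤ E.A := (le_iSup B.V i).trans B.sup_eq.le

theorem others_le (i : B.ι) : B.others i ≤ E.A :=
  iSup_le fun j => B.block_le j

theorem le_others {i j : B.ι} (h : j ≠ i) : B.V j ≤ B.others i :=
  le_iSup (fun j : {j : B.ι // j ≠ i} => B.V (j : B.ι)) ⟨j, h⟩

variable [Finite G]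

theorem exists_ne_one (i : B.ι) : ∃ w ∈ B.V i, w ≠ 1 := by
  have h4 := B.four_le i
  refine ((B.V i).bot_or_exists_ne_one).resolve_left fun h => ?_
  rw [h, card_bot] at h4
  omega

theorem eq_of_le {i j : B.ι} {A : Subgroup G} (hA : A ≠ ⊥) (hi : A ≤ B.V i) (hj : A ≤ B.V j) :
    i = j := by
  by_contra hne
  exact hA (eq_bot_iff.2 ((le_inf hi (hj.trans (B.le_others (Ne.symm hne)))).trans (B.indep i).le))

theorem exists_third (i j : B.ι) : ∃ l, l ≠ i ∧ l ≠ j := by
  classical
  haveI := B.finite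
  by_contra h
  push Not at h
  have hle : Nat.card B.ι ≤ Nat.card Bool := by
    refine Nat.card_le_card_of_injective (fun k => decide (k = i)) fun a b hab => ?_
    simp only [decide_eq_decide] at hab
    by_cases ha : a = i
    · rw [ha, hab.1 ha]
    · rw [h a ha, h b (fun hb => ha (hab.2 hb))]
  have := B.three_le
  rw [Nat.card_eq_fintype_card (α := Bool), Fintype.card_bool] at hle
  omega

theorem exists_index : Nonempty B.ι := by
  haveI := B.finite
  exact (Nat.card_pos_iff.1 (lt_of_lt_of_le (by norm_num) B.three_le)).1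

theorem card_mul_le {i : B.ι} {P Q R : Subgroup G} (hP : P ≤ B.V i) (hQ : Q ≤ B.others i)
    (hPR : P ≤ R) (hQR : Q ≤ R) : Nat.card P * Nat.card Q ≤ Nat.card R := by
  rw [← Nat.card_prod]
  refine Nat.card_le_card_of_injective
    (fun x : P × Q => (⟨(x.1 : G) * x.2, mul_mem (hPR x.1.2) (hQR x.2.2)⟩ : R)) ?_
  rintro ⟨a, b⟩ ⟨a', b'⟩ h
  have h' : (a : G) * b = a' * b' := congrArg Subtype.val h
  have e : (a' : G)⁻¹ * a = b' * (b : G)⁻¹ := by
    rw [eq_mul_inv_iff_mul_eq, mul_assoc, h', inv_mul_cancel_left]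
  have h1 : (a' : G)⁻¹ * a ∈ B.V i ⊓ B.others i :=
    Subgroup.mem_inf.2 ⟨hP (mul_mem (inv_mem a'.2) a.2), e ▸ hQ (mul_mem b'.2 (inv_mem b.2))⟩
  rw [show B.V i ⊓ B.others i = ⊥ from B.indep i, mem_bot, inv_mul_eq_one] at h1
  rw [← h1] at h'
  exact Prod.ext (Subtype.ext h1.symm) (Subtype.ext (mul_left_cancel h'))

theorem sixteen_le_others (i : B.ι) : 16 ≤ Nat.card (B.others i) := by
  obtain ⟨j, hji, -⟩ := B.exists_third i i
  obtain ⟨k, hki, hkj⟩ := B.exists_third i j
  exact le_trans (Nat.mul_le_mul (B.four_le j) (B.four_le k))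
    (B.card_mul_le le_rfl (B.le_others hkj) (B.le_others hji) (B.le_others hki))

include B in
theorem sixtyfour_le : 64 ≤ Nat.card E.A := by
  obtain ⟨i⟩ := B.exists_index
  exact le_trans (Nat.mul_le_mul (B.four_le i) (B.sixteen_le_others i))
    (B.card_mul_le le_rfl le_rfl (B.block_le i) (B.others_le i))

/-- Blocks centralising a subgroup of `C(u)/O(C(u))` do so jointly. -/
theorem img_iSup_le {u : G} (hAu : E.A ≤ cen u) {L : Subgroup (CenBar u)} {p : B.ι → Prop}
    (h : ∀ j, p j → img u (B.V j) ≤ centralizer (L : Set (CenBar u))) :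
    img u (⨆ j : {j : B.ι // p j}, B.V (j : B.ι)) ≤ centralizer (L : Set (CenBar u)) := by
  have hle : (⨆ j : {j : B.ι // p j}, B.V (j : B.ι)) ≤
      ((centralizer (L : Set (CenBar u))).comap (bar u)).map (cen u).subtype := by
    refine iSup_le fun j v hv => ?_
    exact ⟨⟨v, hAu (B.block_le _ hv)⟩, h j j.2 ⟨⟨v, hAu (B.block_le _ hv)⟩, hv, rfl⟩, rfl⟩
  rintro _ ⟨y, hy, rfl⟩
  obtain ⟨z, hz, hzy⟩ := hle (mem_subgroupOf.1 hy)
  rw [← Subtype.ext (a1 := z) (a2 := y) hzy]
  exact hz

theorem img_others_le {u : G} (hAu : E.A ≤ cen u) {L : Subgroup (CenBar u)} {i : B.ι}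
    (h : ∀ j, j ≠ i → img u (B.V j) ≤ centralizer (L : Set (CenBar u))) :
    img u (B.others i) ≤ centralizer (L : Set (CenBar u)) :=
  B.img_iSup_le hAu h

end ABlocks

variable [Finite G]

local instance : Fact (Nat.Prime 2) := ⟨Nat.prime_two⟩

/-- Normalisers of subgroups of `A` in `C(u)/O(C(u))` lift. -/
theorem img_normalizer_le {A : Subgroup G} (hA : Cfsg.IsElementaryAbelian 2 A) {u : G}
    (hu : u ∈ A) {D : Subgroup G} (hD : D ≤ A) {M : Subgroup G}
    (hDM : normalizer (D : Set G) ≤ M) :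
    normalizer (img u D : Set (CenBar u)) ≤ (M.subgroupOf (cen u)).map (bar u) := by
  have hAp : IsPGroup 2 A := fun a => ⟨1, Subtype.ext (by simpa using hA.2 a a.2)⟩
  have hAu : A ≤ cen u := le_cen hA hu
  have hp : IsPGroup 2 (D.subgroupOf (cen u)) :=
    (hAp.to_le hD).comap_of_injective (cen u).subtype (cen u).subtype_injective
  rw [show img u D = (D.subgroupOf (cen u)).map (QuotientGroup.mk' (Cfsg.pPrimeCore 2 ↥(cen u))) from rfl,
    ← CfsgLib.Components.map_normalizer_quotient CfsgLib.PCore.pPrimeCore_coprime hp]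
  refine Subgroup.map_mono fun x hx => mem_subgroupOf.2 (hDM (Endgame.mem_normalizer_of_map_le ?_))
  rintro _ ⟨a, ha, rfl⟩
  exact (mem_normalizer_iff.1 hx ⟨a, hD.trans hAu ha⟩).1 ha

/-- The layer and the normaliser of `img u A` generate: so a subgroup with `O(C(u))` and both contains
`C(u)`. -/
theorem cen_le_of_top {u : G} {M : Subgroup G}
    (hcore : Cfsg.centralizerPPrimeCore 2 u ≤ M)
    (htop : (M.subgroupOf (cen u)).map (bar u) = ⊤) : cen u ≤ M := by
  have hker : Cfsg.pPrimeCore 2 ↥(cen u) ≤ M.subgroupOf (cen u) := fun x hx =>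
    mem_subgroupOf.2 (hcore ⟨x, hx, rfl⟩)
  have h := Subgroup.comap_map_eq (bar u) (M.subgroupOf (cen u))
  rw [htop, comap_top, QuotientGroup.ker_mk', sup_eq_left.2 hker] at h
  exact subgroupOf_eq_top.1 h.symm

/-- `C(u)` lies in a subgroup containing the normalisers of the large subgroups of `A`. -/
theorem cen_le_of_normalizers {E : Setting G} (B : ABlocks E) {u : G} (hu : u ∈ E.A) (hu1 : u ≠ 1)
    (hfacts : CenFacts E.A u) {M : Subgroup G}
    (hM : ∀ D : Subgroup G, D ≤ E.A → 16 ≤ Nat.card D → normalizer (D : Set G) ≤ M) :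
    cen u ≤ M := by
  have hA := E.elem
  have hAu : E.A ≤ cen u := le_cen hA hu
  have h64 := B.sixtyfour_le
  refine cen_le_of_top ?_ ?_
  · refine CfsgLib.Tech46.le_of_centralizers_corank_one hA _ _ (fun h => ?_)
      (hAu.trans (CfsgLib.Tech46.le_normalizer_centralizerPPrimeCore u)) fun B' hB' hcard => ?_
    · exact Nat.Prime.not_coprime_iff_dvd.2 ⟨2, Nat.prime_two, h, dvd_refl 2⟩
        (CfsgLib.Tech46.centralizerPPrimeCore_coprime u)
    · refine inf_le_right.trans ((centralizer_le_normalizer _).trans (hM B' hB' ?_))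
      omega
  rw [eq_top_iff, ← hfacts.generated]
  refine sup_le (sSup_le fun L hL => ?_) (img_normalizer_le hA hu le_rfl (hM E.A le_rfl (by omega)))
  by_cases hBL : img u E.A ≤ centralizer (L : Set (CenBar u))
  · exact (le_centralizer_iff.1 hBL).trans ((centralizer_le_normalizer _).trans
      (img_normalizer_le hA hu le_rfl (hM E.A le_rfl (by omega))))
  obtain ⟨i, -, hcent⟩ := B.component u hu hu1 L ⟨hL, hBL⟩
  exact (le_centralizer_iff.1 (B.img_others_le hAu hcent)).trans ((centralizer_le_normalizer _).trans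
    (img_normalizer_le hA hu (B.others_le i) (hM _ (B.others_le i) (B.sixteen_le_others i))))

end CfsgLib.Goldschmidt
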