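import Cfsg.Agent.Lib.Goldschmidt.FourTightDefs
import Cfsg.Agent.Lib.Walter.RankFour.Good
import Cfsg.Agent.Lib.RankOneRecog.Class
import Cfsg.Agent.Lib.BenderQ.Bender
import Cfsg.Agent.Lib.InvChar.HermNoSymThree
import Cfsg.Agent.Lib.SuzukiGroup.Group

/-!
# Goldschmidt's theorem, rank three: the simple groups allowed as components are `FourTight`

Abelian Sylow 2-subgroups of 2-rank two are four-groups, and of the groups with a strongly embedded subgroup
only `PSL₂(4)` and `PSU₃(4)` have four elements of order at most two in a Sylow 2-subgroup `T`; in the latter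
case every commutator map `t ↦ [z, t]`, `z ∉ Z(T)`, is onto `Z(T)`.
-/

set_option autoImplicit false
set_option linter.unusedSectionVars false

namespace CfsgLib.Goldschmidt

open Subgroup

universe u

local instance : Fact (Nat.Prime 2) := ⟨Nat.prime_two⟩

variable {X : Type u} [Group X] [Finite X]

/-- The elements of order at most two of `T`, counted inside `T`. -/
private theorem fourTight_ncard (T : Subgroup X) :
    (involSet T).ncard = Nat.card {x : ↥T // x ^ 2 = 1} := by
  rw [← Nat.card_coe_set_eq]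
  exact Nat.card_congr
    { toFun := fun x => ⟨⟨x.1, x.2.1⟩, Subtype.ext x.2.2⟩
      invFun := fun x => ⟨x.1.1, x.1.2, congrArg Subtype.val x.2⟩
      left_inv := fun _ => rfl
      right_inv := fun _ => rfl }

/-- Elementary Sylow 2-subgroups. -/
private theorem fourTight_of_sq (h : ∀ T : Sylow 2 X, ∀ x ∈ (T : Subgroup X), x ^ 2 = 1) :
    FourTight X :=
  fun T _ z hz _ _ _ => ⟨hz, h T z hz⟩

/-- Abelian Sylow 2-subgroups: with four elements of order at most two they are four-groups. -/
theorem fourTight_of_comm [IsSimpleGroup X] (hX : ¬ IsMulCommutative X) (S : Sylow 2 X)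
    (hS : IsMulCommutative ↥(S : Subgroup X)) : FourTight X := by
  intro T hT z hz d hd _
  have hTc : IsMulCommutative ↥(T : Subgroup X) :=
    ⟨⟨fun a b => (T.equiv S).injective (by rw [map_mul, map_mul]; exact hS.is_comm.comm _ _)⟩⟩
  have h2 : Cfsg.PRankLE 2 2 ↥(T : Subgroup X) := by
    intro A _ hA2
    refine le_trans ?_ (le_of_eq (((fourTight_ncard (T : Subgroup X)).symm.trans hT).trans (by norm_num)))
    exact Nat.card_le_card_of_injective (fun a : ↥A => (⟨a.1, hA2 a.1 a.2⟩ : {x : ↥(T : Subgroup X) // x ^ 2 = 1}))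
      (fun a b h => Subtype.ext (congrArg (fun x => x.1) h))
  exact ⟨hz, (Walter.RankFour.card_four_of_rankLE hX T
    (fun x hx y hy => congrArg Subtype.val (hTc.is_comm.comm ⟨x, hx⟩ ⟨y, hy⟩)) h2).2 z hz⟩

/-- A Suzuki group has at least eight elements of order at most two in a Sylow 2-subgroup. -/
private theorem fourTight_of_suzuki (h : Cfsg.Lie.IsoSuzuki X) : FourTight X := by
  obtain ⟨F, i1, i2, m, hm, hF, ⟨f⟩⟩ := h
  obtain ⟨hc, ⟨P⟩⟩ := SuzukiGroup.exists_params hF
  intro T hT z hz d hd _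
  exfalso
  let T' := T.mapSurjective (f := f.toMonoidHom) f.surjective
  let e : ↥(T : Subgroup X) ≃* ↥(SuzukiGroup.sylowTwo P : Subgroup ↥(Cfsg.Lie.Sz F (2 ^ (m + 1)))) :=
    (f.subgroupMap (T : Subgroup X)).trans
      ((MulEquiv.subgroupCongr (T.coe_mapSurjective f.surjective).symm).trans
        (T'.equiv (SuzukiGroup.sylowTwo P)))
  have hu : ∀ b : F, SuzukiGroup.uEl P 0 b ^ 2 = 1 := fun b => by
    rw [sq, SuzukiGroup.uEl_mul, zero_mul, add_zero, add_zero, CharTwo.add_self_eq_zero]
    exact SuzukiGroup.uEl_zero P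
  let inj : F → {x : ↥(T : Subgroup X) // x ^ 2 = 1} := fun b =>
    ⟨e.symm ⟨SuzukiGroup.uEl P 0 b, 0, b, rfl⟩, by
      rw [← map_pow, ← map_one e.symm]
      exact congrArg e.symm (Subtype.ext (hu b))⟩
  have hinj : Function.Injective inj := fun a b hab => by
    have h1 := congrArg Subtype.val (e.symm.injective (congrArg Subtype.val hab))
    exact (SuzukiGroup.uEl_inj P h1).2
  have hle := Nat.card_le_card_of_injective inj hinj
  rw [← fourTight_ncard, hT, Nat.card_eq_fintype_card, hF] at hle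
  have : 2 ^ 3 ≤ 2 ^ (2 * m + 1) := Nat.pow_le_pow_right two_pos (by omega)
  omega

/-- `PSU₃(q)`, `q` even. -/
private theorem fourTight_of_psu {F : Type} [Field F] [Fintype F] {n : ℕ} (hn : 2 ≤ n)
    (hF : Fintype.card F = (2 ^ n) ^ 2) (f : X ≃* Cfsg.PSU 3 F (2 ^ n)) : FourTight X := by
  classical
  intro T hT z hz d hd hcomm
  have he : Even (2 ^ n) := (even_two).pow_of_ne_zero (by omega)
  let _ := InvCharThree.hermGroup hF he
  let T' := T.mapSurjective (f := f.toMonoidHom) f.surjective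
  obtain ⟨g⟩ := InvCharThree.herm_equiv_sylow_psu hF he (n := n) rfl T'
  have hH : InvCharSixtyFour.HermLike ↥(T : Subgroup X) (2 ^ n) :=
    InvCharSixtyFour.hermLike_of_equiv
      ((g.trans (MulEquiv.subgroupCongr (T.coe_mapSurjective f.surjective))).trans
        (f.subgroupMap (T : Subgroup X)).symm)
      (InvCharSixtyFour.hermLike_herm hF he)
  by_contra hzI
  have hzc : (⟨z, hz⟩ : ↥(T : Subgroup X)) ∉ center ↥(T : Subgroup X) := fun hc => hzI
    ⟨hz, by rw [sq]; exact congrArg Subtype.val (hH.center_sq _ hc)⟩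
  have h4 : Nat.card ↥(center ↥(T : Subgroup X)) = 4 := by
    rw [← hT, fourTight_ncard]
    exact Nat.card_congr
      { toFun := fun x => ⟨x.1, by rw [sq]; exact hH.center_sq _ x.2⟩
        invFun := fun x => ⟨x.1, hH.sq_one _ (by rw [← sq]; exact x.2)⟩
        left_inv := fun _ => rfl
        right_inv := fun _ => rfl }
  obtain ⟨c, hc, hc1, hcd⟩ : ∃ c ∈ center ↥(T : Subgroup X), c ≠ 1 ∧ (c : X) ≠ d := by
    by_contra hno
    push Not at hno
    have hsub : (center ↥(T : Subgroup X) : Set ↥(T : Subgroup X)) ⊆ {1, ⟨d, hd.1⟩} := fun c hc => by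
      by_cases h1 : c = 1
      · exact Or.inl h1
      · exact Or.inr (Subtype.ext (hno c hc h1))
    have h2 := Set.ncard_le_ncard hsub
    have h3 : ({1, ⟨d, hd.1⟩} : Set ↥(T : Subgroup X)).ncard ≤ 2 :=
      (Set.ncard_insert_le _ _).trans (by rw [Set.ncard_singleton])
    rw [← Nat.card_coe_set_eq] at h2
    exact absurd (h2.trans h3) (by rw [SetLike.coe_sort_coe, h4]; norm_num)
  obtain ⟨t, ht⟩ := hH.cm_onto _ hzc c hc
  have ht' : z * (t : X) * z⁻¹ * (t : X)⁻¹ = c := congrArg Subtype.val ht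
  rcases hcomm t t.2 with h1 | h1
  · exact hc1 (Subtype.ext (ht'.symm.trans h1))
  · exact hcd (ht'.symm.trans h1)

/-- Piece Q: a simple group satisfying Goldschmidt's conclusion is `FourTight`. -/
theorem fourTight_of_concl [IsSimpleGroup X] (hX : ¬ IsMulCommutative X) (hC : Concl X) :
    FourTight X := by
  rcases hC with ⟨S, hS⟩ | ⟨H, hH⟩
  · exact fourTight_of_comm hX S hS
  have hna : ∃ a b : X, a * b ≠ b * a := by
    by_contra h
    push Not at h
    exact hX ⟨⟨h⟩⟩
  rcases BenderQ.simple_isBenderType BenderQ.benderKernel RankOneRecog.rankOneClass hna hH with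
    ⟨F, i1, i2, ⟨n, hn, hF⟩, ⟨f⟩⟩ | h | ⟨F, i1, i2, n, hn, hF, ⟨f⟩⟩
  · exact fourTight_of_sq (Walter.RankFour.good_of_psl hX hn hF f).elementary
  · exact fourTight_of_suzuki h
  · exact fourTight_of_psu hn hF f

end CfsgLib.Goldschmidt
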