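import Cfsg.Agent.Lib.Goldschmidt.Defs

/-!
# Goldschmidt's theorem, rank three: the model fact used beyond `AGood`
-/

set_option autoImplicit false

namespace CfsgLib.Goldschmidt

/-- If `T` has only four elements of order at most two, an element of `T` whose commutators with `T` all lie
in `{1, d}` for one such element `d` is itself one of them. -/
def FourTight (X : Type*) [Group X] : Prop :=
  ∀ T : Sylow 2 X, (involSet (T : Subgroup X)).ncard = 4 → ∀ z ∈ (T : Subgroup X),
    ∀ d ∈ involSet (T : Subgroup X),
      (∀ t ∈ (T : Subgroup X), z * t * z⁻¹ * t⁻¹ = 1 ∨ z * t * z⁻¹ * t⁻¹ = d) →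
      z ∈ involSet (T : Subgroup X)

end CfsgLib.Goldschmidt
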