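import Cfsg.Agent.Lib.Goldschmidt.RankOne.Suzuki
import Cfsg.Agent.Lib.Goldschmidt.RankOne.Unitary

/-!
The Suzuki groups and the unitary groups `PSU₃(2^n)` are `AGood`.
-/

set_option autoImplicit false
set_option linter.unusedSectionVars false

namespace CfsgLib.Goldschmidt

open Subgroup CfsgLib.Walter.RankFour

universe u

/-- A Suzuki or unitary group with a strongly embedded subgroup is `AGood`. -/
theorem agood_of_suzuki_or_psu {X : Type u} [Group X] [Finite X] [IsSimpleGroup X]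
    (hna : ∃ a b : X, a * b ≠ b * a) {H : Subgroup X} (hH : Cfsg.IsStronglyEmbedded H)
    (h : Cfsg.Lie.IsoSuzuki X ∨
      ∃ (F : Type) (_ : Field F) (_ : Fintype F) (n : ℕ), 2 ≤ n ∧ Fintype.card F = (2 ^ n) ^ 2 ∧
        Nonempty (X ≃* Cfsg.PSU 3 F (2 ^ n))) : AGood X := by
  refine RankOne.agood_of_props hna hH fun T a t hC => ?_
  rcases h with ⟨F, i1, i2, m, hm, hF, ⟨e⟩⟩ | ⟨F, i1, i2, n, hn, hF, ⟨e⟩⟩
  · exact ⟨_, RankOne.sz_props hC hm hF e⟩
  · exact ⟨_, RankOne.psu_props hC hn hF e⟩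

end CfsgLib.Goldschmidt
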