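import Cfsg.Agent.Lib.Goldschmidt.GoodAbelian
import Cfsg.Agent.Lib.Goldschmidt.GoodSE
import Cfsg.Agent.Lib.BenderQ.Classify
import Cfsg.Agent.Lib.BenderQ.Bender
import Cfsg.Agent.Lib.BenderQ.RankOne
import Cfsg.Agent.Lib.Walter.CoreFree

/-!
A simple group satisfying the conclusion of Goldschmidt's theorem is `AGood`: by Bender's theorem it
has abelian Sylow 2-subgroups or is a Suzuki or unitary group.
-/

set_option autoImplicit false
set_option linter.unusedSectionVars false
set_option linter.style.haveILetI false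

namespace CfsgLib.Goldschmidt

open Subgroup CfsgLib.Walter.RankFour

universe u

/-- The Sylow 2-subgroups of `PSL₂(2^n)` are abelian. -/
theorem sylow_comm_of_psl {X : Type u} [Group X] [Finite X] {F : Type} [Field F] [Fintype F] {n : ℕ}
    (hF : Fintype.card F = 2 ^ n) (e : X ≃* Matrix.ProjectiveSpecialLinearGroup (Fin 2) F)
    (S : Sylow 2 X) : IsMulCommutative ↥(S : Subgroup X) := by
  classical
  haveI : Fact (Nat.Prime 2) := ⟨Nat.prime_two⟩
  haveI : CharP F 2 := charP_of_card_eq_prime_pow (f := n) hF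
  have hel : ∀ x ∈ (S : Subgroup X), x ^ 2 = 1 := by
    intro x hx
    obtain ⟨k, hk⟩ := S.isPGroup' ⟨x, hx⟩
    have hk' : x ^ 2 ^ k = 1 := by simpa using congrArg (fun z : ↥(S : Subgroup X) => (z : X)) hk
    rw [pow_two]
    apply e.injective
    rw [map_mul, map_one]
    exact psl_sq_eq_one_of_pow_two (k := k) (by rw [← map_pow, hk', map_one])
  exact ⟨⟨fun a b => Subtype.ext (comm_of_elementary hel a.2 b.2)⟩⟩

/-- The conclusion of Goldschmidt's theorem makes a simple group `AGood`. -/
theorem agood_of_concl {X : Type u} [Group X]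
    [Finite X] [IsSimpleGroup X] (hX : ¬ IsMulCommutative X) (hC : Concl X) : AGood X := by
  rcases hC with ⟨S, hS⟩ | ⟨H, hH⟩
  · exact agood_of_comm CfsgLib.Walter.coreFree X hX S hS
  rcases CfsgLib.BenderQ.simple_isBenderType CfsgLib.BenderQ.benderKernel
      CfsgLib.BenderQ.rankOneClass (exists_mul_ne hX) hH with ⟨F, iF, iFt, ⟨n, -, hF⟩, ⟨e⟩⟩ | h | h
  · exact agood_of_comm CfsgLib.Walter.coreFree X hX (Classical.arbitrary (Sylow 2 X))
      (sylow_comm_of_psl hF e _)
  · exact agood_of_suzuki_or_psu (exists_mul_ne hX) hH (Or.inl h)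
  · exact agood_of_suzuki_or_psu (exists_mul_ne hX) hH (Or.inr h)

end CfsgLib.Goldschmidt
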