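import Cfsg.Agent.Lib.Goldschmidt.GoodCycle
import Cfsg.Agent.Lib.Walter.RankFour.Assembly
import Cfsg.Agent.Lib.ClassicalGroups.SL2
import Cfsg.Agent.Lib.ThreeFree.ClosedSubgroup
import Cfsg.Agent.S4593

/-!
Simple groups with abelian Sylow 2-subgroups have the properties used on components in the proof of
Goldschmidt's theorem.
-/

set_option autoImplicit false
set_option linter.unusedSectionVars false
set_option linter.style.haveILetI false

namespace CfsgLib.Goldschmidt

open Subgroup CfsgLib.Walter.RankFour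

universe u

variable {X : Type u} [Group X] [Finite X]

local instance : Fact (Nat.Prime 2) := ⟨Nat.prime_two⟩

/-- Elements of the normalizer with the order conditions of a transitive element act as its powers. -/
def ActNorm (X : Type u) [Group X] : Prop :=
  ∀ (T : Sylow 2 X), ∀ g ∈ normalizer ((T : Subgroup X) : Set X),
    (∀ x ∈ (T : Subgroup X), x ≠ 1 → ∀ y ∈ (T : Subgroup X), y ≠ 1 →
      ∃ i : ℕ, g ^ i * x * (g ^ i)⁻¹ = y) →
    ∀ n ∈ normalizer ((T : Subgroup X) : Set X),
      (∀ m : ℕ, (∀ x ∈ (T : Subgroup X), g ^ m * x * (g ^ m)⁻¹ = x) →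
        ∀ x ∈ (T : Subgroup X), n ^ m * x * (n ^ m)⁻¹ = x) →
      ∃ i : ℕ, ∀ x ∈ (T : Subgroup X), n * x * n⁻¹ = g ^ i * x * (g ^ i)⁻¹

theorem involSet_eq {T : Subgroup X} (hel : ∀ x ∈ T, x ^ 2 = 1) : involSet T = (T : Set X) :=
  Set.ext fun x => ⟨fun h => h.1, fun h => ⟨h, hel x h⟩⟩

theorem ncard_involSet {T : Subgroup X} (hel : ∀ x ∈ T, x ^ 2 = 1) :
    (involSet T).ncard = Nat.card T := by
  rw [involSet_eq hel, ← Nat.card_coe_set_eq]
  rfl

/-- Powers modulo an exponent that fixes a subgroup. -/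
theorem conj_pow_mod {T : Subgroup X} {g : X} {k : ℕ}
    (hk : ∀ x ∈ T, g ^ k * x * (g ^ k)⁻¹ = x) (m : ℕ) :
    ∀ x ∈ T, g ^ m * x * (g ^ m)⁻¹ = g ^ (m % k) * x * (g ^ (m % k))⁻¹ := by
  intro x hx
  have hq : ∀ q : ℕ, g ^ (k * q) * x * (g ^ (k * q))⁻¹ = x := by
    intro q
    induction q with
    | zero => simp
    | succ q ih =>
      rw [show k * (q + 1) = k + k * q by ring, pow_add, _root_.mul_inv_rev,
        show g ^ k * g ^ (k * q) * x * ((g ^ (k * q))⁻¹ * (g ^ k)⁻¹) =
          g ^ k * (g ^ (k * q) * x * (g ^ (k * q))⁻¹) * (g ^ k)⁻¹ by group, ih, hk x hx]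
  calc g ^ m * x * (g ^ m)⁻¹
      = g ^ (m % k) * (g ^ (k * (m / k)) * x * (g ^ (k * (m / k)))⁻¹) * (g ^ (m % k))⁻¹ := by
        conv_lhs => rw [← Nat.mod_add_div m k, pow_add, _root_.mul_inv_rev]
        group
    _ = _ := by rw [hq]

/-- From `Good` and the action of the normalizer. -/
theorem agood_of_good [IsSimpleGroup X] (hX : ¬ IsMulCommutative X) (hgood : Good X)
    (hnorm : ActNorm X) : AGood X := by
  have hel := hgood.elementary
  have hab : ∀ T : Sylow 2 X, ∀ x ∈ (T : Subgroup X), ∀ y ∈ (T : Subgroup X), x * y = y * x :=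
    fun T x hx y hy => comm_of_elementary (hel T) hx hy
  refine
    { central := fun T x hx y hy => hab T x hx.1 y hy
      four_le := fun T => by rw [ncard_involSet (hel T)]; exact (hgood.exists_cycle T).1
      sc_eq := ?_
      exists_cycle := ?_
      inner := ?_
      coreFree := fun T h8 d hd hd1 =>
        hgood.coreFree T (by rwa [ncard_involSet (hel T)] at h8) d hd.1 hd1
      rigid := fun T D hD h8 φ => hgood.rigid T D (fun x hx => (hD hx).1) h8 φ }
  · intro T B hsc _ hB
    rw [involSet_eq (hel T)]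
    refine le_antisymm hsc.1 fun y hy => ?_
    by_cases hy1 : y = 1
    · rw [hy1]; exact one_mem B
    obtain ⟨⟨b, hb⟩, hb0⟩ := Subgroup.ne_bot_iff_exists_ne_one.1 hB
    have hb1 : b ≠ 1 := fun h => hb0 (Subtype.ext h)
    obtain ⟨-, g, hgN, hg⟩ := hgood.exists_cycle T
    obtain ⟨i, hi⟩ := hg b (hsc.1 hb) hb1 y hy hy1
    rw [← hi]
    exact hsc.2 b hb _ (by rw [hi]; exact hy)
  · intro T
    obtain ⟨-, g, hgN, hg⟩ := hgood.exists_cycle T
    obtain ⟨k, hk, hkfix⟩ := exists_odd_pow_fix T (hab T) hgN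
    obtain ⟨a, k₀, hk₀, hord⟩ := Nat.exists_eq_two_pow_mul_odd (orderOf_pos g).ne'
    obtain ⟨e, he0, he1⟩ := Nat.chineseRemainder
      ((Nat.coprime_two_left.2 hk).pow_left a) 0 1
    have hact : ∀ m : ℕ, ∀ x ∈ (T : Subgroup X),
        (g ^ e) ^ m * x * ((g ^ e) ^ m)⁻¹ = g ^ m * x * (g ^ m)⁻¹ := by
      intro m x hx
      rw [← pow_mul, conj_pow_mod hkfix (e * m) x hx, conj_pow_mod hkfix m x hx]
      have : e * m % k = m % k := by
        have h := he1.mul_right m
        rwa [one_mul] at h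
      rw [this]
    have hodd : Odd (orderOf (g ^ e)) := by
      refine hk₀.of_dvd_nat (orderOf_dvd_of_pow_eq_one ?_)
      obtain ⟨c, hc⟩ := Nat.modEq_zero_iff_dvd.1 he0
      rw [← pow_mul, hc, show 2 ^ a * c * k₀ = 2 ^ a * k₀ * c by ring, pow_mul, ← hord,
        pow_orderOf_eq_one, one_pow]
    refine ⟨g ^ e, pow_mem hgN e, hodd, fun x hx hx1 y hy hy1 => ?_, fun φ hφ => ?_⟩
    · obtain ⟨i, hi⟩ := hg x hx.1 hx1 y hy.1 hy1
      exact ⟨i, (hact i x hx.1).trans hi⟩
    have hsurj : ∀ y ∈ (T : Subgroup X), ∃ t ∈ (T : Subgroup X), φ t = y := by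
      intro y hy
      let f : ↥(T : Subgroup X) → ↥(T : Subgroup X) := fun t => ⟨φ t, hφ t t.2⟩
      have hf : Function.Injective f := fun a b h =>
        Subtype.ext (φ.injective (congrArg Subtype.val h))
      obtain ⟨t, ht⟩ := Finite.injective_iff_surjective.1 hf ⟨y, hy⟩
      exact ⟨t, t.2, congrArg Subtype.val ht⟩
    have hnN : φ g ∈ normalizer ((T : Subgroup X) : Set X) := by
      have hfw : ∀ c ∈ normalizer ((T : Subgroup X) : Set X), ∀ y ∈ (T : Subgroup X),
          φ c * y * (φ c)⁻¹ ∈ (T : Subgroup X) := by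
        intro c hc y hy
        obtain ⟨t, ht, rfl⟩ := hsurj y hy
        rw [← map_inv, ← map_mul, ← map_mul]
        exact hφ _ ((mem_set_normalizer_iff.1 hc t).1 ht)
      refine mem_set_normalizer_iff.2 fun y => ⟨hfw g hgN y, fun h => ?_⟩
      have := hfw g⁻¹ (inv_mem hgN) _ h
      rwa [map_inv, inv_inv, show (φ g)⁻¹ * (φ g * y * (φ g)⁻¹) * φ g = y by group] at this
    obtain ⟨i, hi⟩ := hnorm T g hgN hg (φ g) hnN fun m hm y hy => by
      obtain ⟨t, ht, rfl⟩ := hsurj y hy
      rw [← map_pow, ← map_inv, ← map_mul, ← map_mul, hm t ht]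
    refine ⟨i, fun x hx => ?_⟩
    have h1 : (g ^ e) * x * (g ^ e)⁻¹ = g * x * g⁻¹ := by simpa using hact 1 x hx.1
    rw [h1, map_mul, map_mul, map_inv, hi _ (hφ x hx.1), hact i _ (hφ x hx.1)]
  · intro T φ ⟨k, hk⟩ hfix _
    have hna : ∃ a b : X, a * b ≠ b * a := exists_mul_ne hX
    have hZ : center X = ⊥ := by
      rcases (inferInstance : (center X).Normal).eq_bot_or_eq_top with h | h
      · exact h
      · exact absurd (center_eq_top_iff.1 h) hX
    have hT : IsMulCommutative ↥(T : Subgroup X) :=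
      ⟨⟨fun a b => Subtype.ext (hab T a a.2 b b.2)⟩⟩
    have hfix' : ∀ x ∈ (T : Subgroup X), φ x = x := fun x hx => hfix x ⟨hx, hel T x hx⟩
    obtain ⟨j, -, hj⟩ := (Nat.dvd_prime_pow Nat.prime_two).1 (orderOf_dvd_of_pow_eq_one hk)
    obtain ⟨z, hz⟩ := Cfsg.Agent.S4593.result hZ
      (CfsgLib.ThreeFree.pPrimeCore_eq_bot_of_simple hna) T hT φ ⟨j, hj⟩ hfix'
    have hφ : φ = MulAut.conj z := MulEquiv.ext hz
    refine ⟨z, ?_, hφ⟩
    have hzc : ∀ x ∈ (T : Subgroup X), z * x = x * z := fun x hx =>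
      mul_inv_eq_iff_eq_mul.1 ((hz x).symm.trans (hfix' x hx))
    have hz2 : z ^ 2 ^ k = 1 := by
      have h : MulAut.conj (z ^ 2 ^ k) = 1 := by rw [map_pow, ← hφ, hk]
      have hmem : z ^ 2 ^ k ∈ center X := mem_center_iff.2 fun y => by
        have := DFunLike.congr_fun h y
        simp only [MulAut.conj_apply, MulAut.one_apply] at this
        exact (mul_inv_eq_iff_eq_mul.1 this).symm
      rwa [hZ, mem_bot] at hmem
    have hp : IsPGroup 2 ↥(zpowers z) := by
      obtain ⟨l, -, hl⟩ := (Nat.dvd_prime_pow Nat.prime_two).1 (orderOf_dvd_of_pow_eq_one hz2)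
      exact IsPGroup.of_card (n := l) (by rw [Nat.card_zpowers, hl])
    have hzN : z ∈ normalizer ((T : Subgroup X) : Set X) :=
      centralizer_le_normalizer _ (mem_centralizer_iff.2 fun x hx => (hzc x hx).symm)
    exact ((T.is_maximal' (hp.to_sup_of_normal_right' T.2 (zpowers_le.2 hzN)) le_sup_right).le
      (mem_sup_left (mem_zpowers z)))

/-- When involutions have their Sylow subgroup as centralizer or there are at most eight elements. -/
theorem actNorm_of_semiregular
    (hreg : ∀ T : Sylow 2 X, ∀ d ∈ (T : Subgroup X), d ≠ 1 →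
      ∀ n ∈ normalizer ((T : Subgroup X) : Set X), n * d * n⁻¹ = d →
        ∀ x ∈ (T : Subgroup X), n * x * n⁻¹ = x) : ActNorm X :=
  fun T _ hg htr _ hn _ => exists_pow_of_semiregular hg htr (hreg T) hn

theorem actNorm_of_eight (S : Sylow 2 X) (hel : ∀ T : Sylow 2 X, ∀ x ∈ (T : Subgroup X), x ^ 2 = 1)
    (h8 : Nat.card ↥(S : Subgroup X) = 4 ∨ Nat.card ↥(S : Subgroup X) = 8) : ActNorm X := by
  intro T g hg htr n hn hm
  rcases h8 with h | h
  · refine exists_pow_of_semiregular hg htr (fun d hd hd1 c hc hcd => ?_) hn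
    refine fix_of_index_two T (hel T) hc (zpowers ⟨d, hd⟩) ?_ ?_
    · rw [card_sylow_eq S T, h, Nat.card_zpowers, orderOf_eq_prime (p := 2)
        (Subtype.ext (hel T d hd)) (fun e => hd1 (congrArg Subtype.val e))]
    · intro x hx
      obtain ⟨i, rfl⟩ := mem_zpowers_iff.1 hx
      rw [SubgroupClass.coe_zpow, ← conj_zpow, hcd]
  · refine exists_pow_of_eight T (hel T) ((card_sylow_eq S T).trans h) hg htr hn (hm 7 fun x hx => ?_)
    have := pow_card_sub_one_fix hg htr x hx
    rwa [(card_sylow_eq S T).trans h] at this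

/-- `PSL₂(2^n)`: involution centralizers are the Sylow subgroups. -/
theorem centralizer_eq_of_psl {F : Type} [Field F] [Fintype F] {n : ℕ} (hn : 2 ≤ n)
    (hF : Fintype.card F = 2 ^ n) (e : X ≃* Matrix.ProjectiveSpecialLinearGroup (Fin 2) F)
    (T : Sylow 2 X) {d x : X} (hd : d ∈ (T : Subgroup X)) (hd1 : d ≠ 1) (hdd : d * d = 1)
    (hel : ∀ x ∈ (T : Subgroup X), x ^ 2 = 1) (hc : x * d = d * x) : x ∈ (T : Subgroup X) := by
  classical
  haveI : CharP F 2 := charP_of_card_eq_prime_pow (f := n) hF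
  have hsq : ∀ y ∈ centralizer ({d} : Set X), y * y = 1 := by
    intro y hy
    apply e.injective
    rw [map_mul, map_one]
    exact psl_sq_eq_one_of_commute (d := e d) (by rw [← map_mul, hdd, map_one])
      (fun h => hd1 (e.injective (h.trans (map_one e).symm)))
      (by rw [← map_mul, mem_centralizer_singleton_iff.1 hy, map_mul])
  have hle : (T : Subgroup X) ≤ centralizer ({d} : Set X) := fun y hy =>
    mem_centralizer_singleton_iff.2 (comm_of_elementary hel hy hd)
  exact (T.is_maximal' (Q := centralizer ({d} : Set X))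
    (fun y => ⟨1, Subtype.ext (by simpa [pow_two] using hsq y y.2)⟩) hle).le
    (mem_centralizer_singleton_iff.2 hc)

/-- Simple groups with abelian Sylow 2-subgroups. -/
theorem agood_of_comm (hD : CfsgLib.Walter.CoreFree.{u}) (X : Type u) [Group X] [Finite X]
    [IsSimpleGroup X] (hX : ¬ IsMulCommutative X) (S : Sylow 2 X)
    (hS : IsMulCommutative ↥(S : Subgroup X)) : AGood X := by
  classical
  have hgood : Good X := good_all hD X hX S hS
  refine agood_of_good hX hgood ?_
  have hab : ∀ x ∈ (S : Subgroup X), ∀ y ∈ (S : Subgroup X), x * y = y * x := fun x hx y hy =>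
    congrArg Subtype.val (hS.is_comm.comm (⟨x, hx⟩ : (S : Subgroup X)) ⟨y, hy⟩)
  have hgoodAt : GoodAt (S : Subgroup X) := goodAt_of_smaller hX S hab
    fun Y _ _ _ hY T hT _ => good_all hD Y hY T hT
  by_cases h2 : Cfsg.PRankLE 2 2 ↥(S : Subgroup X)
  · exact actNorm_of_eight S hgood.elementary (Or.inl (card_four_of_rankLE hX S hab h2).1)
  rcases trichotomy hX S hab hgoodAt with h | h | ⟨h8, -, -⟩
  · obtain ⟨F, iF, iFt, hq, ⟨e⟩⟩ := CfsgLib.SylTwoAbel.exists_psl_of_rank_three S hab h h2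
    rcases hq with ⟨hq, -⟩ | ⟨n, hn, hF⟩
    · haveI := CfsgLib.ClassicalGroups.SL2.psl_sylow_two_klein (F := F) rfl hq
        (S.mapSurjective (f := e.toMonoidHom) e.surjective)
      refine actNorm_of_eight S hgood.elementary (Or.inl ?_)
      have h4 := IsKleinFour.card_four
        (G := ↥((S.mapSurjective (f := e.toMonoidHom) e.surjective) :
          Subgroup (Matrix.ProjectiveSpecialLinearGroup (Fin 2) F)))
      exact (Nat.card_congr (Subgroup.equivMapOfInjective (S : Subgroup X) e.toMonoidHom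
        e.injective).toEquiv).trans h4
    · refine actNorm_of_semiregular fun T d hd hd1 c _ hcd x hx => ?_
      have hel := hgood.elementary T
      have hcT : c ∈ (T : Subgroup X) := centralizer_eq_of_psl hn hF e T hd hd1
        (by rw [← pow_two]; exact hel d hd) hel (mul_inv_eq_iff_eq_mul.1 hcd)
      rw [comm_of_elementary hel hcT hx, mul_inv_cancel_right]
  · exact absurd h h2
  · exact actNorm_of_eight S hgood.elementary (Or.inr h8)

end CfsgLib.Goldschmidt
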