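import Mathlib.GroupTheory.Sylow
import Cfsg.Agent.Lib.Goldschmidt.Defs

/-!
The transitive element of the normalizer of an elementary abelian Sylow 2-subgroup and the elements of
the normalizer that act as its powers.
-/

set_option autoImplicit false
set_option linter.unusedSectionVars false
set_option linter.style.haveILetI false

namespace CfsgLib.Goldschmidt

open Subgroup

universe u

variable {X : Type u} [Group X] [Finite X]

local instance : Fact (Nat.Prime 2) := ⟨Nat.prime_two⟩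

/-- An odd power of an element of the normalizer of an abelian Sylow 2-subgroup centralizes it. -/
theorem exists_odd_pow_fix (T : Sylow 2 X)
    (hab : ∀ x ∈ (T : Subgroup X), ∀ y ∈ (T : Subgroup X), x * y = y * x) {n : X}
    (hn : n ∈ normalizer ((T : Subgroup X) : Set X)) :
    ∃ k : ℕ, Odd k ∧ ∀ x ∈ (T : Subgroup X), n ^ k * x * (n ^ k)⁻¹ = x := by
  obtain ⟨a, k, hk, hak⟩ := Nat.exists_eq_two_pow_mul_odd (orderOf_pos n).ne'
  refine ⟨k, hk, fun x hx => ?_⟩
  have h2 : IsPGroup 2 ↥(zpowers (n ^ k)) := by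
    obtain ⟨j, -, hj⟩ := (Nat.dvd_prime_pow Nat.prime_two).1
      (show orderOf (n ^ k) ∣ 2 ^ a from orderOf_dvd_of_pow_eq_one (by
        rw [← pow_mul, mul_comm, ← hak, pow_orderOf_eq_one]))
    exact IsPGroup.of_card (n := j) (by rw [Nat.card_zpowers, hj])
  have hmax : (zpowers (n ^ k) ⊔ (T : Subgroup X) : Subgroup X) = (T : Subgroup X) :=
    T.is_maximal' (h2.to_sup_of_normal_right' T.2 (zpowers_le.2 (pow_mem hn k))) le_sup_right
  have hmem : n ^ k ∈ (T : Subgroup X) := hmax.le (mem_sup_left (mem_zpowers _))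
  rw [hab _ hmem _ hx, mul_inv_cancel_right]

/-- An element of the normalizer that fixes a subgroup of index at most two fixes all. -/
theorem fix_of_index_two (T : Sylow 2 X) (hel : ∀ x ∈ (T : Subgroup X), x ^ 2 = 1) {n : X}
    (hn : n ∈ normalizer ((T : Subgroup X) : Set X)) (E : Subgroup ↥(T : Subgroup X))
    (hE : Nat.card ↥(T : Subgroup X) ≤ 2 * Nat.card E)
    (hfix : ∀ x ∈ E, n * (x : X) * n⁻¹ = x) :
    ∀ x ∈ (T : Subgroup X), n * x * n⁻¹ = x := by
  have hab : ∀ x ∈ (T : Subgroup X), ∀ y ∈ (T : Subgroup X), x * y = y * x := by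
    intro x hx y hy
    have hinv : ∀ z ∈ (T : Subgroup X), z⁻¹ = z := fun z hz =>
      inv_eq_of_mul_eq_one_right (by rw [← pow_two, hel z hz])
    rw [← hinv _ (mul_mem hx hy), _root_.mul_inv_rev, hinv x hx, hinv y hy]
  intro x hx
  by_cases hxE : (⟨x, hx⟩ : ↥(T : Subgroup X)) ∈ E
  · exact hfix _ hxE
  have hidx : E.index = 2 := by
    have h := E.card_mul_index
    have h1 : E.index ≠ 1 := fun e => hxE (Subgroup.index_eq_one.1 e ▸ mem_top _)
    have h0 : E.index ≠ 0 := Subgroup.index_ne_zero_of_finite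
    have hpos : 0 < Nat.card E := Nat.card_pos
    by_contra h2
    have : Nat.card E * 3 ≤ Nat.card E * E.index := Nat.mul_le_mul_left _ (by omega)
    omega
  have hT : n * x * n⁻¹ ∈ (T : Subgroup X) := (mem_set_normalizer_iff.1 hn x).1 hx
  by_cases hy : (⟨n * x * n⁻¹, hT⟩ : ↥(T : Subgroup X)) ∈ E
  · exfalso
    have h := hfix _ hy
    simp only at h
    have e : n * x * n⁻¹ = x := mul_left_cancel (mul_right_cancel h)
    exact hxE (by simpa [e] using hy)
  · have hw := (Subgroup.mul_mem_iff_of_index_two hidx).2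
      (show (⟨n * x * n⁻¹, hT⟩ : ↥(T : Subgroup X)) ∈ E ↔ (⟨x, hx⟩ : ↥(T : Subgroup X)) ∈ E by
        simp [hy, hxE])
    set v := n * x * n⁻¹ * x with hv
    have hvT : v ∈ (T : Subgroup X) := mul_mem hT hx
    have hvfix : n * v * n⁻¹ = v := hfix _ hw
    have hxx : x * x = 1 := by rw [← pow_two, hel x hx]
    have hnx : n * x * n⁻¹ = v * x := by rw [hv, mul_assoc _ x x, hxx, mul_one]
    have hn2 : n ^ 2 * x * (n ^ 2)⁻¹ = x := by
      calc n ^ 2 * x * (n ^ 2)⁻¹ = n * (n * x * n⁻¹) * n⁻¹ := by rw [pow_two]; group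
        _ = n * (v * x) * n⁻¹ := by rw [← hnx]
        _ = n * v * n⁻¹ * (n * x * n⁻¹) := by group
        _ = v * (v * x) := by rw [hvfix, hnx]
        _ = v * v * x := (mul_assoc _ _ _).symm
        _ = x := by rw [← pow_two, hel v hvT, one_mul]
    have hn2' : ∀ m : ℕ, n ^ (2 * m) * x * (n ^ (2 * m))⁻¹ = x := by
      intro m
      induction m with
      | zero => simp
      | succ m ih =>
        rw [show 2 * (m + 1) = 2 + 2 * m by ring, pow_add, _root_.mul_inv_rev,
          show n ^ 2 * n ^ (2 * m) * x * ((n ^ (2 * m))⁻¹ * (n ^ 2)⁻¹) =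
            n ^ 2 * (n ^ (2 * m) * x * (n ^ (2 * m))⁻¹) * (n ^ 2)⁻¹ by group, ih, hn2]
    obtain ⟨k, ⟨m, rfl⟩, hk⟩ := exists_odd_pow_fix T hab hn
    have := hk x hx
    rw [show 2 * m + 1 = 1 + 2 * m by ring, pow_add, pow_one, _root_.mul_inv_rev,
      show n * n ^ (2 * m) * x * ((n ^ (2 * m))⁻¹ * n⁻¹) =
        n * (n ^ (2 * m) * x * (n ^ (2 * m))⁻¹) * n⁻¹ by group, hn2'] at this
    exact this

variable {T : Subgroup X} {g : X}

/-- The order of the transitive action. -/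
theorem pow_card_sub_one_fix (hg : g ∈ normalizer (T : Set X))
    (htr : ∀ x ∈ T, x ≠ 1 → ∀ y ∈ T, y ≠ 1 → ∃ i : ℕ, g ^ i * x * (g ^ i)⁻¹ = y) :
    ∀ x ∈ T, g ^ (Nat.card T - 1) * x * (g ^ (Nat.card T - 1))⁻¹ = x := by
  classical
  intro x hx
  by_cases hx1 : x = 1
  · simp [hx1]
  haveI := Fintype.ofFinite X
  set f : ℕ → X := fun i => g ^ i * x * (g ^ i)⁻¹ with hf
  have hfadd : ∀ i j, f (i + j) = g ^ i * f j * (g ^ i)⁻¹ := fun i j => by
    simp only [hf, pow_add, _root_.mul_inv_rev]; group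
  set S : Finset X := Finset.univ.filter fun y => y ∈ T ∧ y ≠ 1 with hS
  have hfS : ∀ i, f i ∈ S := fun i => Finset.mem_filter.2 ⟨Finset.mem_univ _,
    (mem_set_normalizer_iff.1 (pow_mem hg i) x).1 hx, fun e => hx1 (conj_eq_one_iff.1 e)⟩
  have hScard : S.card = Nat.card T - 1 := by
    have : S = (Finset.univ.filter fun y => y ∈ T).erase 1 := by
      ext y; simp [hS, and_comm]
    rw [this, Finset.card_erase_of_mem (by simp [one_mem]), Nat.card_eq_fintype_card,
      Fintype.card_subtype]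
  set m := Nat.card T - 1
  obtain ⟨i, hi, j, hj, hij, hfij⟩ := Finset.exists_ne_map_eq_of_card_lt_of_maps_to
    (s := Finset.range (m + 1)) (t := S) (by rw [hScard, Finset.card_range]; omega)
    (fun i _ => hfS i)
  simp only [Finset.mem_range] at hi hj
  obtain ⟨d, hd0, hdm, hd⟩ : ∃ d, 0 < d ∧ d ≤ m ∧ f d = x := by
    rcases lt_or_gt_of_ne hij with h | h
    · refine ⟨j - i, by omega, by omega, ?_⟩
      have := hfadd i (j - i)
      rw [Nat.add_sub_cancel' h.le, ← hfij] at this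
      exact (mul_left_cancel (mul_right_cancel this)).symm
    · refine ⟨i - j, by omega, by omega, ?_⟩
      have := hfadd j (i - j)
      rw [Nat.add_sub_cancel' h.le, hfij] at this
      exact (mul_left_cancel (mul_right_cancel this)).symm
  have hsub : S ⊆ (Finset.range d).image f := by
    intro y hy
    obtain ⟨hy, hy1⟩ := (Finset.mem_filter.1 hy).2
    obtain ⟨k, hk⟩ := htr x hx hx1 y hy hy1
    refine Finset.mem_image.2 ⟨k % d, Finset.mem_range.2 (Nat.mod_lt _ hd0), ?_⟩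
    have hper : ∀ q r, f (r + d * q) = f r := by
      intro q
      induction q with
      | zero => simp
      | succ q ih =>
        intro r
        rw [show r + d * (q + 1) = (r + d * q) + d by ring, hfadd, hd]
        exact ih r
    rw [← hk]
    calc f (k % d) = f (k % d + d * (k / d)) := (hper _ _).symm
      _ = f k := by rw [Nat.mod_add_div]
  have := (Finset.card_le_card hsub).trans Finset.card_image_le
  rw [hScard, Finset.card_range] at this
  rw [show d = m by omega] at hd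
  exact hd

/-- Elements of the normalizer whose stabilizers are trivial act as powers of a transitive element. -/
theorem exists_pow_of_semiregular (hg : g ∈ normalizer (T : Set X))
    (htr : ∀ x ∈ T, x ≠ 1 → ∀ y ∈ T, y ≠ 1 → ∃ i : ℕ, g ^ i * x * (g ^ i)⁻¹ = y)
    (hreg : ∀ d ∈ T, d ≠ 1 → ∀ n ∈ normalizer (T : Set X), n * d * n⁻¹ = d →
      ∀ x ∈ T, n * x * n⁻¹ = x)
    {n : X} (hn : n ∈ normalizer (T : Set X)) :
    ∃ i : ℕ, ∀ x ∈ T, n * x * n⁻¹ = g ^ i * x * (g ^ i)⁻¹ := by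
  by_cases hT : ∀ x ∈ T, x = 1
  · exact ⟨0, fun x hx => by simp [hT x hx]⟩
  push Not at hT
  obtain ⟨d, hd, hd1⟩ := hT
  obtain ⟨i, hi⟩ := htr d hd hd1 (n * d * n⁻¹) ((mem_set_normalizer_iff.1 hn d).1 hd)
    (fun e => hd1 (conj_eq_one_iff.1 e))
  refine ⟨i, fun x hx => ?_⟩
  have h := hreg d hd hd1 ((g ^ i)⁻¹ * n) (mul_mem (inv_mem (pow_mem hg i)) hn) (by
    rw [_root_.mul_inv_rev, inv_inv,
      show (g ^ i)⁻¹ * n * d * (n⁻¹ * g ^ i) = (g ^ i)⁻¹ * (n * d * n⁻¹) * g ^ i by group, ← hi]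
    group) x hx
  calc n * x * n⁻¹ = g ^ i * ((g ^ i)⁻¹ * n * x * ((g ^ i)⁻¹ * n)⁻¹) * (g ^ i)⁻¹ := by group
    _ = _ := by rw [h]

/-- The same when the order of the action is at most seven. -/
theorem exists_pow_of_eight (T : Sylow 2 X) (hel : ∀ x ∈ (T : Subgroup X), x ^ 2 = 1)
    (h8 : Nat.card ↥(T : Subgroup X) = 8) (hg : g ∈ normalizer ((T : Subgroup X) : Set X))
    (htr : ∀ x ∈ (T : Subgroup X), x ≠ 1 → ∀ y ∈ (T : Subgroup X), y ≠ 1 →
      ∃ i : ℕ, g ^ i * x * (g ^ i)⁻¹ = y)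
    {n : X} (hn : n ∈ normalizer ((T : Subgroup X) : Set X))
    (h7 : ∀ x ∈ (T : Subgroup X), n ^ 7 * x * (n ^ 7)⁻¹ = x) :
    ∃ i : ℕ, ∀ x ∈ (T : Subgroup X), n * x * n⁻¹ = g ^ i * x * (g ^ i)⁻¹ := by
  classical
  set U := (T : Subgroup X) with hU
  let ρ : ↥(normalizer (U : Set X)) →* MulAut ↥U := U.normalizerMonoidHom
  have hρ : ∀ (c : ↥(normalizer (U : Set X))) (x : ↥U), ((ρ c) x : X) = c * x * (c : X)⁻¹ :=
    fun _ _ => rfl
  let A : Subgroup (MulAut ↥U) := ρ.range
  have hfixA : ∀ a : A, ∀ d e : ↥U, d ≠ 1 → e ≠ 1 → d ≠ e → (a : MulAut ↥U) d = d →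
      (a : MulAut ↥U) e = e → a = 1 := by
    rintro ⟨a, c, rfl⟩ d e hd1 he1 hde had hae
    let E : Subgroup ↥U := MonoidHom.eqLocus (ρ c).toMonoidHom (MonoidHom.id ↥U)
    have hcard : Nat.card ↥U ≤ 2 * Nat.card E := by
      have h3 : 2 < Nat.card E := by
        haveI := Fintype.ofFinite ↥E
        rw [Nat.card_eq_fintype_card, Fintype.two_lt_card_iff]
        exact ⟨⟨1, one_mem _⟩, ⟨d, had⟩, ⟨e, hae⟩, fun h => hd1 (congrArg Subtype.val h).symm,
          fun h => he1 (congrArg Subtype.val h).symm, fun h => hde (congrArg Subtype.val h)⟩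
      have hdvd := E.card_subgroup_dvd_card
      rw [h8] at hdvd ⊢
      have := Nat.le_of_dvd (by norm_num) hdvd
      interval_cases h : Nat.card E <;> omega
    have h := fix_of_index_two T hel c.2 E hcard fun x hx => congrArg Subtype.val hx
    refine Subtype.ext (MulEquiv.ext fun x => Subtype.ext ?_)
    show ((ρ c) x : X) = x
    rw [hρ]
    exact h x x.2
  -- the automizer has at most 42 elements
  obtain ⟨d, e, hd1, he1, hde⟩ : ∃ d e : ↥U, d ≠ 1 ∧ e ≠ 1 ∧ d ≠ e := by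
    haveI := Fintype.ofFinite ↥U
    have h3 : 2 < Fintype.card ↥U := by rw [← Nat.card_eq_fintype_card, h8]; norm_num
    obtain ⟨a, b, c, hab, hac, hbc⟩ := Fintype.two_lt_card_iff.1 h3
    by_cases ha : a = 1
    · exact ⟨b, c, fun h => hab (ha.trans h.symm), fun h => hac (ha.trans h.symm), hbc⟩
    by_cases hb : b = 1
    · exact ⟨a, c, ha, fun h => hbc (hb.trans h.symm), hac⟩
    exact ⟨a, b, ha, hb, hab⟩
  haveI := Fintype.ofFinite ↥U
  haveI := Fintype.ofFinite ↥A
  have hA : Fintype.card ↥A ≤ 42 := by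
    have hinj : Function.Injective
        (fun a : ↥A => (((a : MulAut ↥U) d, (a : MulAut ↥U) e) : ↥U × ↥U)) := by
      intro a b hab
      simp only [Prod.mk.injEq] at hab
      refine (inv_mul_eq_one.1 (hfixA (a⁻¹ * b) d e hd1 he1 hde ?_ ?_))
      · show (a : MulAut ↥U)⁻¹ ((b : MulAut ↥U) d) = d
        rw [← hab.1]; exact MulAut.inv_apply_self _ _ _
      · show (a : MulAut ↥U)⁻¹ ((b : MulAut ↥U) e) = e
        rw [← hab.2]; exact MulAut.inv_apply_self _ _ _
    calc Fintype.card ↥A = (Finset.univ.image fun a : ↥A =>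
          (((a : MulAut ↥U) d, (a : MulAut ↥U) e) : ↥U × ↥U)).card := by
          rw [Finset.card_image_of_injective _ hinj, Finset.card_univ]
      _ ≤ ((Finset.univ : Finset ↥U).erase 1).offDiag.card := by
          refine Finset.card_le_card fun p hp => ?_
          obtain ⟨a, -, rfl⟩ := Finset.mem_image.1 hp
          simpa [Finset.mem_offDiag, hd1, he1] using hde
      _ = 42 := by
          rw [Finset.offDiag_card, Finset.card_erase_of_mem (Finset.mem_univ _), Finset.card_univ,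
            ← Nat.card_eq_fintype_card, h8]
  -- the image of the transitive element has order seven
  set h : ↥A := ⟨ρ ⟨g, hg⟩, _, rfl⟩ with hh
  set f : ↥A := ⟨ρ ⟨n, hn⟩, _, rfl⟩ with hf
  have hpow : ∀ (c : X) (hc : c ∈ normalizer (U : Set X)),
      (∀ x ∈ U, c ^ 7 * x * (c ^ 7)⁻¹ = x) → (⟨ρ ⟨c, hc⟩, _, rfl⟩ : ↥A) ^ 7 = 1 := by
    intro c hc h
    refine Subtype.ext (MulEquiv.ext fun x => Subtype.ext ?_)
    rw [SubgroupClass.coe_pow, ← map_pow]
    show ((ρ (⟨c, hc⟩ ^ 7)) x : X) = x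
    rw [hρ, SubgroupClass.coe_pow]
    exact h x x.2
  have h71 : h ^ 7 = 1 := hpow g hg (fun x hx => by
    have := pow_card_sub_one_fix hg htr x hx
    rwa [h8] at this)
  have hh1 : h ≠ 1 := by
    intro e'
    have hgx : ∀ x : ↥U, g * (x : X) * g⁻¹ = x := fun x => by
      have := congrArg (fun a : ↥A => (((a : MulAut ↥U) x : ↥U) : X)) e'
      simp only [hh, hρ, OneMemClass.coe_one, MulAut.one_apply] at this
      exact this
    obtain ⟨i, hi⟩ := htr d d.2 (fun h => hd1 (Subtype.ext h)) e e.2 (fun h => he1 (Subtype.ext h))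
    refine hde (Subtype.ext (Eq.trans ?_ hi))
    exact (mul_inv_eq_iff_eq_mul.2 ((show Commute g d from
      mul_inv_eq_iff_eq_mul.1 (hgx d)).pow_left i).eq).symm
  haveI : Fact (Nat.Prime 7) := ⟨by norm_num⟩
  have ho : orderOf h = 7 := orderOf_eq_prime h71 hh1
  have hmem : f ∈ zpowers h := by
    by_contra hfn
    have hinj : Function.Injective (fun p : Fin 7 × Fin 7 => h ^ (p.1 : ℕ) * f ^ (p.2 : ℕ)) := by
      rintro ⟨a, b⟩ ⟨a', b'⟩ hab
      simp only at hab
      have h1 : (h ^ (a' : ℕ))⁻¹ * h ^ (a : ℕ) = f ^ (b' : ℕ) * (f ^ (b : ℕ))⁻¹ := by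
        calc (h ^ (a' : ℕ))⁻¹ * h ^ (a : ℕ)
            = (h ^ (a' : ℕ))⁻¹ * (h ^ (a : ℕ) * f ^ (b : ℕ)) * (f ^ (b : ℕ))⁻¹ := by group
          _ = _ := by rw [hab]; group
      have hf1 : f ≠ 1 := fun e => hfn (e ▸ one_mem _)
      have hfo : orderOf f = 7 := orderOf_eq_prime (hpow n hn h7) hf1
      have hmem1 : f ^ (b' : ℕ) * (f ^ (b : ℕ))⁻¹ ∈ zpowers h :=
        h1 ▸ mul_mem (inv_mem (pow_mem (mem_zpowers _) _)) (pow_mem (mem_zpowers _) _)
      have hb : f ^ (b' : ℕ) * (f ^ (b : ℕ))⁻¹ = 1 := by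
        by_contra hne
        refine hfn ?_
        set z := f ^ (b' : ℕ) * (f ^ (b : ℕ))⁻¹
        have hz : z ∈ zpowers f := mul_mem (pow_mem (mem_zpowers _) _) (inv_mem (pow_mem (mem_zpowers _) _))
        have hzo : orderOf z = 7 := (Nat.dvd_prime (by norm_num : (7 : ℕ).Prime)).1
          (hfo ▸ orderOf_dvd_of_mem_zpowers hz) |>.resolve_left
            (fun e => hne (orderOf_eq_one_iff.1 e))
        have heq : zpowers z = zpowers f := Subgroup.eq_of_le_of_card_ge (zpowers_le.2 hz)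
          (by rw [Nat.card_zpowers, Nat.card_zpowers, hfo, hzo])
        exact (heq ▸ zpowers_le.2 hmem1 : zpowers f ≤ zpowers h) (mem_zpowers f)
      rw [hb, inv_mul_eq_one] at h1
      have ea : (a' : ℕ) = a := pow_injOn_Iio_orderOf (by rw [ho]; exact a'.2)
        (by rw [ho]; exact a.2) h1
      have eb : (b' : ℕ) = b := pow_injOn_Iio_orderOf (by rw [hfo]; exact b'.2)
        (by rw [hfo]; exact b.2) (mul_inv_eq_one.1 hb)
      exact Prod.ext (Fin.ext ea.symm) (Fin.ext eb.symm)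
    have := Fintype.card_le_of_injective _ hinj
    simp at this
    omega
  obtain ⟨i, hi⟩ := (isOfFinOrder_of_finite h).mem_powers_iff_mem_zpowers.2 hmem
  refine ⟨i, fun x hx => ?_⟩
  have h2 := congrArg (fun a : ↥A => (((a : MulAut ↥U) ⟨x, hx⟩ : ↥U) : X)) hi
  simp only [hh, hf, SubgroupClass.coe_pow, ← map_pow, hρ] at h2
  exact h2.symm

end CfsgLib.Goldschmidt
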