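import Cfsg.Agent.Lib.Goldschmidt.Defs
import Cfsg.Agent.Lib.Walter.RankFour.Reduced
import Cfsg.Agent.Lib.Walter.RankFour.Irreducible
import Cfsg.Agent.Lib.Components.Local
import Cfsg.Agent.Lib.PF.OddOrder

/-!
# Goldschmidt: lifting the components moved by a strongly closed subgroup

A component `L` of `C(u)/O(C(u))` moved by the elementary subgroup `A` has a perfect `A`-invariant lift `P`
inside the centralizer of any part of `A` centralising `L`; `P` contains a cycle whose fixed points on `A` are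
exactly `cenPart A u L`, and it has no proper normal subgroup meeting the piece of `L`.
-/

set_option autoImplicit false
set_option linter.unusedSectionVars false
set_option linter.style.haveILetI false

namespace CfsgLib.Goldschmidt

open Subgroup Pointwise CfsgLib.Walter.RankFour

universe u

variable {G : Type u} [Group G] [Finite G]

local instance : Fact (Nat.Prime 2) := ⟨Nat.prime_two⟩

/-- The part of `A` centralising a component of `C(u)/O(C(u))`. -/
def cenPart (A : Subgroup G) (u : G) (L : Subgroup (CenBar u)) : Subgroup G :=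
  A ⊓ ((centralizer (L : Set (CenBar u))).comap (bar u)).map (cen u).subtype

variable {A : Subgroup G} {u : G}

theorem mem_cenPart {L : Subgroup (CenBar u)} {x : G} :
    x ∈ cenPart A u L ↔ x ∈ A ∧ ∃ h : x ∈ cen u, bar u ⟨x, h⟩ ∈ centralizer (L : Set (CenBar u)) := by
  simp only [cenPart, mem_inf, Subgroup.mem_map, mem_comap, subtype_apply]
  refine and_congr_right fun _ => ⟨?_, fun ⟨h, hL⟩ => ⟨⟨x, h⟩, hL, rfl⟩⟩
  rintro ⟨y, hy, rfl⟩
  exact ⟨y.2, hy⟩

theorem mem_aPiece {L : Subgroup (CenBar u)} {x : G} :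
    x ∈ piece A u L ↔ x ∈ A ∧ ∃ h : x ∈ cen u, bar u ⟨x, h⟩ ∈ L := by
  simp only [piece, mem_inf, Subgroup.mem_map, mem_comap, subtype_apply]
  refine and_congr_right fun _ => ⟨?_, fun ⟨h, hL⟩ => ⟨⟨x, h⟩, hL, rfl⟩⟩
  rintro ⟨y, hy, rfl⟩
  exact ⟨y.2, hy⟩

variable (hA : Cfsg.IsElementaryAbelian 2 A)

include hA

theorem aComm {x y : G} (hx : x ∈ A) (hy : y ∈ A) : x * y = y * x := by
  haveI := hA.1
  exact congrArg Subtype.val (mul_comm' (⟨x, hx⟩ : A) ⟨y, hy⟩)

theorem a_le_cen (hu : u ∈ A) : A ≤ cen u :=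
  fun _ hs => mem_centralizer_singleton_iff.2 (aComm hA hs hu)

theorem a_isPGroup : IsPGroup 2 ↥(A.subgroupOf (cen u)) :=
  IsPGroup.comap_of_injective
    (fun ⟨x, hx⟩ => ⟨1, Subtype.ext (by simpa using hA.2 x hx)⟩) _ (subtype_injective _)

theorem aBar_eq_one {x : ↥(cen u)} (hx : (x : G) ∈ A) (h : bar u x = 1) : x = 1 := by
  have h1 : x ∈ Cfsg.pPrimeCore 2 ↥(cen u) := (QuotientGroup.eq_one_iff x).1 h
  have h3 : A.subgroupOf (cen u) ⊓ Cfsg.pPrimeCore 2 ↥(cen u) = ⊥ :=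
    CfsgLib.PCore.inf_eq_bot_of_isPGroup_coprime (a_isPGroup hA) CfsgLib.PCore.pPrimeCore_coprime
  exact mem_bot.1 (h3.le ⟨hx, h1⟩)

theorem aBar_injOn {x y : ↥(cen u)} (hx : (x : G) ∈ A) (hy : (y : G) ∈ A)
    (h : bar u x = bar u y) : x = y :=
  mul_inv_eq_one.1 (aBar_eq_one hA (x := x * y⁻¹) (mul_mem hx (inv_mem hy))
    (by rw [map_mul, map_inv, h, mul_inv_cancel]))

theorem aImg_comm : ∀ x ∈ img u A, ∀ y ∈ img u A, x * y = y * x := by
  rintro _ ⟨x, hx, rfl⟩ _ ⟨y, hy, rfl⟩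
  rw [← map_mul, ← map_mul, show x * y = y * x from Subtype.ext (aComm hA hx hy)]

theorem aImg_elem : Cfsg.IsElementaryAbelian 2 (img u A) := by
  refine ⟨⟨⟨fun x y => Subtype.ext (aImg_comm hA _ x.2 _ y.2)⟩⟩, ?_⟩
  rintro _ ⟨x, hx, rfl⟩
  rw [← map_pow, show x ^ 2 = 1 from Subtype.ext (by simpa using hA.2 _ hx), map_one]

theorem aImg_card (hu : u ∈ A) : Nat.card (img u A) = Nat.card A := by
  refine (Nat.card_eq_of_bijective (fun a : A => (⟨bar u ⟨a, a_le_cen hA hu a.2⟩,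
    mem_map_of_mem _ (show (⟨(a : G), a_le_cen hA hu a.2⟩ : ↥(cen u)) ∈ A.subgroupOf (cen u) from a.2)⟩ :
      img u A)) ⟨?_, ?_⟩).symm
  · intro a b h
    exact Subtype.ext (congrArg (Subtype.val : ↥(cen u) → G) (aBar_injOn hA a.2 b.2 (congrArg Subtype.val h)))
  · rintro ⟨_, x, hx, rfl⟩
    exact ⟨⟨x, hx⟩, rfl⟩

theorem aPiece_card {L : Subgroup (CenBar u)} :
    Nat.card (piece A u L) = Nat.card (img u A ⊓ L : Subgroup (CenBar u)) := by
  refine Nat.card_eq_of_bijective (fun z : piece A u L =>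
    (⟨bar u ⟨z, (mem_aPiece.1 z.2).2.choose⟩,
      ⟨⟨z, (mem_aPiece.1 z.2).2.choose⟩, z.2.1, rfl⟩, (mem_aPiece.1 z.2).2.choose_spec⟩ :
      (img u A ⊓ L : Subgroup (CenBar u)))) ⟨?_, ?_⟩
  · intro a b h
    exact Subtype.ext (congrArg (Subtype.val : ↥(cen u) → G)
      (aBar_injOn hA (mem_aPiece.1 a.2).1 (mem_aPiece.1 b.2).1 (congrArg Subtype.val h)))
  · rintro ⟨_, ⟨z, hz, rfl⟩, hzL⟩
    exact ⟨⟨z, mem_aPiece.2 ⟨hz, z.2, hzL⟩⟩, rfl⟩

omit hA in
/-- For a component with centre missing `B` the moved part is `B ∩ L`. -/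
theorem compCycle_eq_inf {H : Type u} [Group H] {B L W : Subgroup H} {g : H}
    (hc : CompCycle B L W g) (hfree : B ⊓ L ⊓ centralizer (L : Set H) = ⊥) : W = B ⊓ L := by
  refine le_antisymm (le_inf hc.cycle.le hc.le) fun b hb => ?_
  obtain ⟨w, hw, hbw⟩ := hc.exists_mul b hb.1
  have h1 : b * w ∈ B ⊓ L ⊓ centralizer (L : Set H) :=
    ⟨⟨mul_mem hb.1 (hc.cycle.le hw), mul_mem hb.2 (hc.le hw)⟩, hbw⟩
  rw [hfree, mem_bot] at h1
  rw [eq_inv_of_mul_eq_one_left h1]
  exact inv_mem hw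

/-- Transferring a cycle from `CenBar u` to `G`. -/
theorem aCycle_lift (hu : u ∈ A) {L : Subgroup (CenBar u)} {y : ↥(cen u)}
    (hy : (y : G) ∈ normalizer (A : Set G))
    (hc : Cycle (img u A) (img u A ⊓ L) (bar u y)) :
    Cycle A (piece A u L) (y : G) := by
  have hAC := a_le_cen hA hu
  refine ⟨hy, fun x hx => hx.1, (aPiece_card hA).ge.trans' hc.four_le, fun s hs => ?_,
    fun a ha ha1 b hb hb1 => ?_⟩
  · have hs' : (y : G) * s * (y : G)⁻¹ ∈ A := (mem_normalizer_iff.1 hy s).1 hs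
    refine mem_aPiece.2 ⟨mul_mem hs' (inv_mem hs), mul_mem (hAC hs') (inv_mem (hAC hs)), ?_⟩
    have h := hc.move _ (mem_map_of_mem (bar u) (show (⟨s, hAC hs⟩ : ↥(cen u)) ∈
      A.subgroupOf (cen u) from hs))
    simp only [← map_mul, ← map_inv] at h
    exact h.2
  · obtain ⟨haS, haC, haL⟩ := mem_aPiece.1 ha
    obtain ⟨hbS, hbC, hbL⟩ := mem_aPiece.1 hb
    obtain ⟨i, hi⟩ := hc.trans (bar u ⟨a, haC⟩) ⟨⟨⟨a, haC⟩, haS, rfl⟩, haL⟩
      (fun h => ha1 (congrArg Subtype.val (aBar_eq_one hA (x := ⟨a, haC⟩) haS h)))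
      (bar u ⟨b, hbC⟩) ⟨⟨⟨b, hbC⟩, hbS, rfl⟩, hbL⟩
      (fun h => hb1 (congrArg Subtype.val (aBar_eq_one hA (x := ⟨b, hbC⟩) hbS h)))
    refine ⟨i, ?_⟩
    simp only [← map_pow, ← map_mul, ← map_inv] at hi
    have hmem : (y : G) ^ i * a * ((y : G) ^ i)⁻¹ ∈ A := (mem_normalizer_iff.1 (pow_mem hy i) a).1 haS
    exact congrArg Subtype.val (aBar_injOn hA (x := y ^ i * ⟨a, haC⟩ * (y ^ i)⁻¹) (y := ⟨b, hbC⟩)
      (by simpa using hmem) hbS hi)

omit hA in
/-- `P` has no proper normal subgroup meeting `W`. -/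
def NoNormalMeets (P W : Subgroup G) : Prop :=
  ∀ N : Subgroup G, N ≤ P → P ≤ normalizer (N : Set G) → N ⊓ W ≠ ⊥ → N = P

/-- A perfect lift of a component, inside `C(u) ∩ C(W₀)`, containing a cycle. -/
theorem exists_aLift (hu : u ∈ A) {W₀ : Subgroup G} (hW₀ : W₀ ≤ A) {L : Subgroup (CenBar u)}
    (hL : IsAComp (img u A) L) (hnorm : img u A ≤ normalizer (L : Set (CenBar u)))
    {W : Subgroup (CenBar u)} {g₀ : CenBar u} (hc : CompCycle (img u A) L W g₀)
    (hfree : img u A ⊓ L ⊓ centralizer (L : Set (CenBar u)) = ⊥)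
    (hwL : img u W₀ ≤ centralizer (L : Set (CenBar u))) :
    ∃ P : Subgroup G, ⁅P, P⁆ = P ∧ P ≤ cen u ∧ P ≤ centralizer (W₀ : Set G) ∧
      A ≤ normalizer (P : Set G) ∧ NoNormalMeets P (piece A u L) ∧
      (P.subgroupOf (cen u)).map (bar u) = L ∧
      ∃ g ∈ P, Cycle A (piece A u L) g ∧
        ∀ a ∈ A, g * a * g⁻¹ = a ↔ a ∈ cenPart A u L := by
  classical
  have hAC := a_le_cen hA hu
  have hWeq := compCycle_eq_inf hc hfree
  have hcyc : Cycle (img u A) (img u A ⊓ L) g₀ := hWeq ▸ hc.cycle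
  set π := bar u with hπ
  set O := Cfsg.pPrimeCore 2 ↥(cen u) with hO
  set A' : Subgroup ↥(cen u) := A.subgroupOf (cen u) with hA'def
  set W₁ : Subgroup ↥(cen u) := W₀.subgroupOf (cen u) with hW₁
  set X : Subgroup ↥(cen u) := L.comap π ⊓ centralizer (W₁ : Set ↥(cen u)) with hXdef
  have hXmap : X.map π = L := by
    refine le_antisymm ((Subgroup.map_mono inf_le_left).trans (map_comap_le _ _)) fun l hl => ?_
    have h := CfsgLib.Components.map_centralizer_quotient (p := 2)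
      (O := Cfsg.pPrimeCore 2 ↥(cen u)) CfsgLib.PCore.pPrimeCore_coprime (P := W₁)
      ((a_isPGroup (u := u) hA).to_le (comap_mono hW₀))
    have hlc : l ∈ centralizer ((W₁.map π : Subgroup (CenBar u)) : Set (CenBar u)) :=
      mem_centralizer_iff.2 fun m hm => (mem_centralizer_iff.1 (hwL hm) l hl).symm
    obtain ⟨c, hc, rfl⟩ := h.ge hlc
    exact ⟨c, ⟨hl, hc⟩, rfl⟩
  obtain ⟨n, hn⟩ : ∃ n, derivedSeries ↥X n = derivedSeries ↥X (n + 1) := by
    by_contra hne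
    push Not at hne
    have hlt : ∀ n, Nat.card ↥(derivedSeries ↥X n) + n ≤ Nat.card ↥X := by
      intro n
      induction n with
      | zero => simp
      | succ n ih =>
        have h1 : derivedSeries ↥X (n + 1) ≤ derivedSeries ↥X n := derivedSeries_antitone _ (by omega)
        have h2 : Nat.card ↥(derivedSeries ↥X (n + 1)) < Nat.card ↥(derivedSeries ↥X n) := by
          refine lt_of_le_of_ne (Nat.le_of_dvd Nat.card_pos (card_dvd_of_le h1)) fun h => hne n ?_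
          exact (Subgroup.eq_of_le_of_card_ge h1 h.ge).symm
        omega
    have h1 := hlt (Nat.card ↥X + 1)
    omega
  set D := derivedSeries ↥X n with hDdef
  have hDD : ⁅D, D⁆ = D := hn.symm
  set Q : Subgroup ↥(cen u) := D.map X.subtype with hQdef
  set P : Subgroup G := Q.map (cen u).subtype with hPdef
  have hQX : Q ≤ X := map_subtype_le D
  have hQQ : ⁅Q, Q⁆ = Q := by rw [hQdef, ← map_commutator, hDD]
  have hPmem : ∀ y : ↥(cen u), (y : G) ∈ P ↔ y ∈ Q := fun y =>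
    Subgroup.mem_map_iff_mem (subtype_injective _)
  have hPsub : P.subgroupOf (cen u) = Q := by ext y; rw [mem_subgroupOf, hPmem]
  have hQmap : Q.map π = L := by
    have key : ∀ m, L ≤ ((derivedSeries ↥X m).map X.subtype).map π := by
      intro m
      induction m with
      | zero =>
        rw [derivedSeries_zero, ← MonoidHom.range_eq_map, range_subtype, hXmap]
      | succ m ih =>
        rw [derivedSeries_succ, map_commutator, map_commutator]
        exact (CfsgLib.Components.component_commutator_self hL.1).ge.trans (commutator_mono ih ih)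
    exact le_antisymm ((Subgroup.map_mono hQX).trans hXmap.le) (key n)
  have hAX : A' ≤ normalizer (X : Set ↥(cen u)) := by
    intro s hs
    rw [mem_normalizer_iff]
    intro x
    have hsn : π s ∈ normalizer (L : Set (CenBar u)) := hnorm (mem_map_of_mem π hs)
    simp only [hXdef, mem_inf, mem_comap, map_mul, map_inv, mem_centralizer_iff]
    refine and_congr (mem_normalizer_iff.1 hsn (π x)) (forall₂_congr fun w hw => ?_)
    have hsw : Commute w s := Subtype.ext (aComm hA (hW₀ hw) hs)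
    refine ⟨fun h => ?_, fun h => ?_⟩
    · exact ((hsw.mul_right (show Commute w x from h)).mul_right hsw.inv_right).eq
    · have h2 := (hsw.inv_right.mul_right (show Commute w (s * x * s⁻¹) from h)).mul_right hsw
      simpa [mul_assoc] using h2.eq
  have hAQ : A' ≤ normalizer (Q : Set ↥(cen u)) := by
    intro s hs
    haveI : (derivedSeries ↥X n).Characteristic := derivedSeries_characteristic _ _
    exact CfsgLib.Structure.normalizer_le_normalizer_map_subtype X D (hAX hs)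
  obtain ⟨x, hxQ, hx₀⟩ : ∃ x ∈ Q, π x = g₀ := hQmap.ge hc.mem
  -- the Sylow conjugation takes place inside `Q A`
  set Y : Subgroup ↥(cen u) := Q ⊔ A' with hYdef
  have hYset : (Y : Set ↥(cen u)) = (Q : Set ↥(cen u)) * A' :=
    coe_mul_of_right_le_normalizer_left Q A' hAQ
  set Z : Subgroup ↥(cen u) := Y ⊓ (img u A).comap π with hZdef
  have hA'Z : A' ≤ Z := le_inf le_sup_right fun s hs => mem_map_of_mem π hs
  set A'' : Subgroup ↥(cen u) := A'.map (MulAut.conj x).toMonoidHom with hA''def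
  have hA''Z : A'' ≤ Z := by
    rintro _ ⟨s, hs, rfl⟩
    have hxY : x ∈ Y := mem_sup_left hxQ
    have hsY : s ∈ Y := mem_sup_right hs
    refine ⟨Y.mul_mem (Y.mul_mem hxY hsY) (Y.inv_mem hxY), ?_⟩
    show π (x * s * x⁻¹) ∈ img u A
    rw [map_mul, map_mul, map_inv, hx₀]
    exact (mem_normalizer_iff.1 hcyc.mem_normalizer (π s)).1 (mem_map_of_mem π hs)
  have hcA' : Nat.card A' = Nat.card A := Nat.card_congr (subgroupOfEquivOfLe hAC).toEquiv
  have hcZ : Nat.card Z ∣ Nat.card O * Nat.card A := by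
    rw [← aImg_card hA hu, ← CfsgLib.PCore.card_comap_mk' O (img u A)]
    exact card_dvd_of_le inf_le_right
  have hidx : ∀ B : Subgroup ↥(cen u), B ≤ Z → Nat.card B = Nat.card A → ¬ 2 ∣ (B.subgroupOf Z).index := by
    intro B hB hBc h2
    have h1 := card_mul_index (B.subgroupOf Z)
    rw [Nat.card_congr (subgroupOfEquivOfLe hB).toEquiv, hBc, mul_comm] at h1
    have h3 : (B.subgroupOf Z).index ∣ Nat.card O :=
      Nat.dvd_of_mul_dvd_mul_right Nat.card_pos (h1.symm ▸ hcZ)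
    exact Nat.prime_two.coprime_iff_not_dvd.1 CfsgLib.PCore.pPrimeCore_coprime.symm (h2.trans h3)
  have hA'p : IsPGroup 2 A' := a_isPGroup hA
  have hA''p : IsPGroup 2 A'' := hA'p.map _
  let R₁ : Sylow 2 Z := IsPGroup.toSylow (hA''p.comap_subtype (K := Z))
    (hidx A'' hA''Z (by rw [hA''def, card_map_of_injective (MulAut.conj x).injective, hcA']))
  let R₂ : Sylow 2 Z := IsPGroup.toSylow (hA'p.comap_subtype (K := Z)) (hidx A' hA'Z hcA')
  obtain ⟨z, hz⟩ := MulAction.exists_smul_eq ↥Z R₁ R₂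
  have hzx : ∀ s ∈ A', (z : ↥(cen u)) * x * s * ((z : ↥(cen u)) * x)⁻¹ ∈ A' := by
    intro s hs
    have h1 : (⟨x * s * x⁻¹, hA''Z ⟨s, hs, rfl⟩⟩ : Z) ∈ (R₁ : Subgroup Z) :=
      mem_subgroupOf.2 (show x * s * x⁻¹ ∈ A'' from ⟨s, hs, rfl⟩)
    have h2 : z * ⟨x * s * x⁻¹, hA''Z ⟨s, hs, rfl⟩⟩ * z⁻¹ ∈ (R₂ : Subgroup Z) := by
      rw [← hz, Sylow.coe_subgroup_smul, Subgroup.mem_smul_pointwise_iff_exists]
      exact ⟨_, h1, rfl⟩
    have h3 : (z : ↥(cen u)) * (x * s * x⁻¹) * (z : ↥(cen u))⁻¹ ∈ A' := mem_subgroupOf.1 h2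
    rwa [show (z : ↥(cen u)) * x * s * ((z : ↥(cen u)) * x)⁻¹ =
      (z : ↥(cen u)) * (x * s * x⁻¹) * (z : ↥(cen u))⁻¹ by group]
  obtain ⟨a, ha, s, hs, hzas⟩ : ∃ a ∈ Q, ∃ s ∈ A', a * s = (z : ↥(cen u)) := by
    have hzY : (z : ↥(cen u)) ∈ (Y : Set ↥(cen u)) := z.2.1
    rw [hYset] at hzY
    exact hzY
  set g : ↥(cen u) := s⁻¹ * ((z : ↥(cen u)) * x) with hgdef
  have hgQ : g ∈ Q := by
    have h1 : s⁻¹ * a * s ∈ Q := by
      simpa using (mem_normalizer_iff.1 (hAQ (inv_mem hs)) a).1 ha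
    rw [hgdef, ← hzas]
    simpa [mul_assoc] using mul_mem h1 hxQ
  have hgA : ∀ t ∈ A', g * t * g⁻¹ ∈ A' := by
    intro t ht
    have he : g * t * g⁻¹ = s⁻¹ * ((z : ↥(cen u)) * x * t * ((z : ↥(cen u)) * x)⁻¹) * s := by
      rw [hgdef]; group
    rw [he]
    exact mul_mem (mul_mem (inv_mem hs) (hzx t ht)) hs
  have hgN : (g : G) ∈ normalizer (A : Set G) := by
    refine mem_normalizer_iff_map_conj_eq.2 (eq_of_le_of_card_ge ?_ ?_)
    · rintro _ ⟨t, ht, rfl⟩
      exact hgA ⟨t, hAC ht⟩ ht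
    · rw [card_map_of_injective (MulAut.conj (g : G)).injective]
  -- the element `g` acts on the image of `A` as `g₀`
  have hgx : ∀ t ∈ img u A, π g * t * (π g)⁻¹ = g₀ * t * g₀⁻¹ := by
    intro t ht
    have hx' := (mem_normalizer_iff.1 hcyc.mem_normalizer t).1 ht
    have hzc : π (z : ↥(cen u)) ∈ img u A := z.2.2
    have hsc : π s⁻¹ ∈ img u A := mem_map_of_mem π (inv_mem hs)
    rw [hgdef, map_mul, map_mul, hx₀]
    have hm := aImg_comm hA _ (mul_mem hsc hzc) _ hx'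
    calc π s⁻¹ * (π z * g₀) * t * (π s⁻¹ * (π z * g₀))⁻¹
        = (π s⁻¹ * π z) * (g₀ * t * g₀⁻¹) * (π s⁻¹ * π z)⁻¹ := by group
      _ = g₀ * t * g₀⁻¹ := by rw [hm, mul_inv_cancel_right]
  have hgimg : ∀ t ∈ img u A, π g * t * (π g)⁻¹ ∈ img u A := fun t ht => by
    rw [hgx t ht]; exact (mem_normalizer_iff.1 hcyc.mem_normalizer t).1 ht
  have hcg : Cycle (img u A) (img u A ⊓ L) (π g) := by
    refine ⟨mem_normalizer_iff_map_conj_eq.2 (eq_of_le_of_card_ge ?_ ?_), hcyc.le, hcyc.four_le,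
      fun t ht => ?_, fun a ha ha1 b hb hb1 => ?_⟩
    · rintro _ ⟨t, ht, rfl⟩
      exact hgimg t ht
    · rw [card_map_of_injective (MulAut.conj (π g)).injective]
    · rw [hgx t ht]; exact hcyc.move t ht
    · obtain ⟨i, hi⟩ := hcyc.trans a ha ha1 b hb hb1
      refine ⟨i, ?_⟩
      have hpow : ∀ j : ℕ, ∀ t ∈ img u A,
          π g ^ j * t * (π g ^ j)⁻¹ = g₀ ^ j * t * (g₀ ^ j)⁻¹ := by
        intro j
        induction j with
        | zero => intro t _; simp
        | succ j ih =>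
          intro t ht
          have h1 := (mem_normalizer_iff.1 hcyc.mem_normalizer t).1 ht
          calc π g ^ (j + 1) * t * (π g ^ (j + 1))⁻¹
              = π g ^ j * (π g * t * (π g)⁻¹) * (π g ^ j)⁻¹ := by rw [pow_succ]; group
            _ = g₀ ^ j * (g₀ * t * g₀⁻¹) * (g₀ ^ j)⁻¹ := by rw [hgx t ht, ih _ h1]
            _ = g₀ ^ (j + 1) * t * (g₀ ^ (j + 1))⁻¹ := by rw [pow_succ]; group
      rw [hpow i a ha.1]; exact hi
  refine ⟨P, ?_, map_subtype_le Q, ?_, ?_, ?_, by rw [hPsub, hQmap], (g : G), (hPmem g).2 hgQ,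
    aCycle_lift hA hu hgN hcg, fun b hb => ?_⟩
  · rw [hPdef, ← map_commutator, hQQ]
  · rintro _ ⟨y, hy, rfl⟩
    exact mem_centralizer_iff.2 fun w hw => congrArg Subtype.val
      (mem_centralizer_iff.1 (hQX hy).2 ⟨w, hAC (hW₀ hw)⟩ hw)
  · refine le_normalizer_iff.2 fun t ht y hy => ?_
    obtain ⟨y, hy, rfl⟩ := hy
    exact ⟨_, (mem_normalizer_iff.1 (hAQ (show (⟨t, hAC ht⟩ : ↥(cen u)) ∈ A' from ht)) y).1 hy, rfl⟩
  · -- no proper normal subgroup meets the piece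
    intro N hNP hPN hNV
    set N₁ : Subgroup ↥(cen u) := N.subgroupOf (cen u) with hN₁
    have hN₁Q : N₁ ≤ Q := fun y hy => (hPmem y).1 (hNP hy)
    have hQN₁ : Q ≤ normalizer (N₁ : Set ↥(cen u)) := fun q hq =>
      mem_normalizer_iff.2 fun y => mem_normalizer_iff.1 (hPN ((hPmem q).2 hq)) (y : G)
    obtain ⟨v, hv, hv1⟩ := (Subgroup.bot_or_exists_ne_one _).resolve_left hNV
    obtain ⟨hvA, hvC, hvL⟩ := mem_aPiece.1 hv.2
    have hN₁L : N₁.map π ≤ L := (Subgroup.map_mono hN₁Q).trans hQmap.le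
    haveI : ((N₁.map π).subgroupOf L).Normal := by
      refine normal_subgroupOf_of_le_normalizer ?_
      rw [← hQmap]
      exact (Subgroup.map_mono hQN₁).trans (le_normalizer_map π)
    have htop : N₁.map π = L := by
      rcases CfsgLib.Components.quasisimple_normal_eq_top_or_le_center hL.1.2
        ((N₁.map π).subgroupOf L) with h | h
      · exact le_antisymm hN₁L (subgroupOf_eq_top.1 h)
      · exfalso
        have hm : (⟨π ⟨v, hvC⟩, hvL⟩ : L) ∈ (N₁.map π).subgroupOf L :=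
          mem_subgroupOf.2 (mem_map_of_mem π (show (⟨v, hvC⟩ : ↥(cen u)) ∈ N₁ from hv.1))
        have hvc : π ⟨v, hvC⟩ ∈ centralizer (L : Set (CenBar u)) := mem_centralizer_iff.2 fun l hl =>
          congrArg Subtype.val (mem_center_iff.1 (h hm) ⟨l, hl⟩)
        have h1 : π ⟨v, hvC⟩ ∈ img u A ⊓ L ⊓ centralizer (L : Set (CenBar u)) :=
          ⟨⟨mem_map_of_mem π (show (⟨v, hvC⟩ : ↥(cen u)) ∈ A' from hvA), hvL⟩, hvc⟩
        rw [hfree, mem_bot] at h1
        exact hv1 (congrArg Subtype.val (aBar_eq_one hA (x := ⟨v, hvC⟩) hvA h1))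
    haveI : (N₁.subgroupOf Q).Normal := normal_subgroupOf_of_le_normalizer hQN₁
    have hQperf : ⁅(⊤ : Subgroup ↥Q), (⊤ : Subgroup ↥Q)⁆ = (⊤ : Subgroup ↥Q) := by
      apply map_injective Q.subtype_injective
      rw [map_commutator, ← MonoidHom.range_eq_map, range_subtype, hQQ]
    have hsolv : Group.IsSolvable ↥(O.subgroupOf Q) := by
      refine CfsgLib.PF.oddSolvable _ (Odd.of_dvd_nat ?_
        (card_comap_dvd_of_injective O Q.subtype Q.subtype_injective))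
      exact Nat.coprime_two_right.1 CfsgLib.PCore.pPrimeCore_coprime
    have hle : (⊤ : Subgroup ↥Q) ≤ N₁.subgroupOf Q ⊔ O.subgroupOf Q := by
      intro q _
      obtain ⟨m, hm, hmq⟩ := htop.ge (hQmap.le (mem_map_of_mem π q.2))
      have hqO : m⁻¹ * (q : ↥(cen u)) ∈ O := by
        rw [← QuotientGroup.eq_one_iff]
        show π (m⁻¹ * (q : ↥(cen u))) = 1
        rw [map_mul, map_inv, hmq, inv_mul_cancel]
      rw [show q = (⟨m, hN₁Q hm⟩ : Q) * ⟨m⁻¹ * (q : ↥(cen u)), mul_mem (inv_mem (hN₁Q hm)) q.2⟩ from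
        Subtype.ext (by simp)]
      exact mul_mem_sup (mem_subgroupOf.2 hm) (mem_subgroupOf.2 hqO)
    have hfull := perfect_le_of_sup hQperf hsolv hle
    refine le_antisymm hNP ?_
    rintro _ ⟨q, hq, rfl⟩
    exact mem_subgroupOf.1 (mem_subgroupOf.1 (hfull (mem_top ⟨q, hq⟩)))
  · -- the fixed points
    have hbg : π g * π ⟨b, hAC hb⟩ * (π g)⁻¹ = g₀ * π ⟨b, hAC hb⟩ * g₀⁻¹ :=
      hgx _ (mem_map_of_mem π (show (⟨b, hAC hb⟩ : ↥(cen u)) ∈ A' from hb))
    refine ⟨fun hfx => mem_cenPart.2 ⟨hb, hAC hb, hc.of_fix _ (mem_map_of_mem π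
      (show (⟨b, hAC hb⟩ : ↥(cen u)) ∈ A' from hb)) ?_⟩, fun hcp => ?_⟩
    · rw [← hbg, ← map_mul, ← map_inv, ← map_mul]
      exact congrArg π (Subtype.ext hfx)
    · obtain ⟨_, hbC, hbL⟩ := mem_cenPart.1 hcp
      refine congrArg Subtype.val (aBar_injOn hA (x := g * ⟨b, hAC hb⟩ * g⁻¹) (y := ⟨b, hAC hb⟩)
        ((mem_normalizer_iff.1 hgN b).1 hb) hb ?_)
      rw [map_mul, map_mul, map_inv, hbg, mem_centralizer_iff.1 hbL _ hc.mem, mul_inv_cancel_right]

end CfsgLib.Goldschmidt
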