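import Mathlib

/-!
# Piece families in an elementary abelian 2-group

The linear part of Goldschmidt's strongly closed abelian theorem. `V` is the strongly closed elementary
group, `F` its automizer and a piece is a pair `(U, W)`: `W` is the part of `V` in a component and `U`
the part centralising it.
-/

set_option autoImplicit false
set_option linter.unusedSectionVars false

namespace CfsgLib.Goldschmidt

open Subgroup

universe u

variable {V : Type u} [CommGroup V]

/-- The image of a pair of subgroups under an automorphism. -/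
abbrev mapPair (f : MulAut V) (p : Subgroup V × Subgroup V) : Subgroup V × Subgroup V :=
  (p.1.map f.toMonoidHom, p.2.map f.toMonoidHom)

/-- `g` fixes `U` pointwise, leaves `W` invariant and permutes `W ∖ 1` transitively. -/
structure IsPieceCycle (U W : Subgroup V) (g : MulAut V) : Prop where
  fix : ∀ x ∈ U, g x = x
  maps : ∀ x ∈ W, g x ∈ W
  trans : ∀ x ∈ W, x ≠ 1 → ∀ y ∈ W, y ≠ 1 → ∃ n : ℕ, (g ^ n) x = y

/-- A piece family for the group `F` of automorphisms. -/
structure IsPieceFamily (F : Subgroup (MulAut V)) (P : Set (Subgroup V × Subgroup V)) : Prop where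
  map_mem : ∀ f ∈ F, ∀ p ∈ P, mapPair f p ∈ P
  isCompl : ∀ p ∈ P, IsCompl p.1 p.2
  ne_bot : ∀ p ∈ P, p.1 ≠ ⊥
  card_le : ∀ p ∈ P, Nat.card p.1 ≤ Nat.card p.2
  eq_of_meet : ∀ p ∈ P, ∀ q ∈ P, p.1 ⊓ q.1 ≠ ⊥ → p = q
  exists_cycle : ∀ p ∈ P, ∃ g ∈ F, IsPieceCycle p.1 p.2 g ∧
    ∀ f ∈ F, mapPair f p = p → f * g * f⁻¹ ∈ zpowers g

theorem mapPair_mul (a b : MulAut V) (p : Subgroup V × Subgroup V) :
    mapPair (a * b) p = mapPair a (mapPair b p) := by
  show (_, _) = (_, _)
  rw [Subgroup.map_map, Subgroup.map_map]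
  rfl

theorem mapPair_one (p : Subgroup V × Subgroup V) : mapPair (1 : MulAut V) p = p := by
  show (_, _) = p
  have h : ((1 : MulAut V) : V ≃* V).toMonoidHom = MonoidHom.id V := rfl
  rw [h, Subgroup.map_id, Subgroup.map_id]

theorem mem_map_auto {f : MulAut V} {X : Subgroup V} {x : V} (hx : x ∈ X) :
    f x ∈ X.map f.toMonoidHom :=
  mem_map_of_mem f.toMonoidHom hx

theorem mem_map_auto_iff {f : MulAut V} {X : Subgroup V} {x : V} :
    x ∈ X.map f.toMonoidHom ↔ ∃ y ∈ X, f y = x :=
  mem_map

theorem card_map_auto (f : MulAut V) (X : Subgroup V) :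
    Nat.card (X.map f.toMonoidHom) = Nat.card X :=
  card_map_of_injective (f := f.toMonoidHom) f.injective

variable [Finite V]

theorem map_eq_of_maps {f : MulAut V} {X : Subgroup V} (h : ∀ x ∈ X, f x ∈ X) :
    X.map f.toMonoidHom = X := by
  refine eq_of_le_of_card_ge ?_ (card_map_auto f X).ge
  rintro _ ⟨x, hx, rfl⟩
  exact h x hx

theorem map_ne_bot {f : MulAut V} {X : Subgroup V} (h : X ≠ ⊥) : X.map f.toMonoidHom ≠ ⊥ :=
  fun h0 => h ((Subgroup.map_eq_bot_iff_of_injective _ f.injective).1 h0)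

namespace IsPieceCycle

variable {U W : Subgroup V} {g : MulAut V} (hc : IsPieceCycle U W g) (hUW : IsCompl U W)
include hc

theorem fix_pow (n : ℕ) : ∀ x ∈ U, (g ^ n) x = x := by
  induction n with
  | zero => intro x _; rw [pow_zero, MulAut.one_apply]
  | succ k ih => intro x hx; rw [pow_succ, MulAut.mul_apply, hc.fix x hx, ih x hx]

theorem maps_pow (n : ℕ) : ∀ x ∈ W, (g ^ n) x ∈ W := by
  induction n with
  | zero => intro x hx; rw [pow_zero, MulAut.one_apply]; exact hx
  | succ k ih => intro x hx; rw [pow_succ, MulAut.mul_apply]; exact ih _ (hc.maps x hx)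

include hUW

omit hc in
/-- Every element is a product of an element of `U` and one of `W`. -/
theorem exists_mul (x : V) : ∃ a ∈ U, ∃ c ∈ W, a * c = x := by
  have hx : x ∈ U ⊔ W := by rw [hUW.sup_eq_top]; exact mem_top x
  exact mem_sup.1 hx

/-- A power of `g` fixing an element outside `U` is trivial. -/
theorem pow_eq_one_of_fix {n : ℕ} {x : V} (hx : x ∉ U) (h : (g ^ n) x = x) : g ^ n = 1 := by
  obtain ⟨a, ha, c, hcW, rfl⟩ := exists_mul hUW x
  have hc1 : c ≠ 1 := fun h1 => hx (by rw [h1, mul_one]; exact ha)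
  have hfc : (g ^ n) c = c := by
    rw [map_mul, hc.fix_pow n a ha] at h
    exact mul_left_cancel h
  apply MulEquiv.ext
  intro y
  rw [MulAut.one_apply]
  obtain ⟨b, hb, d, hd, rfl⟩ := exists_mul hUW y
  rw [map_mul, hc.fix_pow n b hb]
  congr 1
  by_cases hd1 : d = 1
  · rw [hd1, map_one]
  · obtain ⟨m, rfl⟩ := hc.trans c hcW hc1 d hd hd1
    rw [← MulAut.mul_apply, ← pow_add, add_comm n m, pow_add, MulAut.mul_apply, hfc]

/-- The transitive orbit has length `|W| - 1`. -/
theorem orderOf_eq (hW : W ≠ ⊥) : orderOf g + 1 = Nat.card W := by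
  classical
  haveI := Fintype.ofFinite V
  obtain ⟨⟨w, hw⟩, hw1⟩ := Subgroup.ne_bot_iff_exists_ne_one.1 hW
  have hw1' : w ≠ 1 := fun h => hw1 (Subtype.ext h)
  have hwU : w ∉ U := fun h => hw1' (by
    have hb : U ⊓ W = ⊥ := hUW.inf_eq_bot
    exact mem_bot.1 (hb ▸ mem_inf.2 ⟨h, hw⟩))
  have himg : (Finset.range (orderOf g)).image (fun n => (g ^ n) w) =
      (Finset.univ.filter (· ∈ W)).erase 1 := by
    ext y
    simp only [Finset.mem_image, Finset.mem_range, Finset.mem_erase, Finset.mem_filter, Finset.mem_univ,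
      true_and]
    constructor
    · rintro ⟨n, -, rfl⟩
      exact ⟨fun h => hw1' ((g ^ n).injective (h.trans (map_one (g ^ n)).symm)), hc.maps_pow n w hw⟩
    · rintro ⟨hy1, hy⟩
      obtain ⟨n, hn⟩ := hc.trans w hw hw1' y hy hy1
      exact ⟨n % orderOf g, Nat.mod_lt _ (orderOf_pos g), by rw [pow_mod_orderOf, hn]⟩
  have hinj : Set.InjOn (fun n => (g ^ n) w) (Finset.range (orderOf g) : Set ℕ) := by
    have haux : ∀ i j : ℕ, i ≤ j → j < orderOf g → (g ^ i) w = (g ^ j) w → i = j := by
      intro i j hle hj hij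
      obtain ⟨d, rfl⟩ := Nat.exists_eq_add_of_le hle
      rw [add_comm i d, pow_add, MulAut.mul_apply] at hij
      have hiU : (g ^ i) w ∉ U := fun h => hwU (by
        have h2 : (g ^ i) ((g ^ i) w) = (g ^ i) w := hc.fix_pow i _ h
        exact (g ^ i).injective h2 ▸ h)
      have hd := orderOf_dvd_of_pow_eq_one (hc.pow_eq_one_of_fix hUW hiU hij.symm)
      have := Nat.eq_zero_of_dvd_of_lt hd (by omega)
      omega
    intro i hi j hj hij
    simp only [Finset.coe_range, Set.mem_Iio] at hi hj
    simp only at hij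
    rcases le_total i j with h | h
    · exact haux i j h hj hij
    · exact (haux j i h hi hij.symm).symm
  have hcard := congrArg Finset.card himg
  rw [Finset.card_image_of_injOn hinj, Finset.card_range,
    Finset.card_erase_of_mem (by simp [one_mem])] at hcard
  have hWc : Nat.card W = (Finset.univ.filter (· ∈ W)).card := by
    rw [Nat.card_eq_fintype_card, Fintype.card_subtype]
  have hpos : 0 < Nat.card W := Nat.card_pos
  omega

end IsPieceCycle

end CfsgLib.Goldschmidt
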