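import Cfsg.Agent.Lib.Goldschmidt.RankThree.Pieces
import Cfsg.Agent.Lib.Coprime85.Invariant

/-!
# Goldschmidt's theorem: a minimal strongly closed subgroup of order eight

With `S ≤ C(A)` the elements of `S` agreeing with `A` on every component form a subgroup equal to `A`: a
complement invariant under `N(A) ∩ N(S)` would be strongly closed and disjoint from `A`.  So the components
have trivial centres, `A` covers their Sylow 2-subgroups, and `S = A` is abelian.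
-/

set_option autoImplicit false
set_option linter.unusedSectionVars false
set_option linter.style.haveILetI false

namespace CfsgLib.Goldschmidt

open Subgroup CfsgLib.Walter.RankFour
open scoped commutatorElement Pointwise

universe u

namespace RankThree

local instance : Fact (Nat.Prime 2) := ⟨Nat.prime_two⟩

variable {G : Type u} [Group G] [Finite G] {E : Setting G}

/-- An element commuting with `A` modulo a normalised centralizer. -/
theorem commutator_mem_centralizer {X : Type u} [Group X] {C : Subgroup X} {w s t : X}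
    (hwt : w * t = t * w) (hc : w⁻¹ * s ∈ C) (ht : t ∈ normalizer (C : Set X))
    (hw : w ∈ normalizer (C : Set X)) : s * t * s⁻¹ * t⁻¹ ∈ C := by
  set c := w⁻¹ * s with hcdef
  have h1 : c * (t * c⁻¹ * t⁻¹) ∈ C := mul_mem hc ((mem_normalizer_iff.1 ht _).1 (inv_mem hc))
  have e : s * t * s⁻¹ * t⁻¹ = w * (c * (t * c⁻¹ * t⁻¹)) * w⁻¹ := by
    have h2 : w⁻¹ * t⁻¹ = t⁻¹ * w⁻¹ := by rw [← mul_inv_rev, ← mul_inv_rev, hwt]
    calc s * t * s⁻¹ * t⁻¹ = (w * c) * t * c⁻¹ * (w⁻¹ * t⁻¹) := by rw [hcdef]; group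
      _ = _ := by rw [h2]; group
  rw [e]
  exact (mem_normalizer_iff.1 hw _).1 h1

/-- An element normalising `L` normalises `C(L)`. -/
theorem normalizer_centralizer {X : Type u} [Group X] [Finite X] {L : Subgroup X} {x : X}
    (hx : x ∈ normalizer (L : Set X)) : x ∈ normalizer ((centralizer (L : Set X) : Subgroup X) : Set X) := by
  have hmap : ∀ y ∈ normalizer (L : Set X), ∀ c ∈ centralizer (L : Set X),
      y * c * y⁻¹ ∈ centralizer (L : Set X) := by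
    intro y hy c hc
    refine mem_centralizer_iff.2 fun l hl => ?_
    have hl' : y⁻¹ * l * y ∈ L := by simpa using (mem_normalizer_iff.1 (inv_mem hy) l).1 hl
    calc l * (y * c * y⁻¹) = y * ((y⁻¹ * l * y) * c) * y⁻¹ := by group
      _ = y * (c * (y⁻¹ * l * y)) * y⁻¹ := by rw [mem_centralizer_iff.1 hc _ hl']
      _ = y * c * y⁻¹ * l := by group
  rw [mem_normalizer_iff]
  exact fun c => ⟨hmap x hx c, fun hc => by simpa [mul_assoc] using hmap _ (inv_mem hx) _ hc⟩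

/-- The hypotheses once `S` centralises `A`. -/
structure Full (E : Setting G) : Prop extends Hyp E where
  cent : (E.S : Subgroup G) ≤ centralizer (E.A : Set G)
  tight : ∀ u ∈ E.A, u ≠ 1 → ∀ L : Subgroup (CenBar u), IsAComp (img u E.A) L →
    FourTight (↥L ⧸ center ↥L)
  nc : ¬ IsMulCommutative G
  ex : E.HasComp

theorem Full.S_le_cen (hF : Full E) {u : G} (hu : u ∈ E.A) : (E.S : Subgroup G) ≤ cen u := fun _ hs =>
  mem_centralizer_singleton_iff.2 (mem_centralizer_iff.1 (hF.cent hs) u hu).symm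

/-- Elements of `S` commute with those of `A` in the reduced centralizers. -/
theorem Full.bar_comm (hF : Full E) {u a s : G} (ha : a ∈ E.A) (hs : s ∈ (E.S : Subgroup G))
    (hac : a ∈ cen u) (hsc : s ∈ cen u) :
    bar u ⟨a, hac⟩ * bar u ⟨s, hsc⟩ = bar u ⟨s, hsc⟩ * bar u ⟨a, hac⟩ := by
  rw [← map_mul, ← map_mul]
  exact congrArg _ (Subtype.ext (mem_centralizer_iff.1 (hF.cent hs) a ha))

/-- `S` normalises the component moved by `A`. -/
theorem Full.normalizes_S (hF : Full E) {u : G} (hu : u ∈ E.A) (hu1 : u ≠ 1) {L : Subgroup (CenBar u)}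
    (hL : IsAComp (img u E.A) L) {s : G} (hs : s ∈ (E.S : Subgroup G)) (h : s ∈ cen u) :
    bar u ⟨s, h⟩ ∈ normalizer (L : Set (CenBar u)) :=
  hF.toHyp.normalizes hu hu1 hL (x := ⟨s, h⟩) (E.S_le_normalizer hs)

/-- The local situation at `u`. -/
theorem Full.exists_eightLocal (hF : Full E) {u : G} (hu : u ∈ E.A) (hu1 : u ≠ 1)
    {L : Subgroup (CenBar u)} (hL : IsAComp (img u E.A) L) :
    ∃ T : Sylow 2 (CenBar u), (T : Subgroup (CenBar u)) = img u (E.S : Subgroup G) ∧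
      EightLocal T (img u E.A) L := by
  obtain ⟨P, T, hSP, -, hT, hsc⟩ := exists_sylow_cen E.S E.sc E.S.2 (hF.S_le_cen hu) E.sc.1
  rw [E.S.is_maximal' P.2 hSP] at hT
  refine ⟨T, hT, ⟨cenBar_core u, hL.1, fun x hx => ?_, img_isMulCommutative E.comm_A, fun x hx => ?_, hsc,
    (hF.toHyp.comp_data hu hu1 hL).2.1, hF.free u hu hu1 L hL, ?_, hF.tight u hu hu1 L hL⟩⟩
  · rw [hT] at hx
    obtain ⟨s, hs, h, rfl⟩ := mem_img.1 hx
    exact hF.normalizes_S hu hu1 hL hs h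
  · rw [hT] at hx
    obtain ⟨s, hs, h, rfl⟩ := mem_img.1 hx
    refine mem_centralizer_iff.2 fun y hy => ?_
    obtain ⟨a, ha, hac, rfl⟩ := mem_img.1 hy
    exact hF.bar_comm ha hs hac h
  · exact E.good u (orderOf_eq_prime (E.pow_two_A hu) hu1) (E.sc.1 hu)
      (mem_centralizer_iff.2 fun _ ha => E.commute_A ha hu) L hL

/-- An element of `S` centralising all components moved by `A` is trivial. -/
theorem Full.eq_one [IsSimpleGroup G] (hF : Full E) {s : G} (hs : s ∈ (E.S : Subgroup G))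
    (h : ∀ u ∈ E.A, u ≠ 1 → ∀ L : Subgroup (CenBar u), IsAComp (img u E.A) L →
      ∀ hc : s ∈ cen u, bar u ⟨s, hc⟩ ∈ centralizer (L : Set (CenBar u))) : s = 1 :=
  E.eq_one_of_centralizes_all hF.nc hF.ex hs (hF.cent hs) h

/-- The elements of `S` agreeing with an element of `A` on every component moved by `A`. -/
def Full.close (hF : Full E) : Subgroup G where
  carrier := {s | s ∈ (E.S : Subgroup G) ∧ ∀ u ∈ E.A, u ≠ 1 → ∀ L : Subgroup (CenBar u),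
    IsAComp (img u E.A) L → ∀ h : s ∈ cen u, ∃ a ∈ E.A, ∃ ha : a ∈ cen u,
      (bar u ⟨a, ha⟩)⁻¹ * bar u ⟨s, h⟩ ∈ centralizer (L : Set (CenBar u))}
  one_mem' := ⟨one_mem _, fun u hu _ L _ h => ⟨1, one_mem _, one_mem _, by
    rw [show (⟨(1 : G), h⟩ : ↥(cen u)) = 1 from rfl, map_one, inv_one, one_mul]
    exact one_mem _⟩⟩
  mul_mem' := by
    rintro s t ⟨hs, hs'⟩ ⟨ht, ht'⟩
    refine ⟨mul_mem hs ht, fun u hu hu1 L hL h => ?_⟩
    obtain ⟨a, ha, hac, h1⟩ := hs' u hu hu1 L hL (hF.S_le_cen hu hs)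
    obtain ⟨b, hb, hbc, h2⟩ := ht' u hu hu1 L hL (hF.S_le_cen hu ht)
    refine ⟨a * b, mul_mem ha hb, mul_mem hac hbc, ?_⟩
    rw [show (⟨s * t, h⟩ : ↥(cen u)) = ⟨s, hF.S_le_cen hu hs⟩ * ⟨t, hF.S_le_cen hu ht⟩ from rfl,
      show (⟨a * b, mul_mem hac hbc⟩ : ↥(cen u)) = ⟨a, hac⟩ * ⟨b, hbc⟩ from rfl, map_mul, map_mul]
    have e1 := hF.bar_comm hb hs hbc (hF.S_le_cen hu hs)
    have e2 := hF.bar_comm hb (E.sc.1 ha) hbc hac
    convert mul_mem h1 h2 using 1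
    have e3 : (bar u ⟨b, hbc⟩)⁻¹ * ((bar u ⟨a, hac⟩)⁻¹ * bar u ⟨s, hF.S_le_cen hu hs⟩) =
        (bar u ⟨a, hac⟩)⁻¹ * bar u ⟨s, hF.S_le_cen hu hs⟩ * (bar u ⟨b, hbc⟩)⁻¹ :=
      (((show Commute (bar u ⟨b, hbc⟩) (bar u ⟨a, hac⟩) from e2).inv_right.mul_right
        (show Commute (bar u ⟨b, hbc⟩) (bar u ⟨s, hF.S_le_cen hu hs⟩) from e1)).inv_left).eq
    calc (bar u ⟨a, hac⟩ * bar u ⟨b, hbc⟩)⁻¹ * (bar u ⟨s, hF.S_le_cen hu hs⟩ * bar u ⟨t, hF.S_le_cen hu ht⟩)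
        = (bar u ⟨b, hbc⟩)⁻¹ * ((bar u ⟨a, hac⟩)⁻¹ * bar u ⟨s, hF.S_le_cen hu hs⟩) *
            bar u ⟨t, hF.S_le_cen hu ht⟩ := by group
      _ = _ := by rw [e3]; group
  inv_mem' := by
    rintro s ⟨hs, hs'⟩
    refine ⟨inv_mem hs, fun u hu hu1 L hL h => ?_⟩
    obtain ⟨a, ha, hac, h1⟩ := hs' u hu hu1 L hL (hF.S_le_cen hu hs)
    refine ⟨a⁻¹, inv_mem ha, inv_mem hac, ?_⟩
    rw [show (⟨s⁻¹, h⟩ : ↥(cen u)) = ⟨s, hF.S_le_cen hu hs⟩⁻¹ from rfl,
      show (⟨a⁻¹, inv_mem hac⟩ : ↥(cen u)) = ⟨a, hac⟩⁻¹ from rfl, map_inv, map_inv, inv_inv]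
    convert inv_mem h1 using 1
    have e := (show Commute (bar u ⟨a, hac⟩) (bar u ⟨s, hF.S_le_cen hu hs⟩) from
      hF.bar_comm ha hs hac (hF.S_le_cen hu hs)).inv_right.eq
    rw [e]
    group

theorem Full.mem_close (hF : Full E) {s : G} : s ∈ hF.close ↔ s ∈ (E.S : Subgroup G) ∧
    ∀ u ∈ E.A, u ≠ 1 → ∀ L : Subgroup (CenBar u), IsAComp (img u E.A) L → ∀ h : s ∈ cen u,
      ∃ a ∈ E.A, ∃ ha : a ∈ cen u,
        (bar u ⟨a, ha⟩)⁻¹ * bar u ⟨s, h⟩ ∈ centralizer (L : Set (CenBar u)) := Iff.rfl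

theorem Full.le_close (hF : Full E) : E.A ≤ hF.close := fun a ha => hF.mem_close.2 ⟨E.sc.1 ha,
  fun _ _ _ _ _ h => ⟨a, ha, h, by rw [inv_mul_cancel]; exact one_mem _⟩⟩

/-- The close elements are central in `S`. -/
theorem Full.close_comm [IsSimpleGroup G] (hF : Full E) {s t : G} (hs : s ∈ hF.close)
    (ht : t ∈ (E.S : Subgroup G)) : s * t = t * s := by
  obtain ⟨hsS, hs'⟩ := hF.mem_close.1 hs
  have h1 : s * t * s⁻¹ * t⁻¹ = 1 := by
    refine hF.eq_one (mul_mem (mul_mem (mul_mem hsS ht) (inv_mem hsS)) (inv_mem ht)) fun u hu hu1 L hL hc => ?_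
    obtain ⟨a, ha, hac, h1⟩ := hs' u hu hu1 L hL (hF.S_le_cen hu hsS)
    have h2 := commutator_mem_centralizer (hF.bar_comm ha ht hac (hF.S_le_cen hu ht)) h1
      (normalizer_centralizer (hF.normalizes_S hu hu1 hL ht (hF.S_le_cen hu ht)))
      (normalizer_centralizer (hF.normalizes_S hu hu1 hL (E.sc.1 ha) hac))
    rw [← map_inv, ← map_inv, ← map_mul, ← map_mul, ← map_mul] at h2
    exact h2
  exact mul_inv_eq_iff_eq_mul.1 (mul_inv_eq_one.1 h1)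

/-- The close elements square to one. -/
theorem Full.close_pow_two [IsSimpleGroup G] (hF : Full E) {s : G} (hs : s ∈ hF.close) : s ^ 2 = 1 := by
  obtain ⟨hsS, hs'⟩ := hF.mem_close.1 hs
  refine hF.eq_one (pow_mem hsS 2) fun u hu hu1 L hL hc => ?_
  obtain ⟨a, ha, hac, h1⟩ := hs' u hu hu1 L hL (hF.S_le_cen hu hsS)
  have hcomm : Commute (bar u ⟨a, hac⟩) (bar u ⟨s, hF.S_le_cen hu hsS⟩) :=
    hF.bar_comm ha hsS hac (hF.S_le_cen hu hsS)
  have ha2 : (bar u ⟨a, hac⟩)⁻¹ ^ 2 = 1 := by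
    rw [inv_pow, inv_eq_one, ← map_pow,
      show (⟨a, hac⟩ : ↥(cen u)) ^ 2 = 1 from Subtype.ext (E.pow_two_A ha), map_one]
  rw [show (⟨s ^ 2, hc⟩ : ↥(cen u)) = ⟨s, hF.S_le_cen hu hsS⟩ ^ 2 from rfl, map_pow,
    ← one_mul (bar u ⟨s, _⟩ ^ 2), ← ha2, ← hcomm.inv_left.mul_pow]
  exact pow_mem h1 2

/-- `N(A)` carries close elements to close elements inside `S`. -/
theorem Full.conj_mem_close (hF : Full E) {s n : G} (hs : s ∈ hF.close)
    (hn : n ∈ normalizer (E.A : Set G)) (hns : n * s * n⁻¹ ∈ (E.S : Subgroup G)) :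
    n * s * n⁻¹ ∈ hF.close := by
  obtain ⟨hsS, hs'⟩ := hF.mem_close.1 hs
  refine hF.mem_close.2 ⟨hns, fun u hu hu1 L hL h => ?_⟩
  have hni := inv_mem hn
  set w := n⁻¹ * u * n with hw
  have hwA : w ∈ E.A := conjA' hn hu
  have hw1 : w ≠ 1 := fun e => hu1 (by rw [show u = n * w * n⁻¹ by rw [hw]; group, e]; group)
  have he : n⁻¹ * u * n⁻¹⁻¹ = w := by rw [hw]; group
  obtain ⟨a, ha, hac, h1⟩ := hs' w hwA hw1 _ (IsAComp.map_conj he hni hL) (hF.S_le_cen hwA hsS)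
  refine ⟨n * a * n⁻¹, conjA hn ha, E.le_cen hu (conjA hn ha), ?_⟩
  set x := (bar u ⟨n * a * n⁻¹, E.le_cen hu (conjA hn ha)⟩)⁻¹ * bar u ⟨n * s * n⁻¹, h⟩ with hx
  have e1 : cenConj he ⟨n * a * n⁻¹, E.le_cen hu (conjA hn ha)⟩ = ⟨a, hac⟩ :=
    Subtype.ext (by rw [cenConj_coe he]; group)
  have e2 : cenConj he ⟨n * s * n⁻¹, h⟩ = ⟨s, hF.S_le_cen hwA hsS⟩ :=
    Subtype.ext (by rw [cenConj_coe he]; group)
  have e : cenBarConj he x = (bar w ⟨a, hac⟩)⁻¹ * bar w ⟨s, hF.S_le_cen hwA hsS⟩ := by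
    rw [hx, map_mul, map_inv, cenBarConj_bar, cenBarConj_bar, e1, e2]
  refine mem_centralizer_iff.2 fun l hl => (cenBarConj he).injective ?_
  rw [map_mul (cenBarConj he) l x, map_mul (cenBarConj he) x l, e]
  exact mem_centralizer_iff.1 h1 _ (mem_map_of_mem _ hl)

/-- A strongly closed subgroup commuting with `A` and meeting it trivially is trivial. -/
theorem eq_bot_of_sc_disjoint [IsSimpleGroup G] (hnc : ¬ IsMulCommutative G) {R : Subgroup G}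
    (hsc : Cfsg.IsStronglyClosed R (E.S : Subgroup G)) (hdisj : E.A ⊓ R = ⊥)
    (hcomm : ∀ a ∈ E.A, ∀ b ∈ R, a * b = b * a) : R = ⊥ := by
  let D : CfsgLib.ProductFusion.Pair G :=
    { P := E.S, S₁ := E.A, S₂ := R, comm := hcomm, disj := hdisj, sc₁ := E.sc, sc₂ := hsc }
  have hcm := CfsgLib.ProductFusion.commutator_le_pPrimeCore D
  have hne : ∃ a b : G, a * b ≠ b * a := by
    by_contra hno
    push Not at hno
    exact hnc ⟨⟨hno⟩⟩
  rw [CfsgLib.ThreeFree.pPrimeCore_eq_bot_of_simple hne, le_bot_iff] at hcm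
  by_contra hR
  have htop : ∀ U : Subgroup G, U ≠ ⊥ → normalClosure (U : Set G) = ⊤ := fun U hU =>
    (normalClosure_normal (s := (U : Set G))).eq_bot_or_eq_top.resolve_left fun e =>
      hU (eq_bot_iff.2 fun y hy => e ▸ subset_normalClosure hy)
  change ⁅normalClosure (E.A : Set G), normalClosure (R : Set G)⁆ = ⊥ at hcm
  rw [htop _ E.ne_bot, htop _ hR, commutator_eq_bot_iff_le_centralizer] at hcm
  obtain ⟨a, b, hab⟩ := hne
  exact hab (mem_centralizer_iff.1 (hcm (mem_top a)) b (mem_top b)).symm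

/-- The close elements are those of `A`. -/
theorem Full.close_le [IsSimpleGroup G] (hF : Full E) : hF.close ≤ E.A := by
  have hA'S : hF.close ≤ (E.S : Subgroup G) := fun s hs => (hF.mem_close.1 hs).1
  let N₁ : Subgroup G := normalizer (E.A : Set G) ⊓ normalizer ((E.S : Subgroup G) : Set G)
  have hN₁ : N₁ ≤ normalizer (hF.close : Set G) := le_normalizer_iff.2 fun n hn s hs =>
    hF.conj_mem_close hs hn.1 ((mem_normalizer_iff.1 hn.2 s).1 (hA'S hs))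
  have hSN₁ : (E.S : Subgroup G) ≤ N₁ := le_inf E.S_le_normalizer le_normalizer
  let ρ : ↥N₁ →* MulAut ↥hF.close := hF.close.normalizerMonoidHom.comp (Subgroup.inclusion hN₁)
  have hodd : ¬ 2 ∣ Nat.card ↥ρ.range := by
    have hle : (E.S : Subgroup G).subgroupOf N₁ ≤ ρ.ker := by
      intro n hn
      rw [MonoidHom.mem_ker]
      refine MulEquiv.ext fun a => Subtype.ext ?_
      show (n : G) * a * (n : G)⁻¹ = a
      rw [← hF.close_comm a.2 (mem_subgroupOf.1 hn), mul_inv_cancel_right]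
    intro h2
    refine E.S.not_dvd_index (h2.trans (?_ : Nat.card ↥ρ.range ∣ (E.S : Subgroup G).index))
    rw [← index_ker]
    exact (index_dvd_of_le hle).trans (relIndex_dvd_index_of_le hSN₁)
  letI : CommGroup ↥hF.close :=
    { (inferInstance : Group ↥hF.close) with
      mul_comm := fun a b => Subtype.ext (hF.close_comm a.2 (hA'S b.2)) }
  obtain ⟨C, hC, hAC, hsup⟩ := CfsgLib.Coprime85.exists_invariant_compl (A := ↥ρ.range)
    (Q := ↥hF.close) 2 (fun x => Subtype.ext (hF.close_pow_two x.2)) hodd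
    (fun γ => (γ : MulAut ↥hF.close).toMonoidHom) (fun _ => rfl) (fun _ _ _ => rfl)
    (E.A.subgroupOf hF.close) (by
      rintro ⟨_, n, rfl⟩ a ha
      exact mem_subgroupOf.2 (conjA n.2.1 (mem_subgroupOf.1 ha)))
  let B₀ : Subgroup G := C.map hF.close.subtype
  have hB₀ : B₀ ≤ hF.close := map_subtype_le C
  have hB₀inv : ∀ n ∈ N₁, ∀ b ∈ B₀, n * b * n⁻¹ ∈ B₀ := by
    rintro n hn _ ⟨b, hb, rfl⟩
    exact ⟨_, hC ⟨ρ ⟨n, hn⟩, ⟨n, hn⟩, rfl⟩ b hb, rfl⟩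
  have hdisj : E.A ⊓ B₀ = ⊥ := by
    rw [eq_bot_iff]
    rintro _ ⟨hA, b, hb, rfl⟩
    have h1 : b ∈ E.A.subgroupOf hF.close ⊓ C := ⟨hA, hb⟩
    rw [hAC, mem_bot] at h1
    rw [h1]
    exact one_mem _
  have hsc : Cfsg.IsStronglyClosed B₀ (E.S : Subgroup G) := by
    refine ⟨hB₀.trans hA'S, fun b hb g hg => ?_⟩
    have hbA' := hB₀ hb
    obtain ⟨n, hn, he⟩ := exists_normalizer_fusion E.S E.comm_A E.sc (B := {b})
      (Set.singleton_subset_iff.2 (hA'S hbA')) (g := g) (by simpa using hg)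
    rw [he b rfl] at hg ⊢
    have hy := hF.conj_mem_close hbA' hn hg
    -- `n = k⁻¹ m` with `k ∈ C(A)` and `m ∈ N(A) ∩ N(S)`
    have hnS : ((n • E.S : Sylow 2 G) : Subgroup G) ≤ centralizer (E.A : Set G) := by
      rw [Sylow.coe_subgroup_smul]
      rintro _ ⟨s, hs, rfl⟩
      refine mem_centralizer_iff.2 fun a ha => ?_
      show a * (n * s * n⁻¹) = n * s * n⁻¹ * a
      calc a * (n * s * n⁻¹) = n * (n⁻¹ * a * n * s) * n⁻¹ := by group
        _ = n * (s * (n⁻¹ * a * n)) * n⁻¹ := by rw [mem_centralizer_iff.1 (hF.cent hs) _ (conjA' hn ha)]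
        _ = _ := by group
    obtain ⟨⟨k, hkC⟩, hk⟩ := MulAction.exists_smul_eq ↥(centralizer (E.A : Set G))
      ((n • E.S).subtype hnS) (E.S.subtype hF.cent)
    have hkS : ∀ s ∈ (E.S : Subgroup G), k * (n * s * n⁻¹) * k⁻¹ ∈ (E.S : Subgroup G) := by
      intro s hs
      have hns : n * s * n⁻¹ ∈ ((n • E.S : Sylow 2 G) : Subgroup G) := by
        rw [Sylow.coe_subgroup_smul]; exact ⟨s, hs, rfl⟩
      have h1 : MulAut.conj (⟨k, hkC⟩ : ↥(centralizer (E.A : Set G))) ⟨_, hnS hns⟩ ∈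
          ((E.S.subtype hF.cent : Sylow 2 _) : Subgroup ↥(centralizer (E.A : Set G))) := by
        rw [← hk]
        exact Subgroup.smul_mem_pointwise_smul _ (MulAut.conj (⟨k, hkC⟩ : ↥(centralizer (E.A : Set G)))) _
          (show (⟨_, hnS hns⟩ : ↥(centralizer (E.A : Set G))) ∈ ((n • E.S).subtype hnS : Subgroup _) from hns)
      simpa [Sylow.coe_subtype, Subgroup.mem_subgroupOf] using h1
    have hkN : k ∈ normalizer (E.A : Set G) := centralizer_le_normalizer _ hkC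
    have hm : k * n ∈ N₁ := by
      refine ⟨mul_mem hkN hn, mem_normalizer_iff_map_conj_eq.2 (eq_of_le_of_card_ge ?_ ?_)⟩
      · rintro _ ⟨s, hs, rfl⟩
        show k * n * s * (k * n)⁻¹ ∈ (E.S : Subgroup G)
        have := hkS s hs
        rwa [show k * n * s * (k * n)⁻¹ = k * (n * s * n⁻¹) * k⁻¹ by group]
      · exact (card_map_of_injective (MulAut.conj (k * n)).injective).ge
    have hy' := hB₀inv _ hm b hb
    set y := n * b * n⁻¹ with hydef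
    set y' := k * n * b * (k * n)⁻¹ with hy'def
    suffices y = y' by rw [this]; exact hy'
    refine mul_inv_eq_one.1 (hF.eq_one (mul_mem hg (inv_mem (hA'S (hB₀ hy')))) fun u hu hu1 L hL hc => ?_)
    have hy'S := hA'S (hB₀ hy')
    obtain ⟨a, ha, hac, h1⟩ := (hF.mem_close.1 (hB₀ hy')).2 u hu hu1 L hL (hF.S_le_cen hu hy'S)
    have hkc : k ∈ cen u := mem_centralizer_singleton_iff.2 (mem_centralizer_iff.1 hkC u hu).symm
    have hkL : bar u ⟨k, hkc⟩ ∈ normalizer (L : Set (CenBar u)) :=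
      hF.toHyp.normalizes hu hu1 hL (x := ⟨k, hkc⟩) hkN
    have hka : (bar u ⟨a, hac⟩) * (bar u ⟨k, hkc⟩)⁻¹ = (bar u ⟨k, hkc⟩)⁻¹ * bar u ⟨a, hac⟩ := by
      refine (Commute.inv_right ?_).eq
      show _ * _ = _ * _
      rw [← map_mul, ← map_mul]
      exact congrArg _ (Subtype.ext (mem_centralizer_iff.1 hkC a ha))
    set c := (bar u ⟨a, hac⟩)⁻¹ * bar u ⟨y', hF.S_le_cen hu hy'S⟩ with hcdef
    have e : bar u ⟨y * y'⁻¹, hc⟩ =
        bar u ⟨a, hac⟩ * ((bar u ⟨k, hkc⟩)⁻¹ * c * bar u ⟨k, hkc⟩ * c⁻¹) * (bar u ⟨a, hac⟩)⁻¹ := by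
      have e1 : (⟨y * y'⁻¹, hc⟩ : ↥(cen u)) =
          ⟨k, hkc⟩⁻¹ * ⟨y', hF.S_le_cen hu hy'S⟩ * ⟨k, hkc⟩ * ⟨y', hF.S_le_cen hu hy'S⟩⁻¹ :=
        Subtype.ext (by
          simp only [Subgroup.coe_mul, Subgroup.coe_inv, hydef, hy'def]
          group)
      rw [e1, map_mul, map_mul, map_mul, map_inv, map_inv, hcdef]
      calc (bar u ⟨k, hkc⟩)⁻¹ * bar u ⟨y', hF.S_le_cen hu hy'S⟩ * bar u ⟨k, hkc⟩ *
            (bar u ⟨y', hF.S_le_cen hu hy'S⟩)⁻¹
          = ((bar u ⟨k, hkc⟩)⁻¹ * bar u ⟨a, hac⟩) * ((bar u ⟨a, hac⟩)⁻¹ * bar u ⟨y', hF.S_le_cen hu hy'S⟩) *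
              bar u ⟨k, hkc⟩ * ((bar u ⟨a, hac⟩)⁻¹ * bar u ⟨y', hF.S_le_cen hu hy'S⟩)⁻¹ *
              (bar u ⟨a, hac⟩)⁻¹ := by group
        _ = _ := by rw [← hka]; group
    rw [e]
    refine (mem_normalizer_iff.1 (normalizer_centralizer
      (hF.normalizes_S hu hu1 hL (E.sc.1 ha) hac)) _).1 (mul_mem ?_ (inv_mem h1))
    have := (mem_normalizer_iff.1 (normalizer_centralizer (inv_mem hkL)) c).1 h1
    rwa [inv_inv] at this
  have hbot : B₀ = ⊥ := eq_bot_of_sc_disjoint hF.nc hsc hdisj fun a ha b hb =>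
    mem_centralizer_iff.1 (hF.cent (hA'S (hB₀ hb))) a ha
  have hCbot : C = ⊥ := (map_eq_bot_iff_of_injective _ hF.close.subtype_injective).1 hbot
  rw [hCbot, sup_bot_eq] at hsup
  intro s hs
  have h1 : (⟨s, hs⟩ : ↥hF.close) ∈ E.A.subgroupOf hF.close := hsup.symm ▸ mem_top _
  exact mem_subgroupOf.1 h1

/-- An element of `S` commuting with all the Sylow pieces of the components lies in `A`. -/
theorem Full.mem_A_of_commutes [IsSimpleGroup G] (hF : Full E) {s : G} (hs : s ∈ (E.S : Subgroup G))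
    (h : ∀ u ∈ E.A, u ≠ 1 → ∀ L : Subgroup (CenBar u), IsAComp (img u E.A) L →
      ∀ t ∈ piece (E.S : Subgroup G) u L, s * t = t * s) : s ∈ E.A := by
  refine hF.close_le (hF.mem_close.2 ⟨hs, fun u hu hu1 L hL hsu => ?_⟩)
  obtain ⟨T, hT, hEL⟩ := hF.exists_eightLocal hu hu1 hL
  have hcomm : ∀ t ∈ (T : Subgroup (CenBar u)) ⊓ L,
      bar u ⟨s, hsu⟩ * t * (bar u ⟨s, hsu⟩)⁻¹ * t⁻¹ = 1 := by
    rintro t ⟨ht, htL⟩
    rw [hT] at ht
    obtain ⟨b, hb, hbc, rfl⟩ := mem_img.1 ht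
    have e := h u hu hu1 L hL b (mem_piece'.2 ⟨hb, hbc, htL⟩)
    rw [← map_mul, show (⟨s, hsu⟩ : ↥(cen u)) * ⟨b, hbc⟩ = ⟨b, hbc⟩ * ⟨s, hsu⟩ from Subtype.ext e, map_mul,
      mul_inv_cancel_right, mul_inv_cancel]
  have h1W : (1 : CenBar u) ∈ img u E.A ⊓ L := one_mem _
  have hsT : bar u ⟨s, hsu⟩ ∈ (T : Subgroup (CenBar u)) := by rw [hT]; exact bar_mem_img hs hsu
  obtain ⟨z, hz, hzs, hze⟩ := hEL.inner_mem hsT fun t ht =>
    ⟨1, h1W, by rw [hcomm t ht, inv_one, one_mul]; exact one_mem _⟩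
  obtain ⟨w, hw, hwz⟩ := hEL.tight_mem hz h1W fun t ht => Or.inl (by
    rw [← hze t ht.2, hcomm t ht]; exact one_mem _)
  obtain ⟨a, ha, hac, rfl⟩ := mem_img.1 hw.1
  refine ⟨a, ha, hac, ?_⟩
  have := mul_mem hwz hzs
  rwa [show (bar u ⟨a, hac⟩)⁻¹ * z * (z⁻¹ * bar u ⟨s, hsu⟩) = (bar u ⟨a, hac⟩)⁻¹ * bar u ⟨s, hsu⟩ by group]
    at this

/-- `S` normalises the Sylow piece. -/
theorem Full.conj_mem_piece (hF : Full E) {u : G} (hu : u ∈ E.A) (hu1 : u ≠ 1)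
    {L : Subgroup (CenBar u)} (hL : IsAComp (img u E.A) L) {s x : G} (hs : s ∈ (E.S : Subgroup G))
    (hx : x ∈ piece (E.S : Subgroup G) u L) : s * x * s⁻¹ ∈ piece (E.S : Subgroup G) u L := by
  obtain ⟨hxS, hxc, hxL⟩ := mem_piece'.1 hx
  have hsu := hF.S_le_cen hu hs
  refine mem_piece'.2 ⟨mul_mem (mul_mem hs hxS) (inv_mem hs), mul_mem (mul_mem hsu hxc) (inv_mem hsu), ?_⟩
  show bar u (⟨s, hsu⟩ * ⟨x, hxc⟩ * ⟨s, hsu⟩⁻¹) ∈ L
  rw [map_mul, map_mul, map_inv]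
  exact (mem_normalizer_iff.1 (hF.normalizes_S hu hu1 hL hs hsu) _).1 hxL

/-- The components have trivial centres. -/
theorem Full.comp_center_eq_bot [IsSimpleGroup G] (hF : Full E) {u : G} (hu : u ∈ E.A) (hu1 : u ≠ 1)
    {L : Subgroup (CenBar u)} (hL : IsAComp (img u E.A) L) :
    L ⊓ centralizer (L : Set (CenBar u)) = ⊥ := by
  obtain ⟨T, hT, hEL⟩ := hF.exists_eightLocal hu hu1 hL
  set Z := piece (E.S : Subgroup G) u (L ⊓ centralizer (L : Set (CenBar u))) with hZ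
  have hZbot : Z = ⊥ := by
    by_contra hne
    have hZS : Z ≤ (E.S : Subgroup G) := inf_le_left
    haveI : (Z.subgroupOf (E.S : Subgroup G)).Normal := by
      refine ⟨fun x hx g => ?_⟩
      obtain ⟨hxS, hxc, hxL, hxC⟩ := mem_piece'.1 hx
      have hgu := hF.S_le_cen hu g.2
      have hgn := hF.normalizes_S hu hu1 hL g.2 hgu
      refine mem_piece'.2 ⟨mul_mem (mul_mem g.2 hxS) (inv_mem g.2),
        mul_mem (mul_mem hgu hxc) (inv_mem hgu), ?_⟩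
      show bar u (⟨g, hgu⟩ * ⟨x, hxc⟩ * ⟨g, hgu⟩⁻¹) ∈ L ⊓ centralizer (L : Set (CenBar u))
      rw [map_mul, map_mul, map_inv]
      exact ⟨(mem_normalizer_iff.1 hgn _).1 hxL,
        (mem_normalizer_iff.1 (normalizer_centralizer hgn) _).1 hxC⟩
    haveI := E.S.2.isNilpotent
    have hne' : Z.subgroupOf (E.S : Subgroup G) ≠ ⊥ := fun e =>
      hne (by rwa [subgroupOf_eq_bot, disjoint_iff, inf_eq_left.2 hZS] at e)
    obtain ⟨⟨z, hzc, hzZ⟩, hz1⟩ := Subgroup.ne_bot_iff_exists_ne_one.1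
      (CfsgLib.OddOrder.PuigSeries.inf_center_ne_bot _ hne')
    have hzA : (z : G) ∈ E.A := hF.mem_A_of_commutes z.2 fun v _ _ _ _ t ht =>
      (congrArg Subtype.val (mem_center_iff.1 hzc ⟨t, (mem_piece'.1 ht).1⟩)).symm
    obtain ⟨-, hc, hm⟩ := mem_piece'.1 hzZ
    have h1 : bar u ⟨(z : G), hc⟩ ∈ img u E.A ⊓ L ⊓ centralizer (L : Set (CenBar u)) :=
      ⟨⟨bar_mem_img hzA hc, hm.1⟩, hm.2⟩
    rw [hF.free u hu hu1 L hL, mem_bot] at h1
    exact hz1 (Subtype.ext (Subtype.ext (congrArg Subtype.val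
      (eq_one_of_bar_eq E.isPGroup_A (a := ⟨(z : G), hc⟩) hzA h1) :)))
  rw [eq_bot_iff]
  intro x hx
  have hxT : x ∈ (T : Subgroup (CenBar u)) := (CfsgLib.Components.component_center_le_pCore
    hEL.core hEL.comp).trans (CfsgLib.PCore.pCore_le_sylow T) hx
  rw [hT] at hxT
  obtain ⟨a, ha, hac, rfl⟩ := mem_img.1 hxT
  have : a ∈ Z := mem_piece'.2 ⟨ha, hac, hx⟩
  rw [hZbot, mem_bot] at this
  subst this
  exact mem_bot.2 (map_one (bar u))

/-- `A` covers the Sylow pieces of the components. -/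
theorem Full.piece_le [IsSimpleGroup G] (hF : Full E) {v : G} (hv : v ∈ E.A) (hv1 : v ≠ 1)
    {L : Subgroup (CenBar v)} (hL : IsAComp (img v E.A) L) :
    piece (E.S : Subgroup G) v L ≤ E.A := by
  classical
  have heq : ∀ {u : G} (_ : u ∈ E.A) (_ : u ≠ 1) {M : Subgroup (CenBar u)}
      (_ : IsAComp (img u E.A) M) {x y : CenBar u}, x ∈ M → y ∈ M →
      x⁻¹ * y ∈ centralizer (M : Set (CenBar u)) → x = y := by
    intro u hu hu1 M hM x y hx hy h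
    exact inv_mul_eq_one.1 (mem_bot.1 (hF.comp_center_eq_bot hu hu1 hM ▸
      mem_inf.2 ⟨mul_mem (inv_mem hx) hy, h⟩))
  obtain ⟨T, hT, hEL⟩ := hF.exists_eightLocal hv hv1 hL
  rcases hEL.cover_or_commutator with hcov | hcom
  · intro a ha
    obtain ⟨haS, hac, haL⟩ := mem_piece'.1 ha
    obtain ⟨w, hw, hwa⟩ := hcov _ ⟨by rw [hT]; exact bar_mem_img haS hac, haL⟩
    have e := heq hv hv1 hL hw.2 haL hwa
    subst e
    obtain ⟨c, hc, hcc, hce⟩ := mem_img.1 hw.1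
    have hca : c = a := congrArg Subtype.val (bar_inj_two E.S.2 (a := ⟨c, hcc⟩) (b := ⟨a, hac⟩)
      (E.sc.1 hc) haS hce)
    exact hca ▸ hc
  exfalso
  -- a conjugate piece
  set Wv := piece E.A v L with hWv
  have hWv4 : Nat.card ↥Wv = 4 := hF.toHyp.card_piece hv hv1 hL
  obtain ⟨n, hn, a₀, ha₀, hna⟩ : ∃ n ∈ normalizer (E.A : Set G), ∃ a ∈ Wv, n * a * n⁻¹ ∉ Wv := by
    by_contra hcon
    push Not at hcon
    rcases E.irr Wv inf_le_left (le_normalizer_iff.2 fun n hn a ha => hcon n hn a ha) with h | h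
    · rw [h, card_bot] at hWv4; omega
    · rw [h, hF.eight] at hWv4; omega
  obtain ⟨u, hnu⟩ : ∃ u, n * v * n⁻¹ = u := ⟨_, rfl⟩
  have hu : u ∈ E.A := hnu ▸ conjA hn hv
  have hu1 : u ≠ 1 := fun e => hv1 (conj_eq_one_iff.1 (hnu.trans e))
  set M := L.map (cenBarConj hnu).toMonoidHom with hM'
  have hM : IsAComp (img u E.A) M := IsAComp.map_conj hnu hn hL
  set Wu := piece E.A u M with hWu
  have hWuv : Wv.map (MulAut.conj n).toMonoidHom = Wu := map_piece_conj hnu hn hv L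
  have hWu4 : Nat.card ↥Wu = 4 := hF.toHyp.card_piece hu hu1 hM
  obtain ⟨d, hdu, hdv, hd1⟩ : ∃ d, d ∈ Wu ∧ d ∈ Wv ∧ d ≠ 1 := by
    by_contra hcon
    push Not at hcon
    have h := Nat.card_le_card_of_injective
      (fun p : ↥Wu × ↥Wv => (⟨(p.1 : G) * p.2, mul_mem (mem_piece'.1 p.1.2).1 (mem_piece'.1 p.2.2).1⟩ : ↥E.A))
      (fun p q e => Subgroup.mul_injective_of_disjoint (disjoint_iff.2 (eq_bot_iff.2
        fun x hx => mem_bot.2 (hcon x hx.1 hx.2))) (congrArg Subtype.val e))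
    rw [Nat.card_prod, hWu4, hWv4, hF.eight] at h
    omega
  obtain ⟨Tu, hTu, hEM⟩ := hF.exists_eightLocal hu hu1 hM
  set Pv := piece (E.S : Subgroup G) v L with hPv
  set Pu := piece (E.S : Subgroup G) u M with hPu
  have hPS : Pv ⊓ Pu ≤ (E.S : Subgroup G) := fun x hx => (mem_piece'.1 hx.1).1
  set D := img u (Pv ⊓ Pu) with hD
  have hDle : D ≤ (Tu : Subgroup (CenBar u)) ⊓ M := by
    intro y hy
    obtain ⟨x, hx, hxc, rfl⟩ := mem_img.1 hy
    exact ⟨by rw [hTu]; exact bar_mem_img (hPS hx) hxc, (mem_piece'.1 hx.2).2.2⟩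
  have hDn : ∀ t ∈ (Tu : Subgroup (CenBar u)) ⊓ M, ∀ y ∈ D, t * y * t⁻¹ ∈ D := by
    intro t ht y hy
    have htS := ht.1
    rw [hTu] at htS
    obtain ⟨b, hb, hbc, rfl⟩ := mem_img.1 htS
    obtain ⟨x, hx, hxc, rfl⟩ := mem_img.1 hy
    rw [← map_inv, ← map_mul, ← map_mul]
    exact bar_mem_img (show b * x * b⁻¹ ∈ Pv ⊓ Pu from
      ⟨hF.conj_mem_piece hv hv1 hL hb hx.1, hF.conj_mem_piece hu hu1 hM hb hx.2⟩) _
  rcases hEM.normal_cases hDle hDn with hall | ⟨w₀, hw₀, hD2⟩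
  · apply hna
    have hw : n * a₀ * n⁻¹ ∈ Wu := hWuv ▸ ⟨a₀, ha₀, rfl⟩
    obtain ⟨hwA, hwc, hwM⟩ := mem_piece'.1 hw
    obtain ⟨y, hy, hwy⟩ := hall _ ⟨bar_mem_img hwA hwc, hwM⟩
    have e := heq hu hu1 hM hwM (hDle hy).2 hwy
    obtain ⟨x, hx, hxc, hxe⟩ := mem_img.1 hy
    have hxw : x = n * a₀ * n⁻¹ := congrArg Subtype.val (bar_inj_two E.S.2 (a := ⟨x, hxc⟩)
      (b := ⟨_, hwc⟩) (hPS hx) (E.sc.1 hwA) (hxe.trans e.symm))
    obtain ⟨-, hc, hxL⟩ := mem_piece'.1 (hxw ▸ hx.1)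
    exact mem_piece'.2 ⟨hwA, hc, hxL⟩
  -- `Pv` agrees with `Wu` modulo `C(M)`
  have hcover : ∀ a ∈ Pv, ∀ hac : a ∈ cen u,
      ∃ w ∈ img u E.A ⊓ M, w⁻¹ * bar u ⟨a, hac⟩ ∈ centralizer (M : Set (CenBar u)) := by
    intro a ha hac
    have haS := (mem_piece'.1 ha).1
    have hcm : ∀ t ∈ (Tu : Subgroup (CenBar u)) ⊓ M,
        bar u ⟨a, hac⟩ * t * (bar u ⟨a, hac⟩)⁻¹ * t⁻¹ ∈ centralizer (M : Set (CenBar u)) ∨
          w₀⁻¹ * (bar u ⟨a, hac⟩ * t * (bar u ⟨a, hac⟩)⁻¹ * t⁻¹) ∈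
            centralizer (M : Set (CenBar u)) := by
      intro t ht
      have htS := ht.1
      rw [hTu] at htS
      obtain ⟨b, hb, hbc, rfl⟩ := mem_img.1 htS
      have hbPu : b ∈ Pu := mem_piece'.2 ⟨hb, hbc, ht.2⟩
      refine hD2 _ ?_
      rw [← map_inv, ← map_inv, ← map_mul, ← map_mul, ← map_mul]
      refine bar_mem_img (show a * b * a⁻¹ * b⁻¹ ∈ Pv ⊓ Pu from mem_inf.2 ⟨?_, ?_⟩) _
      · rw [show a * b * a⁻¹ * b⁻¹ = a * (b * a⁻¹ * b⁻¹) by group]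
        exact mul_mem ha (hF.conj_mem_piece hv hv1 hL hb (show a⁻¹ ∈ Pv from inv_mem ha))
      · exact mul_mem (hF.conj_mem_piece hu hu1 hM haS hbPu) (inv_mem hbPu)
    have haT : bar u ⟨a, hac⟩ ∈ (Tu : Subgroup (CenBar u)) := by rw [hTu]; exact bar_mem_img haS hac
    obtain ⟨z, hz, hzs, hze⟩ := hEM.inner_mem haT fun t ht => (hcm t ht).elim
      (fun h => ⟨1, one_mem _, by rwa [inv_one, one_mul]⟩) (fun h => ⟨w₀, hw₀, h⟩)
    obtain ⟨w, hw, hwz⟩ := hEM.tight_mem hz hw₀ fun t ht => by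
      rw [← hze t ht.2]; exact hcm t ht
    refine ⟨w, hw, ?_⟩
    have := mul_mem hwz hzs
    rwa [show w⁻¹ * z * (z⁻¹ * bar u ⟨a, hac⟩) = w⁻¹ * bar u ⟨a, hac⟩ by group] at this
  have hker : ⁅Pv, Pv⁆ ≤ ((centralizer (M : Set (CenBar u))).comap (bar u)).map (cen u).subtype := by
    rw [commutator_le]
    intro a ha b hb
    have hbS := (mem_piece'.1 hb).1
    have hac := hF.S_le_cen hu (mem_piece'.1 ha).1
    have hbc := hF.S_le_cen hu hbS
    obtain ⟨w, hw, hwa⟩ := hcover a ha hac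
    have hwb : w * bar u ⟨b, hbc⟩ = bar u ⟨b, hbc⟩ * w := by
      obtain ⟨c, hc, hcc, rfl⟩ := mem_img.1 hw.1
      exact hF.bar_comm hc hbS hcc hbc
    have h := commutator_mem_centralizer hwb hwa
      (normalizer_centralizer (hF.normalizes_S hu hu1 hM hbS hbc))
      (normalizer_centralizer (le_normalizer hw.2))
    rw [← map_inv, ← map_inv, ← map_mul, ← map_mul, ← map_mul] at h
    exact ⟨_, h, rfl⟩
  obtain ⟨hdA, hdc, hdL⟩ := mem_piece'.1 hdv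
  obtain ⟨c, hc, hdc'⟩ := hcom _ ⟨bar_mem_img hdA hdc, hdL⟩
  have hcle : ⁅(T : Subgroup (CenBar v)) ⊓ L, (T : Subgroup (CenBar v)) ⊓ L⁆ ≤ img v ⁅Pv, Pv⁆ := by
    rw [commutator_le]
    intro x hx y hy
    have hxS := hx.1
    have hyS := hy.1
    rw [hT] at hxS hyS
    obtain ⟨a, ha, hac, rfl⟩ := mem_img.1 hxS
    obtain ⟨b, hb, hbc, rfl⟩ := mem_img.1 hyS
    rw [← map_commutatorElement]
    exact bar_mem_img (show ⁅a, b⁆ ∈ ⁅Pv, Pv⁆ from commutator_mem_commutator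
      (mem_piece'.2 ⟨ha, hac, hx.2⟩) (mem_piece'.2 ⟨hb, hbc, hy.2⟩)) _
  obtain ⟨x, hx, hxc, hxe⟩ := mem_img.1 (hcle hc)
  have hcL : c ∈ L := (commutator_le.2 (fun p hp q hq => by
    rw [commutatorElement_def]
    exact mul_mem (mul_mem (mul_mem hp.2 hq.2) (inv_mem hp.2)) (inv_mem hq.2)) : _ ≤ L) hc
  have e := heq hv hv1 hL hdL hcL hdc'
  have hxS : x ∈ (E.S : Subgroup G) := (commutator_le.2 (fun p hp q hq => by
    rw [commutatorElement_def]
    exact mul_mem (mul_mem (mul_mem (mem_piece'.1 hp).1 (mem_piece'.1 hq).1)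
      (inv_mem (mem_piece'.1 hp).1)) (inv_mem (mem_piece'.1 hq).1)) : _ ≤ (E.S : Subgroup G)) hx
  have hxd : x = d := congrArg Subtype.val (bar_inj_two E.S.2 (a := ⟨x, hxc⟩) (b := ⟨d, hdc⟩)
    hxS (E.sc.1 hdA) (hxe.trans e.symm))
  obtain ⟨y, hy, hyd⟩ := hker (hxd ▸ hx)
  obtain ⟨-, hduc, hdM⟩ := mem_piece'.1 hdu
  have h1 : bar u ⟨d, hduc⟩ ∈ img u E.A ⊓ M ⊓ centralizer (M : Set (CenBar u)) := by
    refine ⟨⟨bar_mem_img hdA hduc, hdM⟩, ?_⟩
    have : y = (⟨d, hduc⟩ : ↥(cen u)) := Subtype.ext hyd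
    exact this ▸ hy
  rw [hF.free u hu hu1 M hM, mem_bot] at h1
  exact hd1 (congrArg Subtype.val (eq_one_of_bar_eq E.isPGroup_A (a := ⟨d, hduc⟩) hdA h1))

/-- `S = A`. -/
theorem Full.S_le_A [IsSimpleGroup G] (hF : Full E) : (E.S : Subgroup G) ≤ E.A := fun _ hs =>
  hF.mem_A_of_commutes hs fun _ hu hu1 _ hL t ht =>
    (mem_centralizer_iff.1 (hF.cent hs) t (hF.piece_le hu hu1 hL ht)).symm

end RankThree

/-- **Piece K3.** A setting with `|A| = 8` has an abelian Sylow 2-subgroup. -/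
theorem concl_of_eight {G : Type u} [Group G] [Finite G] [IsSimpleGroup G] (hnc : ¬ IsMulCommutative G)
    (E : Setting G)
    (hloc : ∀ u ∈ E.A, u ≠ 1 → ∀ T : Sylow 2 (CenBar u),
      Cfsg.IsStronglyClosed (img u E.A) (T : Subgroup (CenBar u)) →
        LocalFacts (T : Subgroup (CenBar u)) (img u E.A))
    (h8 : Nat.card ↥E.A = 8) (hc : E.CentreFree) (hex : E.HasComp)
    (hfour : ∀ u ∈ E.A, u ≠ 1 → ∀ L : Subgroup (CenBar u), IsAComp (img u E.A) L →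
      FourTight (↥L ⧸ center ↥L)) : Concl G := by
  have hH : RankThree.Hyp E := ⟨hloc, h8, hc⟩
  have hF : RankThree.Full E :=
    { toHyp := hH, cent := hH.le_centralizer hnc hex, tight := hfour, nc := hnc, ex := hex }
  exact Or.inl ⟨E.S, ⟨⟨fun a b => Subtype.ext (E.commute_A (hF.S_le_A a.2) (hF.S_le_A b.2))⟩⟩⟩

end CfsgLib.Goldschmidt
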