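import Cfsg.Agent.Lib.Goldschmidt.PieceFamily

/-!
# Big pieces form two blocks or a spread

In an irreducible transitive piece family, either there are two members `(U, W)`, `(W, U)`, or every
non-trivial element lies in exactly one `U`, the members outside a given `W` form one orbit of its cycle
and so do the members inside it.
-/

set_option autoImplicit false
set_option linter.unusedSectionVars false

namespace CfsgLib.Goldschmidt

open Subgroup

universe u

variable {V : Type u} [CommGroup V] [Finite V]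

/-- `F` leaves only the trivial subgroups invariant. -/
abbrev IsIrred (F : Subgroup (MulAut V)) : Prop :=
  ∀ X : Subgroup V, (∀ f ∈ F, ∀ x ∈ X, f x ∈ X) → X = ⊥ ∨ X = ⊤

/-- `F` is transitive on the family. -/
abbrev IsTransFam (F : Subgroup (MulAut V)) (P : Set (Subgroup V × Subgroup V)) : Prop :=
  ∀ p ∈ P, ∀ q ∈ P, ∃ f ∈ F, mapPair f p = q

namespace IsPieceFamily

variable {F : Subgroup (MulAut V)} {P : Set (Subgroup V × Subgroup V)}

theorem eq_of_mem (hP : IsPieceFamily F P) {p q : Subgroup V × Subgroup V} (hp : p ∈ P) (hq : q ∈ P)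
    {x : V} (hx : x ≠ 1) (h1 : x ∈ p.1) (h2 : x ∈ q.1) : p = q :=
  hP.eq_of_meet p hp q hq fun h => hx (mem_bot.1 (h ▸ mem_inf.2 ⟨h1, h2⟩))

theorem exists_ne_one (hP : IsPieceFamily F P) {p : Subgroup V × Subgroup V} (hp : p ∈ P) :
    ∃ x ∈ p.1, x ≠ 1 := by
  obtain ⟨⟨x, hx⟩, hx1⟩ := Subgroup.ne_bot_iff_exists_ne_one.1 (hP.ne_bot p hp)
  exact ⟨x, hx, fun h => hx1 (Subtype.ext h)⟩

theorem snd_ne_bot (hP : IsPieceFamily F P) {p : Subgroup V × Subgroup V} (hp : p ∈ P) : p.2 ≠ ⊥ := by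
  intro h
  have h1 := hP.card_le p hp
  rw [h, card_bot] at h1
  have h2 : 1 < Nat.card p.1 := (Subgroup.one_lt_card_iff_ne_bot _).2 (hP.ne_bot p hp)
  omega

theorem inf_eq_bot (hP : IsPieceFamily F P) {p : Subgroup V × Subgroup V} (hp : p ∈ P) {x : V}
    (h1 : x ∈ p.1) (h2 : x ∈ p.2) : x = 1 :=
  mem_bot.1 ((hP.isCompl p hp).inf_eq_bot ▸ mem_inf.2 ⟨h1, h2⟩)

/-- Members whose `U` lies in the `W` of `p` are different from `p`. -/
theorem ne_of_le (hP : IsPieceFamily F P) {p q : Subgroup V × Subgroup V} (hp : p ∈ P) (h : q.1 ≤ p.2) :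
    q ≠ p := by
  rintro rfl
  obtain ⟨x, hx, hx1⟩ := hP.exists_ne_one hp
  exact hx1 (hP.inf_eq_bot hp hx (h hx))

/-- A power of the cycle fixes the member it is attached to. -/
theorem mapPair_pow_self {p : Subgroup V × Subgroup V} {g : MulAut V} (hc : IsPieceCycle p.1 p.2 g)
    (n : ℕ) : mapPair (g ^ n) p = p :=
  Prod.ext (map_eq_of_maps fun x hx => by rw [hc.fix_pow n x hx]; exact hx)
    (map_eq_of_maps (hc.maps_pow n))

variable (hP : IsPieceFamily F P) {p : Subgroup V × Subgroup V} (hp : p ∈ P) {g : MulAut V} (hgF : g ∈ F)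
  (hc : IsPieceCycle p.1 p.2 g)
include hP hp hgF hc

/-- Only the trivial power of the cycle fixes a member other than `p` outside `W`. -/
theorem pow_eq_one_of_free {q : Subgroup V × Subgroup V} (hq : q ∈ P) (hne : q ≠ p)
    (hfree : ¬ q.1 ≤ p.2) {n : ℕ} (h : q.1.map (g ^ n).toMonoidHom = q.1) : g ^ n = 1 := by
  classical
  by_contra h1
  refine hfree ?_
  have hcompl := hP.isCompl p hp
  set φ : q.1 → q.1 := fun z => ⟨(g ^ n) z * (z : V)⁻¹,
    mul_mem (h.le (mem_map_auto z.2)) (inv_mem z.2)⟩ with hφ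
  have hinj : Function.Injective φ := by
    intro y z hyz
    have h2 : (g ^ n) (y : V) * (y : V)⁻¹ = (g ^ n) (z : V) * (z : V)⁻¹ := congrArg Subtype.val hyz
    have hyzU : (y : V) * (z : V)⁻¹ ∈ p.1 := by
      by_contra hno
      exact h1 (hc.pow_eq_one_of_fix hcompl hno (by
      have h4 : (g ^ n) (y : V) = (y : V) * ((g ^ n) (z : V) * (z : V)⁻¹) := by
        rw [← h2, mul_comm (y : V), inv_mul_cancel_right]
      rw [map_mul, map_inv, h4, mul_assoc, mul_comm ((g ^ n) (z : V) * (z : V)⁻¹), ← mul_assoc ((g ^ n) (z : V))⁻¹,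
        inv_mul_cancel, one_mul]))
    apply Subtype.ext
    by_contra hne2
    exact hne (hP.eq_of_mem hp hq (fun h3 => hne2 (mul_inv_eq_one.1 h3)) hyzU
      (mul_mem y.2 (inv_mem z.2))).symm
  intro z hz
  obtain ⟨y, hy⟩ := (Finite.surjective_of_injective hinj) ⟨z, hz⟩
  have hy' : (g ^ n) (y : V) * (y : V)⁻¹ = z := congrArg Subtype.val hy
  obtain ⟨a, ha, c, hcW, hac⟩ := IsPieceCycle.exists_mul hcompl (y : V)
  rw [← hy', ← hac, map_mul, hc.fix_pow n a ha]
  have h3 : a * (g ^ n) c * (a * c)⁻¹ = (g ^ n) c * c⁻¹ := by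
    rw [mul_inv_rev, mul_comm a ((g ^ n) c)]
    simp [mul_assoc, mul_comm c⁻¹ a⁻¹]
  rw [h3]
  exact mul_mem (hc.maps_pow n c hcW) (inv_mem hcW)

/-- The translates of a free member are free and distinct, so it meets `W` trivially when `4 ≤ |U|`;
in all cases it contains an element with any prescribed component in `U`. -/
theorem free_inf_eq_bot {q : Subgroup V × Subgroup V} (hq : q ∈ P) (hne : q ≠ p)
    (hfree : ¬ q.1 ≤ p.2) {w : V} (hw : w ∈ q.1) (hwW : w ∈ p.2) : w = 1 := by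
  by_contra hw1
  have hcompl := hP.isCompl p hp
  obtain ⟨z, hz, hzW⟩ : ∃ z ∈ q.1, z ∉ p.2 := by
    by_contra hno
    push Not at hno
    exact hfree hno
  obtain ⟨a, ha, c, hcW, hac⟩ := IsPieceCycle.exists_mul hcompl z
  have ha1 : a ≠ 1 := fun h => hzW (by rw [← hac, h, one_mul]; exact hcW)
  have hc1 : c ≠ 1 := fun h => hne (hP.eq_of_mem hp hq ha1 ha (by
    rw [← hac, h, mul_one] at hz; exact hz)).symm
  have hcw : c * w ≠ 1 := fun h => hne (hP.eq_of_mem hp hq ha1 ha (by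
    have h2 : a * c * w = a := by rw [mul_assoc, h, mul_one]
    rw [← h2, hac]; exact mul_mem hz hw)).symm
  obtain ⟨n, hn⟩ := hc.trans c hcW hc1 (c * w) (mul_mem hcW hwW) hcw
  have hzn : (g ^ n) z = z * w := by rw [← hac, map_mul, hc.fix_pow n a ha, hn, mul_assoc]
  have hz1 : z * w ≠ 1 := fun h => ha1 (by
    have h2 : a * (c * w) = 1 := by rw [← mul_assoc, hac]; exact h
    exact hP.inf_eq_bot hp ha (by rw [eq_inv_of_mul_eq_one_left h2]; exact inv_mem (mul_mem hcW hwW)))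
  have hfix : mapPair (g ^ n) q = q :=
    hP.eq_of_mem (hP.map_mem _ (pow_mem hgF n) q hq) hq hz1
      (hzn ▸ mem_map_auto hz) (mul_mem hz hw)
  have h1 := pow_eq_one_of_free hP hp hgF hc hq hne hfree (congrArg Prod.fst hfix)
  rw [h1, MulAut.one_apply] at hn
  exact hw1 (left_eq_mul.1 hn)

/-- A free member has an element over every element of `U`. -/
theorem free_exists_mem {q : Subgroup V × Subgroup V} (hq : q ∈ P) (hne : q ≠ p)
    (hfree : ¬ q.1 ≤ p.2) (hcard : Nat.card q.1 = Nat.card p.1) {a : V} (ha : a ∈ p.1) :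
    ∃ c ∈ p.2, a * c ∈ q.1 := by
  classical
  have hcompl := hP.isCompl p hp
  have hex : ∀ z : q.1, ∃ b : p.1, (b : V)⁻¹ * (z : V) ∈ p.2 := by
    intro z
    obtain ⟨b, hb, c, hcW, hbc⟩ := IsPieceCycle.exists_mul hcompl (z : V)
    exact ⟨⟨b, hb⟩, by rw [← hbc, inv_mul_cancel_left]; exact hcW⟩
  choose π hπ using hex
  have hinj : Function.Injective π := by
    intro y z hyz
    apply Subtype.ext
    have h1 : (y : V)⁻¹ * z ∈ p.2 := by
      have h2 := mul_mem (inv_mem (hπ y)) (hπ z)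
      rw [hyz, mul_inv_rev, inv_inv, mul_assoc, mul_inv_cancel_left] at h2
      exact h2
    exact inv_mul_eq_one.1
      (free_inf_eq_bot hP hp hgF hc hq hne hfree (mul_mem (inv_mem y.2) z.2) h1)
  obtain ⟨z, hz⟩ := ((Nat.bijective_iff_injective_and_card π).2 ⟨hinj, hcard⟩).2 ⟨a, ha⟩
  refine ⟨a⁻¹ * z, ?_, by rw [mul_inv_cancel_left]; exact z.2⟩
  have := hπ z
  rw [hz] at this
  exact this

/-- If some member is free, every mixed element lies in one of its translates. -/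
theorem mixed_mem_translate {q : Subgroup V × Subgroup V} (hq : q ∈ P) (hne : q ≠ p)
    (hfree : ¬ q.1 ≤ p.2) (hcard : Nat.card q.1 = Nat.card p.1) {x : V} (hx1 : x ∉ p.1)
    (hx2 : x ∉ p.2) : ∃ n : ℕ, x ∈ (mapPair (g ^ n) q).1 := by
  obtain ⟨a, ha, c, hcW, rfl⟩ := IsPieceCycle.exists_mul (hP.isCompl p hp) x
  have hc1 : c ≠ 1 := fun h => hx1 (by rw [h, mul_one]; exact ha)
  have ha1 : a ≠ 1 := fun h => hx2 (by rw [h, one_mul]; exact hcW)
  obtain ⟨d, hdW, hd⟩ := free_exists_mem hP hp hgF hc hq hne hfree hcard ha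
  have hd1 : d ≠ 1 := fun h => hne (hP.eq_of_mem hp hq ha1 ha (by rw [h, mul_one] at hd; exact hd)).symm
  obtain ⟨n, hn⟩ := hc.trans d hdW hd1 c hcW hc1
  refine ⟨n, ?_⟩
  have h2 : (g ^ n) (a * d) = a * c := by rw [map_mul, hc.fix_pow n a ha, hn]
  exact h2 ▸ mem_map_auto hd

/-- The free members form one orbit of the cycle. -/
theorem free_orbit {q q' : Subgroup V × Subgroup V} (hq : q ∈ P) (hne : q ≠ p)
    (hfree : ¬ q.1 ≤ p.2) (hcard : Nat.card q.1 = Nat.card p.1) (hq' : q' ∈ P) (hne' : q' ≠ p)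
    (hfree' : ¬ q'.1 ≤ p.2) : ∃ n : ℕ, mapPair (g ^ n) q = q' := by
  obtain ⟨x, hx, hxW⟩ : ∃ x ∈ q'.1, x ∉ p.2 := by
    by_contra hno
    push Not at hno
    exact hfree' hno
  have hx1 : x ≠ 1 := fun h => hxW (h ▸ one_mem _)
  have hxU : x ∉ p.1 := fun h => hne' (hP.eq_of_mem hp hq' hx1 h hx).symm
  obtain ⟨n, hn⟩ := mixed_mem_translate hP hp hgF hc hq hne hfree hcard hxU hxW
  exact ⟨n, hP.eq_of_mem (hP.map_mem _ (pow_mem hgF n) q hq) hq' hx1 hn hx⟩

/-- The members inside `W` form one orbit of the cycle and, if there is one, cover `W`. -/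
theorem inside_orbit {q q' : Subgroup V × Subgroup V} (hq : q ∈ P) (hle : q.1 ≤ p.2) (hq' : q' ∈ P)
    (hle' : q'.1 ≤ p.2) : ∃ n : ℕ, mapPair (g ^ n) q = q' := by
  obtain ⟨x, hx, hx1⟩ := hP.exists_ne_one hq
  obtain ⟨y, hy, hy1⟩ := hP.exists_ne_one hq'
  obtain ⟨n, hn⟩ := hc.trans x (hle hx) hx1 y (hle' hy) hy1
  exact ⟨n, hP.eq_of_mem (hP.map_mem _ (pow_mem hgF n) q hq) hq' hy1 (hn ▸ mem_map_auto hx) hy⟩

theorem inside_cover {q : Subgroup V × Subgroup V} (hq : q ∈ P) (hle : q.1 ≤ p.2) {w : V}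
    (hw : w ∈ p.2) (hw1 : w ≠ 1) : ∃ r ∈ P, w ∈ r.1 ∧ r.1 ≤ p.2 := by
  obtain ⟨x, hx, hx1⟩ := hP.exists_ne_one hq
  obtain ⟨n, hn⟩ := hc.trans x (hle hx) hx1 w hw hw1
  refine ⟨_, hP.map_mem _ (pow_mem hgF n) q hq, hn ▸ mem_map_auto hx, ?_⟩
  rintro _ ⟨z, hz, rfl⟩
  exact hc.maps_pow n z (hle hz)

end IsPieceFamily

/-- The two shapes of an irreducible transitive piece family: two blocks, or a spread. -/
theorem two_or_spread {F : Subgroup (MulAut V)} {P : Set (Subgroup V × Subgroup V)}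
    (hP : IsPieceFamily F P) (htr : IsTransFam F P) (hirr : IsIrred F) {p : Subgroup V × Subgroup V}
    (hp : p ∈ P) :
    (∃ q ∈ P, q ≠ p ∧ q.1 = p.2 ∧ q.2 = p.1 ∧ ∀ r ∈ P, r = p ∨ r = q) ∨
      ((∀ x : V, x ≠ 1 → ∃ r ∈ P, x ∈ r.1) ∧
        ∀ r ∈ P, ∃ s ∈ P, ¬ s.1 ≤ r.2 ∧ s ≠ r) := by
  classical
  have hcardEq : ∀ r ∈ P, ∀ s ∈ P, Nat.card r.1 = Nat.card s.1 := by
    intro r hr s hs
    obtain ⟨f, -, hf⟩ := htr r hr s hs
    rw [← hf]
    exact (card_map_auto f r.1).symm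
  by_cases hfree : ∀ r ∈ P, ∀ s ∈ P, s ≠ r → s.1 ≤ r.2
  · left
    obtain ⟨g, hgF, hc, -⟩ := hP.exists_cycle p hp
    obtain ⟨q, hq, hqp⟩ : ∃ q ∈ P, q ≠ p := by
      by_contra hno
      push Not at hno
      rcases hirr p.1 fun f hf x hx => by
        have := congrArg Prod.fst (hno _ (hP.map_mem f hf p hp))
        exact this ▸ mem_map_auto hx with h | h
      · exact hP.ne_bot p hp h
      · apply hP.snd_ne_bot hp
        have := (hP.isCompl p hp).inf_eq_bot
        rwa [h, top_inf_eq] at this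
    have hall : ∀ r ∈ P, r = p ∨ r = q := by
      intro r hr
      by_contra hno
      push Not at hno
      obtain ⟨hrp, hrq⟩ := hno
      obtain ⟨a, ha, ha1⟩ := hP.exists_ne_one hp
      obtain ⟨c, hc', hc1⟩ := hP.exists_ne_one hr
      obtain ⟨gq, hgqF, hcq, -⟩ := hP.exists_cycle q hq
      have hpq : p.1 ≤ q.2 := hfree q hq p hp (Ne.symm hqp)
      have hrq' : r.1 ≤ q.2 := hfree q hq r hr hrq
      have hne : a * c ≠ 1 := fun h => hrp (hP.eq_of_mem hr hp hc1 hc' (by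
        rw [eq_inv_of_mul_eq_one_right h]; exact inv_mem ha))
      obtain ⟨l, hl, hxl, -⟩ := IsPieceFamily.inside_cover hP hq hgqF hcq hp hpq
        (mul_mem (hpq ha) (hrq' hc')) hne
      by_cases hlp : l = p
      · subst hlp
        have hcl : c ∈ l.1 := (Subgroup.mul_mem_cancel_left _ ha).1 hxl
        exact hrp (hP.eq_of_mem hr hl hc1 hc' hcl)
      · have haW : a ∈ p.2 :=
          (Subgroup.mul_mem_cancel_right _ (hfree p hp r hr hrp hc')).1 (hfree p hp l hl hlp hxl)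
        exact ha1 (hP.inf_eq_bot hp ha haW)
    have hWeq : ∀ a ∈ P, ∀ b ∈ P, b ≠ a → (∀ r ∈ P, r = a ∨ r = b) → b.1 = a.2 := by
      intro a ha b hb hba hab
      refine le_antisymm (hfree a ha b hb hba) fun w hw => ?_
      by_cases hw1 : w = 1
      · rw [hw1]; exact one_mem _
      obtain ⟨ga, hgaF, hca, -⟩ := hP.exists_cycle a ha
      obtain ⟨l, hl, hwl, hlle⟩ := IsPieceFamily.inside_cover hP ha hgaF hca hb (hfree a ha b hb hba)
        hw hw1
      rcases hab l hl with rfl | rfl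
      · exact absurd rfl (hP.ne_of_le ha hlle)
      · exact hwl
    exact ⟨q, hq, hqp, hWeq p hp q hq hqp hall,
      (hWeq q hq p hp (Ne.symm hqp) fun r hr => (hall r hr).symm).symm, hall⟩
  · right
    push Not at hfree
    obtain ⟨r₀, hr₀, s₀, hs₀, hsr₀, hnle₀⟩ := hfree
    have hex : ∀ r ∈ P, ∃ s ∈ P, ¬ s.1 ≤ r.2 ∧ s ≠ r := by
      intro r hr
      obtain ⟨f, hf, hfr⟩ := htr r₀ hr₀ r hr
      refine ⟨mapPair f s₀, hP.map_mem f hf s₀ hs₀, ?_, ?_⟩
      · rw [← hfr]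
        exact fun h => hnle₀ ((Subgroup.map_le_map_iff_of_injective f.injective).1 h)
      · rw [← hfr]
        intro h
        apply hsr₀
        have := congrArg (mapPair f⁻¹) h
        rwa [← mapPair_mul, ← mapPair_mul, inv_mul_cancel, mapPair_one, mapPair_one] at this
    refine ⟨?_, hex⟩
    -- the uncovered elements lie in every `W`, hence span a proper invariant subgroup
    let Y : Set V := {x | x ≠ 1 ∧ ∀ r ∈ P, x ∉ r.1}
    by_contra hno
    push Not at hno
    obtain ⟨x, hx1, hx⟩ := hno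
    obtain ⟨g, hgF, hc, -⟩ := hP.exists_cycle p hp
    obtain ⟨q, hq, hqf, hqp⟩ := hex p hp
    have hYW : Y ⊆ (p.2 : Set V) := by
      intro y hy
      by_contra hyW
      obtain ⟨n, hn⟩ := IsPieceFamily.mixed_mem_translate hP hp hgF hc hq hqp hqf
        (hcardEq q hq p hp) (hy.2 p hp) hyW
      exact hy.2 _ (hP.map_mem _ (pow_mem hgF n) q hq) hn
    have hinv : ∀ f ∈ F, ∀ z ∈ closure Y, f z ∈ closure Y := by
      intro f hf z hz
      induction hz using closure_induction with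
      | mem y hy =>
        refine subset_closure ⟨fun h => hy.1 (f.injective (h.trans (map_one f).symm)), ?_⟩
        intro r hr hmem
        refine hy.2 (mapPair f⁻¹ r) (hP.map_mem _ (inv_mem hf) r hr) ?_
        have h2 : f⁻¹ (f y) = y := MulAut.inv_apply_self V f y
        exact h2 ▸ mem_map_auto hmem
      | one => rw [map_one]; exact one_mem _
      | mul a b _ _ iha ihb => rw [map_mul]; exact mul_mem iha ihb
      | inv a _ iha => rw [map_inv]; exact inv_mem iha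
    have hxY : x ∈ closure Y := subset_closure ⟨hx1, hx⟩
    rcases hirr _ hinv with h | h
    · exact hx1 (mem_bot.1 (h ▸ hxY))
    · have h2 : p.2 = ⊤ := top_le_iff.1 (h ▸ (closure_le _).2 hYW)
      obtain ⟨a, ha, ha1⟩ := hP.exists_ne_one hp
      exact ha1 (hP.inf_eq_bot hp ha (h2 ▸ mem_top a))

end CfsgLib.Goldschmidt
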