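import Cfsg.Agent.Lib.Goldschmidt.CoverDefs
import Cfsg.Agent.Lib.Goldschmidt.LayerPi
import Cfsg.Agent.Lib.Goldschmidt.Reduced
import Cfsg.Agent.Lib.LocalEven.SubnormalJoin
import Cfsg.Agent.Lib.LocalEvenSix.ZJClosed
import Cfsg.Prelude.Def_LocalEven
import Cfsg.Prelude.Def_PLocal

/-!
# Goldschmidt's theorem: the structural form

In a group `H` with trivial core generated by the conjugates of an abelian strongly closed `B` the layer is
the commutator subgroup, `B = O₂(H) · Ω₁(T)` and the components are covers of Goldschmidt groups; applied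
to the normal closure of `A` modulo its core this is S2775.
-/

set_option autoImplicit false
set_option linter.unusedSectionVars false
set_option linter.style.haveILetI false

namespace CfsgLib.Goldschmidt

open Subgroup
open scoped Classical commutatorElement

universe u

local instance : Fact (Nat.Prime 2) := ⟨Nat.prime_two⟩

section Reduced

variable {H : Type u} [Group H] [Finite H] {T : Sylow 2 H} {B : Subgroup H}

theorem structure_sup_eq_top (hO : Cfsg.pPrimeCore 2 H = ⊥) (hB : IsMulCommutative ↥B)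
    (hsc : Cfsg.IsStronglyClosed B (T : Subgroup H)) (hloc : LocalFacts (T : Subgroup H) B)
    (hgen : normalClosure (B : Set H) = ⊤) :
    (B ⊓ centralizer (Cfsg.layer H : Set H)) ⊔ Cfsg.layer H = ⊤ := by
  haveI := sup_layer_normal hO hB hsc hloc
  refine top_unique ((hgen.ge.trans (normalClosure_le_normal (N := B ⊔ Cfsg.layer H)
    fun x hx => mem_sup_left hx)).trans (sup_le (fun b hb => ?_) le_sup_right))
  obtain ⟨e, he, hc⟩ := exists_compPart hB hloc hb
  rw [← mul_inv_cancel_left e b]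
  exact mul_mem (mem_sup_right (compParts_le B he).2) (mem_sup_left hc)

theorem structure_fixed_le_center (hO : Cfsg.pPrimeCore 2 H = ⊥) (hB : IsMulCommutative ↥B)
    (hsc : Cfsg.IsStronglyClosed B (T : Subgroup H)) (hloc : LocalFacts (T : Subgroup H) B)
    (hgen : normalClosure (B : Set H) = ⊤) :
    B ⊓ centralizer (Cfsg.layer H : Set H) ≤ center H := by
  intro c hc
  have h : (B ⊓ centralizer (Cfsg.layer H : Set H)) ⊔ Cfsg.layer H ≤ centralizer ({c} : Set H) := by
    refine sup_le (fun d hd => mem_centralizer_singleton_iff.2 ?_) fun d hd =>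
      mem_centralizer_singleton_iff.2 (mem_centralizer_iff.1 hc.2 d hd)
    exact congrArg Subtype.val (hB.is_comm.comm (⟨d, hd.1⟩ : B) ⟨c, hc.1⟩)
  rw [structure_sup_eq_top hO hB hsc hloc hgen] at h
  exact mem_center_iff.2 fun d => mem_centralizer_singleton_iff.1 (h (mem_top d))

theorem structure_commutator (hO : Cfsg.pPrimeCore 2 H = ⊥) (hB : IsMulCommutative ↥B)
    (hsc : Cfsg.IsStronglyClosed B (T : Subgroup H)) (hloc : LocalFacts (T : Subgroup H) B)
    (hgen : normalClosure (B : Set H) = ⊤) :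
    commutator H = Cfsg.layer H := by
  refine le_antisymm ?_ ?_
  · rw [_root_.commutator_def]
    refine commutator_le.2 fun x _ y _ => ?_
    haveI : (Cfsg.layer H).Normal := by infer_instance
    haveI := inf_centralizer_layer_normal hO hB hsc
    have hdec : ∀ z : H, ∃ c ∈ center H, ∃ l ∈ Cfsg.layer H, z = c * l := fun z => by
      obtain ⟨c, hc, l, hl, rfl⟩ := mem_sup_of_normal_right.1
        (structure_sup_eq_top hO hB hsc hloc hgen ▸ mem_top z)
      exact ⟨c, structure_fixed_le_center hO hB hsc hloc hgen hc, l, hl, rfl⟩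
    obtain ⟨c, hc, l, hl, rfl⟩ := hdec x
    obtain ⟨d, hd, m, hm, rfl⟩ := hdec y
    have e : ⁅c * l, d * m⁆ = ⁅l, m⁆ := by
      have h1 : ∀ g, Commute c g := fun g => (mem_center_iff.1 hc g).symm
      have h2 : ∀ g, Commute d g := fun g => (mem_center_iff.1 hd g).symm
      simp only [commutatorElement_def, mul_inv_rev]
      calc c * l * (d * m) * (l⁻¹ * c⁻¹) * (m⁻¹ * d⁻¹)
          = c * (l * d) * m * l⁻¹ * c⁻¹ * m⁻¹ * d⁻¹ := by group
        _ = c * (d * l * m * l⁻¹) * c⁻¹ * m⁻¹ * d⁻¹ := by rw [← (h2 l).eq]; group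
        _ = d * l * m * l⁻¹ * m⁻¹ * d⁻¹ := by rw [(h1 _).eq]; group
        _ = d * (l * m * l⁻¹ * m⁻¹) * d⁻¹ := by group
        _ = l * m * l⁻¹ * m⁻¹ := by rw [(h2 _).eq]; group
    rw [e, commutatorElement_def]
    exact mul_mem (mul_mem (mul_mem hl hm) (inv_mem hl)) (inv_mem hm)
  · rw [_root_.commutator_def]
    exact Components.commutator_layer_self.symm.le.trans (commutator_mono le_top le_top)

theorem structure_isAComp (hO : Cfsg.pPrimeCore 2 H = ⊥) (hB : IsMulCommutative ↥B)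
    (hsc : Cfsg.IsStronglyClosed B (T : Subgroup H)) (hloc : LocalFacts (T : Subgroup H) B)
    (hgen : normalClosure (B : Set H) = ⊤) {L : Subgroup H} (hL : Cfsg.IsComponent L) :
    IsAComp B L := by
  refine ⟨hL, fun h => ?_⟩
  haveI : L.Normal := by
    rw [← normalizer_eq_top_iff, ← top_le_iff, ← structure_sup_eq_top hO hB hsc hloc hgen]
    exact sup_le (inf_le_left.trans (hloc.le_normalizer L hL))
      (Components.layer_le_normalizer_component hL)
  have htop : L ≤ centralizer (L : Set H) := by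
    have := hgen.ge.trans (normalClosure_le_normal (N := centralizer (L : Set H)) h)
    exact le_top.trans this
  exact Components.component_inf_centralizer_ne hL (inf_eq_left.2 htop)

theorem structure_pCore_le_center (hO : Cfsg.pPrimeCore 2 H = ⊥) (hB : IsMulCommutative ↥B)
    (hsc : Cfsg.IsStronglyClosed B (T : Subgroup H)) (hloc : LocalFacts (T : Subgroup H) B)
    (hgen : normalClosure (B : Set H) = ⊤) :
    Cfsg.pCore 2 H ≤ center H := by
  intro q hq
  have h : (B ⊓ centralizer (Cfsg.layer H : Set H)) ⊔ Cfsg.layer H ≤ centralizer ({q} : Set H) :=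
    sup_le (fun d hd => mem_centralizer_singleton_iff.2
        ((mem_center_iff.1 (structure_fixed_le_center hO hB hsc hloc hgen hd) q)).symm)
      fun d hd => mem_centralizer_singleton_iff.2
        (mem_centralizer_iff.1 (layer_le_centralizer_twoCore hO hd) q hq).symm
  rw [structure_sup_eq_top hO hB hsc hloc hgen] at h
  exact mem_center_iff.2 fun d => mem_centralizer_singleton_iff.1 (h (mem_top d))

theorem structure_pCore_sup (hO : Cfsg.pPrimeCore 2 H = ⊥) (hB : IsMulCommutative ↥B)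
    (hsc : Cfsg.IsStronglyClosed B (T : Subgroup H)) (hloc : LocalFacts (T : Subgroup H) B)
    (hgen : normalClosure (B : Set H) = ⊤) :
    Cfsg.pCore 2 H ⊔ commutator H = ⊤ := by
  rw [structure_commutator hO hB hsc hloc hgen]
  exact top_unique ((structure_sup_eq_top hO hB hsc hloc hgen).ge.trans
    (sup_le_sup_right (inf_centralizer_layer_le_twoCore hO hB hsc) _))

/-- The image of `B ⊓ L` in any quotient of `L` by its centre is the witness of `HasSCA`. -/
theorem structure_hasSCA (hO : Cfsg.pPrimeCore 2 H = ⊥) (hB : IsMulCommutative ↥B)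
    (hsc : Cfsg.IsStronglyClosed B (T : Subgroup H)) (hloc : LocalFacts (T : Subgroup H) B)
    {L : Subgroup H} (hA : IsAComp B L) {Y : Type u} [Group Y] (q : ↥L →* Y)
    (hq : Function.Surjective q) (hker : ∀ a : ↥L, q a = 1 ↔ (a : H) ∈ centralizer (L : Set H)) :
    ∃ T' : Sylow 2 Y, (∀ a : ↥L, q a ∈ (T' : Subgroup Y) ↔ (a : H) ∈ T) ∧
      Cfsg.IsStronglyClosed ((B.subgroupOf L).map q) (T' : Subgroup Y) ∧
      IsMulCommutative ↥((B.subgroupOf L).map q) ∧ (B.subgroupOf L).map q ≠ ⊥ := by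
  have hY : Finite Y := Finite.of_surjective q hq
  obtain ⟨P, hP⟩ := CfsgLib.SubJoin.exists_sylow_subnormal T hA.1.1
  have hz : ∀ a : ↥L, q a = 1 → (a : H) ∈ T := fun a ha =>
    (CfsgLib.Components.component_center_le_pCore hO hA.1).trans (CfsgLib.PCore.pCore_le_sylow T)
      ⟨a.2, (hker a).1 ha⟩
  have hmem : ∀ a : ↥L, q a ∈ (P.mapSurjective hq : Subgroup Y) ↔ (a : H) ∈ T := fun a => by
    rw [Sylow.coe_mapSurjective, hP]
    refine ⟨?_, fun ha => ⟨a, mem_subgroupOf.2 ha, rfl⟩⟩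
    rintro ⟨r, hr, hra⟩
    have h1 := hz (r⁻¹ * a) (by rw [map_mul, map_inv, hra, inv_mul_cancel])
    have e : (a : H) = (r : H) * ((r⁻¹ * a : ↥L) : H) := by simp
    rw [e]
    exact mul_mem (mem_subgroupOf.1 hr) h1
  refine ⟨P.mapSurjective hq, hmem, ⟨?_, ?_⟩, ⟨⟨?_⟩⟩, ?_⟩
  · rintro _ ⟨b, hb, rfl⟩
    exact (hmem b).2 (hsc.1 (mem_subgroupOf.1 hb))
  · rintro _ ⟨b, hb, rfl⟩ y hy
    obtain ⟨a, rfl⟩ := hq y
    rw [← map_inv, ← map_mul, ← map_mul] at hy ⊢
    exact ⟨_, mem_subgroupOf.2 (by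
      rw [Subgroup.coe_mul, Subgroup.coe_mul, Subgroup.coe_inv]
      exact hsc.2 b (mem_subgroupOf.1 hb) a (by
        have := (hmem _).1 hy
        rwa [Subgroup.coe_mul, Subgroup.coe_mul, Subgroup.coe_inv] at this)), rfl⟩
  · rintro ⟨_, b, hb, rfl⟩ ⟨_, c, hc, rfl⟩
    refine Subtype.ext ?_
    show q b * q c = q c * q b
    rw [← map_mul, ← map_mul]
    exact congrArg q (Subtype.ext (congrArg Subtype.val
      (hB.is_comm.comm (⟨b, mem_subgroupOf.1 hb⟩ : B) ⟨c, mem_subgroupOf.1 hc⟩) :))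
  · intro hbot
    obtain ⟨W, g, hc⟩ := hloc.exists_cycle L hA
    have h4 := hc.cycle.four_le
    have : W = ⊥ := (eq_bot_iff_forall _).2 fun w hw => by
      have h1 : q ⟨w, hc.le hw⟩ = 1 := by
        rw [← mem_bot, ← hbot]
        exact ⟨_, mem_subgroupOf.2 (hc.cycle.le hw), rfl⟩
      rw [← mem_bot, ← hc.inf_eq]
      exact ⟨hw, (hker _).1 h1⟩
    rw [this, card_bot] at h4
    omega

/-- The part `W` of a cycle is elementary. -/
theorem structure_cycle_sq (hsc : Cfsg.IsStronglyClosed B (T : Subgroup H))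
    {L W : Subgroup H} {g : H} (hc : CompCycle B L W g) : ∀ w ∈ W, w ^ 2 = 1 := by
  intro w hw
  by_cases hw1 : w = 1
  · rw [hw1, one_pow]
  have hW : IsPGroup 2 ↥W := T.2.to_le (hc.cycle.le.trans hsc.1)
  have h2 : 2 ∣ Nat.card W := by
    obtain ⟨k, hk⟩ := hW.exists_card_eq
    have := hc.cycle.four_le
    rcases k with - | k
    · rw [hk] at this; norm_num at this
    · rw [hk]; exact dvd_pow_self 2 k.succ_ne_zero
  obtain ⟨x, hx⟩ := exists_prime_orderOf_dvd_card' (G := W) 2 h2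
  have hxo : orderOf (x : H) = 2 := by rw [Subgroup.orderOf_coe]; exact hx
  obtain ⟨i, rfl⟩ := hc.cycle.trans x x.2 (fun e => by rw [e, orderOf_one] at hxo; omega) w hw hw1
  rw [conj_pow, ← hxo, pow_orderOf_eq_one, mul_one, mul_inv_cancel]

theorem structure_not_comm {Y : Type u} [Group Y] [IsSimpleGroup Y] (hY : Group.IsPerfect Y) :
    ¬ IsMulCommutative Y := fun h => by
  have h1 : commutator Y = ⊥ := by
    rw [_root_.commutator_def]
    exact commutator_eq_bot_iff_le_centralizer.2 fun a _ => mem_centralizer_iff.2 fun b _ =>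
      h.is_comm.comm b a
  rw [hY.commutator_eq_top] at h1
  exact top_ne_bot h1

/-- In an abelian strongly closed subgroup the central elements of a moved component lie. -/
theorem structure_center_le (hCF : CoverFacts.{u})
    (hconcl : ∀ (X : Type u) [Group X] [Finite X] [IsSimpleGroup X], ¬ IsMulCommutative X →
      HasSCA X → Concl X)
    (hO : Cfsg.pPrimeCore 2 H = ⊥) (hB : IsMulCommutative ↥B)
    (hsc : Cfsg.IsStronglyClosed B (T : Subgroup H)) (hgood : GoodComps B)
    (hloc : LocalFacts (T : Subgroup H) B) {L : Subgroup H} (hA : IsAComp B L) :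
    L ⊓ centralizer (L : Set H) ≤ B := by
  intro z₁ hz₁
  by_contra hzB
  have hqs : Cfsg.IsQuasisimple ↥L := hA.1.2
  haveI : IsSimpleGroup (↥L ⧸ center ↥L) := hqs.2
  have hcenL : ∀ a : ↥L, a ∈ center ↥L ↔ (a : H) ∈ centralizer (L : Set H) := fun a =>
    ⟨fun h => mem_centralizer_iff.2 fun y hy => congrArg Subtype.val (mem_center_iff.1 h ⟨y, hy⟩),
      fun h => mem_center_iff.2 fun y => Subtype.ext (mem_centralizer_iff.1 h y y.2)⟩
  have hZT : ∀ a : ↥L, a ∈ center ↥L → (a : H) ∈ T := fun a ha =>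
    (CfsgLib.Components.component_center_le_pCore hO hA.1).trans (CfsgLib.PCore.pCore_le_sylow T)
      ⟨a.2, (hcenL a).1 ha⟩
  set N : Subgroup ↥L := B.subgroupOf L ⊓ center ↥L with hN
  haveI : N.Normal := ⟨fun n hn a => by rwa [mem_center_iff.1 hn.2 a, mul_inv_cancel_right]⟩
  set q := QuotientGroup.mk' N with hqd
  have hq : Function.Surjective q := QuotientGroup.mk'_surjective _
  haveI : Nontrivial (↥L ⧸ N) := QuotientGroup.nontrivial_iff.2 fun h => by
    have : center ↥L = ⊤ := top_unique (h ▸ inf_le_right)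
    exact Components.component_inf_centralizer_ne hA.1 (inf_eq_left.2 fun a ha =>
      (hcenL ⟨a, ha⟩).1 (this ▸ mem_top _))
  have hX : Cfsg.IsQuasisimple (↥L ⧸ N) := Components.isQuasisimple_of_surjective hqs q hq
  haveI : IsSimpleGroup ((↥L ⧸ N) ⧸ center (↥L ⧸ N)) := hX.2
  set r := QuotientGroup.mk' (center (↥L ⧸ N)) with hrd
  have hcq : ∀ a : ↥L, q a ∈ center (↥L ⧸ N) ↔ a ∈ center ↥L := by
    intro a
    constructor
    · intro ha
      haveI hn : ((center (↥L ⧸ N)).comap q).Normal := inferInstance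
      rcases Components.quasisimple_normal_eq_top_or_le_center hqs ((center (↥L ⧸ N)).comap q) with h | h
      · exfalso
        have htop : center (↥L ⧸ N) = ⊤ := by
          rw [← map_comap_eq_self_of_surjective hq (center (↥L ⧸ N)), h, map_top_of_surjective q hq]
        have : Subsingleton ((↥L ⧸ N) ⧸ center (↥L ⧸ N)) := by
          rw [htop]; exact QuotientGroup.subsingleton_quotient_top
        exact false_of_nontrivial_of_subsingleton ((↥L ⧸ N) ⧸ center (↥L ⧸ N))
      · exact h ha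
    · intro ha
      exact Components.map_center_le_center_of_surjective q hq ⟨a, ha, rfl⟩
  have hker : ∀ a : ↥L, r (q a) = 1 ↔ (a : H) ∈ centralizer (L : Set H) := fun a => by
    rw [hrd, QuotientGroup.mk'_apply, QuotientGroup.eq_one_iff, hcq, hcenL]
  -- the strongly closed subgroup of the simple quotient
  obtain ⟨TY, hTY, hscY, hcommY, hneY⟩ := structure_hasSCA hO hB hsc hloc hA (r.comp q)
    ((QuotientGroup.mk'_surjective _).comp hq) hker
  have hYna : ¬ IsMulCommutative ((↥L ⧸ N) ⧸ center (↥L ⧸ N)) := by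
    haveI := hX.1
    exact structure_not_comm (Group.IsPerfect.ofSurjective (QuotientGroup.mk'_surjective _))
  obtain ⟨Tb, hTb, hscb, hcommb, hneb⟩ := structure_hasSCA hO hB hsc hloc hA
    (QuotientGroup.mk' (center ↥L)) (QuotientGroup.mk'_surjective _)
    fun a => by rw [QuotientGroup.mk'_apply, QuotientGroup.eq_one_iff, hcenL]
  have hinv := (hgood L hA).sc_eq Tb _ hscb hcommb hneb
  obtain ⟨W, g, hc⟩ := hloc.exists_cycle L hA
  -- a central involution of the quotient
  have hz : q ⟨z₁, hz₁.1⟩ ≠ 1 := fun h => hzB (mem_subgroupOf.1 ((QuotientGroup.eq_one_iff _).1 h).1)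
  have hZ2 : IsPGroup 2 ↥(center (↥L ⧸ N)) := fun a => by
    obtain ⟨b, hb⟩ := hq (a : ↥L ⧸ N)
    obtain ⟨k, hk⟩ := T.2 ⟨(b : H), hZT b ((hcq b).1 (hb ▸ a.2))⟩
    refine ⟨k, Subtype.ext ?_⟩
    have hk' : b ^ 2 ^ k = 1 := Subtype.ext (congrArg Subtype.val hk :)
    rw [coe_pow, coe_one, ← hb, ← map_pow, hk', map_one]
  obtain ⟨z, hz2⟩ := exists_prime_orderOf_dvd_card' (G := center (↥L ⧸ N)) 2 (by
    obtain ⟨k, hk⟩ := hZ2.exists_card_eq
    rcases k with - | k
    · haveI : Subsingleton (center (↥L ⧸ N)) := (Nat.card_eq_one_iff_unique.1 (by rw [hk, pow_zero])).1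
      exact absurd (congrArg Subtype.val (Subsingleton.elim
        (⟨q ⟨z₁, hz₁.1⟩, (hcq _).2 ((hcenL _).2 hz₁.2)⟩ : center (↥L ⧸ N)) 1)) hz
    · rw [hk]; exact dvd_pow_self 2 k.succ_ne_zero)
  obtain ⟨P, hP⟩ := CfsgLib.SubJoin.exists_sylow_subnormal T hA.1.1
  set TX := P.mapSurjective hq with hTX
  -- the abelian group whose involutions are used
  set D : Subgroup ↥L := B.subgroupOf L ⊔ center ↥L with hD
  have hDcomm : ∀ a ∈ D, ∀ b ∈ D, a * b = b * a := by
    intro a ha b hb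
    obtain ⟨a₁, ha₁, a₂, ha₂, rfl⟩ := mem_sup_of_normal_right.1 ha
    obtain ⟨b₁, hb₁, b₂, hb₂, rfl⟩ := mem_sup_of_normal_right.1 hb
    have h1 : a₁ * b₁ = b₁ * a₁ := Subtype.ext (congrArg Subtype.val
      (hB.is_comm.comm (⟨a₁, mem_subgroupOf.1 ha₁⟩ : B) ⟨b₁, mem_subgroupOf.1 hb₁⟩) :)
    have h2 := mem_center_iff.1 ha₂
    have h3 := mem_center_iff.1 hb₂
    calc a₁ * a₂ * (b₁ * b₂) = a₁ * (a₂ * b₁) * b₂ := by group
      _ = a₁ * (b₁ * a₂) * b₂ := by rw [h2]
      _ = (a₁ * b₁) * (a₂ * b₂) := by group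
      _ = (b₁ * a₁) * (b₂ * a₂) := by rw [h1, ← h2 b₂]
      _ = b₁ * (a₁ * b₂) * a₂ := by group
      _ = b₁ * (b₂ * a₁) * a₂ := by rw [h3]
      _ = b₁ * b₂ * (a₁ * a₂) := by group
  let E : Subgroup (↥L ⧸ N) :=
    { carrier := {x | x ∈ D.map q ∧ x ^ 2 = 1}
      one_mem' := ⟨one_mem _, one_pow _⟩
      mul_mem' := fun {a b} ha hb => ⟨mul_mem ha.1 hb.1, by
        obtain ⟨a', ha', rfl⟩ := ha.1
        obtain ⟨b', hb', rfl⟩ := hb.1
        have hcm : Commute (q a') (q b') := (show Commute a' b' from hDcomm a' ha' b' hb').map q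
        rw [hcm.mul_pow, ha.2, hb.2, mul_one]⟩
      inv_mem' := fun {a} ha => ⟨inv_mem ha.1, by rw [inv_pow, ha.2, inv_one]⟩ }
  have hEmem : ∀ x, x ∈ E ↔ x ∈ D.map q ∧ x ^ 2 = 1 := fun x => Iff.rfl
  have hEelem : Cfsg.IsElementaryAbelian 2 E := by
    refine ⟨⟨⟨fun a b => Subtype.ext ?_⟩⟩, fun a ha => ((hEmem a).1 ha).2⟩
    obtain ⟨a', ha', hae⟩ := ((hEmem _).1 a.2).1
    obtain ⟨b', hb', hbe⟩ := ((hEmem _).1 b.2).1
    show (a : ↥L ⧸ N) * b = b * a
    rw [← hae, ← hbe, ← map_mul, ← map_mul, hDcomm a' ha' b' hb']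
  have hDT : D ≤ (P : Subgroup ↥L) := by
    rw [hP]
    exact sup_le (fun a ha => mem_subgroupOf.2 (hsc.1 (mem_subgroupOf.1 ha)))
      fun a ha => mem_subgroupOf.2 (hZT a ha)
  have hET : E ≤ (TX : Subgroup (↥L ⧸ N)) := fun x hx => by
    rw [hTX, Sylow.coe_mapSurjective]
    exact map_mono hDT ((hEmem x).1 hx).1
  have honto : ∀ x ∈ involSet (((TX : Subgroup (↥L ⧸ N))).map r), ∃ b ∈ E, r b = x := by
    rintro x ⟨⟨w, hw, rfl⟩, hx2⟩
    rw [hTX, Sylow.coe_mapSurjective] at hw
    obtain ⟨a, ha, rfl⟩ := hw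
    rw [hP] at ha
    have ha' : QuotientGroup.mk' (center ↥L) a ∈ involSet (Tb : Subgroup (↥L ⧸ center ↥L)) := by
      refine ⟨(hTb a).2 (mem_subgroupOf.1 ha), ?_⟩
      rw [← map_pow, QuotientGroup.mk'_apply, QuotientGroup.eq_one_iff, hcenL]
      exact (hker _).1 (by rw [map_pow, map_pow]; exact hx2)
    rw [← hinv] at ha'
    obtain ⟨b, hb, hba⟩ := ha'
    obtain ⟨w, hw, hbw⟩ := hc.exists_mul (b : H) (mem_subgroupOf.1 hb)
    let w' : ↥L := ⟨w, hc.le hw⟩
    have hw' : w' ^ 2 = 1 := Subtype.ext (structure_cycle_sq hsc hc w hw)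
    refine ⟨q w', (hEmem _).2 ⟨⟨w', mem_sup_left (mem_subgroupOf.2 (hc.cycle.le hw)), rfl⟩, by
      rw [← map_pow, hw', map_one]⟩, ?_⟩
    have h1 : r (q (a⁻¹ * b)) = 1 := by
      rw [hker, ← hcenL, ← QuotientGroup.eq_one_iff, ← QuotientGroup.mk'_apply, map_mul, map_inv,
        ← hba, inv_mul_cancel]
    have h2 : r (q (b * w')) = 1 := (hker _).2 hbw
    rw [map_mul, map_mul, map_inv, map_inv, inv_mul_eq_one] at h1
    rw [map_mul, map_mul, mul_eq_one_iff_eq_inv, ← map_inv, ← map_inv] at h2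
    rw [h1, h2, inv_eq_of_mul_eq_one_right (by rw [← pow_two]; exact hw')]
  have hzE : (z : ↥L ⧸ N) ∈ E := by
    obtain ⟨a, ha⟩ := hq (z : ↥L ⧸ N)
    refine (hEmem _).2 ⟨⟨a, mem_sup_right ((hcq a).1 (ha ▸ z.2)), ha⟩, ?_⟩
    rw [← coe_pow, ← hz2, pow_orderOf_eq_one, coe_one]
  have hmeet : E ⊓ center (↥L ⧸ N) ≠ ⊥ := fun h => by
    have : (z : ↥L ⧸ N) = 1 := by rw [← mem_bot, ← h]; exact ⟨hzE, z.2⟩
    rw [show z = 1 from Subtype.ext this, orderOf_one] at hz2
    omega
  obtain ⟨-, -, ⟨t, ht, b, hb, htb⟩, -⟩ := hCF (↥L ⧸ N) hX hZ2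
    ⟨TY, _, hneY, hcommY, hscY⟩ (hconcl _ hYna ⟨TY, _, hneY, hcommY, hscY⟩)
    TX E hET hEelem honto hmeet
  refine htb ?_
  rw [hTX, Sylow.coe_mapSurjective] at ht
  obtain ⟨t', ht', rfl⟩ := ht
  rw [hP] at ht'
  obtain ⟨b', hb', rfl⟩ := ((hEmem b).1 hb).1
  obtain ⟨b₁, hb₁, b₂, hb₂, rfl⟩ := mem_sup_of_normal_right.1 hb'
  have hco : t' * b₁ * t'⁻¹ * b₁⁻¹ ∈ N := by
    refine ⟨mem_subgroupOf.2 ?_, (hcenL _).2 ?_⟩
    · simp only [Subgroup.coe_mul, Subgroup.coe_inv]
      exact mul_mem (hsc.2 _ (mem_subgroupOf.1 hb₁) _ (mul_mem (mul_mem (mem_subgroupOf.1 ht')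
        (hsc.1 (mem_subgroupOf.1 hb₁))) (inv_mem (mem_subgroupOf.1 ht')))) (inv_mem (mem_subgroupOf.1 hb₁))
    · simp only [Subgroup.coe_mul, Subgroup.coe_inv]
      exact hloc.comm_mem L hA t' ⟨mem_subgroupOf.1 ht', t'.2⟩ b₁ (mem_subgroupOf.1 hb₁)
  have e : q t' * q b₁ = q b₁ * q t' := by
    have h1 : q (t' * b₁ * t'⁻¹ * b₁⁻¹) = 1 := (QuotientGroup.eq_one_iff _).2 hco
    rw [map_mul, map_mul, map_mul, map_inv, map_inv] at h1
    exact mul_inv_eq_iff_eq_mul.1 (mul_inv_eq_one.1 h1)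
  rw [map_mul, ← mul_assoc, e, mul_assoc, ← map_mul q t', mem_center_iff.1 hb₂ t', map_mul, ← mul_assoc]

theorem structure_pCore_le (hCF : CoverFacts.{u})
    (hconcl : ∀ (X : Type u) [Group X] [Finite X] [IsSimpleGroup X], ¬ IsMulCommutative X →
      HasSCA X → Concl X)
    (hO : Cfsg.pPrimeCore 2 H = ⊥) (hB : IsMulCommutative ↥B)
    (hsc : Cfsg.IsStronglyClosed B (T : Subgroup H)) (hgood : GoodComps B)
    (hloc : LocalFacts (T : Subgroup H) B) (hgen : normalClosure (B : Set H) = ⊤) :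
    Cfsg.pCore 2 H ≤ B := by
  intro x hx
  haveI := inf_centralizer_layer_normal hO hB hsc
  obtain ⟨c, hc, l, hl, rfl⟩ := mem_sup_of_normal_left.1
    (structure_sup_eq_top hO hB hsc hloc hgen ▸ mem_top x)
  refine mul_mem hc.1 ?_
  have h1 : l ∈ Cfsg.layer H ⊓ centralizer (Cfsg.layer H : Set H) := by
    refine ⟨hl, mem_centralizer_iff.2 fun a _ => ?_⟩
    have e := mem_center_iff.1 (structure_pCore_le_center hO hB hsc hloc hgen hx) a
    have ec := mem_center_iff.1 (structure_fixed_le_center hO hB hsc hloc hgen hc) a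
    rw [← mul_assoc, ec, mul_assoc, mul_assoc] at e
    exact mul_left_cancel e
  rw [Components.center_layer_eq] at h1
  exact (iSup_le fun L => structure_center_le hCF hconcl hO hB hsc hgood hloc
    (structure_isAComp hO hB hsc hloc hgen L.2) : _ ≤ B) h1

theorem structure_omega (hCF : CoverFacts.{u})
    (hconcl : ∀ (X : Type u) [Group X] [Finite X] [IsSimpleGroup X], ¬ IsMulCommutative X →
      HasSCA X → Concl X)
    (hO : Cfsg.pPrimeCore 2 H = ⊥) (hB : IsMulCommutative ↥B)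
    (hsc : Cfsg.IsStronglyClosed B (T : Subgroup H)) (hgood : GoodComps B)
    (hloc : LocalFacts (T : Subgroup H) B) (hgen : normalClosure (B : Set H) = ⊤) :
    B = Cfsg.pCore 2 H ⊔ Cfsg.omegaOne 2 (T : Subgroup H) := by
  refine le_antisymm (fun b hb => ?_)
    (sup_le (structure_pCore_le hCF hconcl hO hB hsc hgood hloc hgen) ?_)
  · obtain ⟨e, he, hec⟩ := exists_compPart hB hloc hb
    rw [← mul_inv_cancel_left e b]
    refine mul_mem (mem_sup_right ?_) (mem_sup_left (inf_centralizer_layer_le_twoCore hO hB hsc hec))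
    have hW : compParts B ≤ Cfsg.omegaOne 2 (T : Subgroup H) := sSup_le fun W hW w hw => by
      obtain ⟨L, g, hA, hc⟩ := hW
      exact subset_closure ⟨hsc.1 (hc.cycle.le hw), structure_cycle_sq hsc hc w hw⟩
    exact hW he
  · refine (closure_le _).2 fun x hx => ?_
    obtain ⟨hxT, hx2⟩ := hx
    haveI := inf_centralizer_layer_normal hO hB hsc
    obtain ⟨c, hc, l, hl, rfl⟩ := mem_sup_of_normal_left.1
      (structure_sup_eq_top hO hB hsc hloc hgen ▸ mem_top x)
    have hcZ := mem_center_iff.1 (structure_fixed_le_center hO hB hsc hloc hgen hc)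
    have hlT : l ∈ (T : Subgroup H) := by
      have := mul_mem (inv_mem (hsc.1 hc.1)) hxT
      rwa [inv_mul_cancel_left] at this
    refine mul_mem hc.1 ?_
    haveI : Fintype {L : Subgroup H // Cfsg.IsComponent L} := Fintype.ofFinite _
    let f := Equiv.refl {L : Subgroup H // Cfsg.IsComponent L}
    obtain ⟨ls, hls⟩ := layerPiToLayer_surjective f ⟨l, hl⟩
    have hall : ∀ i, (ls i : H) ∈ B := by
      intro i
      have hA : IsAComp B (f i : Subgroup H) := structure_isAComp hO hB hsc hloc hgen (f i).2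
      haveI : IsSimpleGroup (↥(f i : Subgroup H) ⧸ center ↥(f i : Subgroup H)) := (f i).2.2.2
      obtain ⟨Tb, hTb, hscb, hcommb, hneb⟩ := structure_hasSCA hO hB hsc hloc hA
        (QuotientGroup.mk' (center ↥(f i : Subgroup H))) (QuotientGroup.mk'_surjective _) fun a => by
        rw [QuotientGroup.mk'_apply, QuotientGroup.eq_one_iff, mem_center_iff, mem_centralizer_iff]
        exact ⟨fun h y hy => congrArg Subtype.val (h ⟨y, hy⟩), fun h y => Subtype.ext (h y y.2)⟩
      have hinv := (hgood _ hA).sc_eq Tb _ hscb hcommb hneb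
      set Tl : Subgroup ↥(Cfsg.layer H) := (T : Subgroup H).subgroupOf (Cfsg.layer H) with hTl
      have hTl2 : IsPGroup 2 ↥(Tl.map (layerProj f i)) :=
        (T.2.comap_subtype (K := Cfsg.layer H)).map _
      have hTb_le : (Tb : Subgroup _) ≤ Tl.map (layerProj f i) := by
        intro y hy
        obtain ⟨a, rfl⟩ := QuotientGroup.mk'_surjective _ y
        exact ⟨⟨a, Components.component_le_layer (f i).2 a.2⟩, mem_subgroupOf.2 ((hTb a).1 hy),
          layerProj_component f i a⟩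
      have hmem : QuotientGroup.mk' (center ↥(f i : Subgroup H)) (ls i) ∈
          involSet (Tb : Subgroup (↥(f i : Subgroup H) ⧸ center ↥(f i : Subgroup H))) := by
        refine ⟨?_, ?_⟩
        · rw [← Tb.3 hTl2 hTb_le]
          exact ⟨layerPiToLayer f ls, mem_subgroupOf.2 (by rw [hls]; exact hlT), layerProj_apply f i ls⟩
        · rw [← map_pow, QuotientGroup.mk'_apply, QuotientGroup.eq_one_iff]
          refine (layerPiHom_mem_center_iff f (ls ^ 2)).1 (mem_centralizer_iff.2 fun a _ => ?_) i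
          have hl' : layerPiHom f ls = l := congrArg Subtype.val hls
          rw [map_pow, hl']
          have hl2 : c * (c * l ^ 2) = 1 := by
            rw [(show Commute c l from (hcZ l).symm).mul_pow, pow_two c, mul_assoc] at hx2
            exact hx2
          have e : l ^ 2 = (c * c)⁻¹ := by
            rw [eq_inv_iff_mul_eq_one]
            have h3 : Commute (c * c) (l ^ 2) :=
              ((show Commute c (l ^ 2) from (hcZ _).symm)).mul_left (hcZ _).symm
            rw [← h3.eq, mul_assoc]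
            exact hl2
          rw [e]
          have h4 : Commute a (c * c) := Commute.mul_right (hcZ a) (hcZ a)
          exact h4.inv_right.eq
      rw [← hinv] at hmem
      obtain ⟨b, hb, hbe⟩ := hmem
      have hz : ((b⁻¹ * ls i : ↥(f i : Subgroup H)) : H) ∈ B := by
        refine structure_center_le hCF hconcl hO hB hsc hgood hloc hA ⟨SetLike.coe_mem _, ?_⟩
        have h1 : (b⁻¹ * ls i) ∈ center ↥(f i : Subgroup H) := by
          rw [← QuotientGroup.eq_one_iff, ← QuotientGroup.mk'_apply, map_mul, map_inv, hbe, inv_mul_cancel]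
        exact mem_centralizer_iff.2 fun y hy => congrArg Subtype.val (mem_center_iff.1 h1 ⟨y, hy⟩)
      have := mul_mem (mem_subgroupOf.1 hb) hz
      rwa [← Subgroup.coe_mul, mul_inv_cancel_left] at this
    have hl' : layerPiHom f ls = l := congrArg Subtype.val hls
    rw [← hl', layerPiHom, Subgroup.noncommPiCoprod_apply]
    exact Subgroup.noncommProd_mem _ _ fun i _ => hall i

theorem structure_quotient (hO : Cfsg.pPrimeCore 2 H = ⊥) (hB : IsMulCommutative ↥B)
    (hsc : Cfsg.IsStronglyClosed B (T : Subgroup H)) (hloc : LocalFacts (T : Subgroup H) B)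
    (hgen : normalClosure (B : Set H) = ⊤)
    (hGS : ∀ (X : Type u) [Group X] [Finite X] [IsSimpleGroup X], ¬ IsMulCommutative X →
      ∀ (S : Sylow 2 X) (A : Subgroup X), A ≠ ⊥ → IsMulCommutative ↥A →
        Cfsg.IsStronglyClosed A (S : Subgroup X) → Cfsg.IsGoldschmidtGroup X) :
    ∃ (ι : Type) (_ : Fintype ι) (L : ι → Type u) (_ : ∀ i, Group (L i)),
      (∀ i, IsSimpleGroup (L i) ∧ ¬ IsMulCommutative (L i) ∧ Cfsg.IsGoldschmidtGroup (L i)) ∧
      Nonempty (↥(commutator H) ⧸ Subgroup.center ↥(commutator H) ≃* ((i : ι) → L i)) := by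
  haveI : Fintype {L : Subgroup H // Cfsg.IsComponent L} := Fintype.ofFinite _
  let f := (Fintype.equivFin {L : Subgroup H // Cfsg.IsComponent L}).symm
  refine ⟨_, inferInstance, fun i => ↥(f i : Subgroup H) ⧸ center ↥(f i : Subgroup H),
    fun i => inferInstance, fun i => ?_, ?_⟩
  · haveI hs : IsSimpleGroup (↥(f i : Subgroup H) ⧸ center ↥(f i : Subgroup H)) := (f i).2.2.2
    haveI := (f i).2.2.1
    have hna := structure_not_comm (Y := ↥(f i : Subgroup H) ⧸ center ↥(f i : Subgroup H))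
      (Group.IsPerfect.ofSurjective (QuotientGroup.mk'_surjective _))
    obtain ⟨Tb, -, hscb, hcommb, hneb⟩ := structure_hasSCA hO hB hsc hloc
      (structure_isAComp hO hB hsc hloc hgen (f i).2)
      (QuotientGroup.mk' (center ↥(f i : Subgroup H))) (QuotientGroup.mk'_surjective _) fun a => by
      rw [QuotientGroup.mk'_apply, QuotientGroup.eq_one_iff, mem_center_iff, mem_centralizer_iff]
      exact ⟨fun h y hy => congrArg Subtype.val (h ⟨y, hy⟩), fun h y => Subtype.ext (h y y.2)⟩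
    exact ⟨hs, hna, hGS _ hna Tb _ hneb hcommb hscb⟩
  · rw [structure_commutator hO hB hsc hloc hgen]
    exact ⟨layerPiEquiv f⟩

end Reduced

section Statement

/-- The inputs of the structural form: the theorem for simple groups, its identification, the goodness of
the components and the cover facts. -/
structure StructureInputs : Prop where
  coverFacts : CoverFacts.{u}
  concl : ∀ (X : Type u) [Group X] [Finite X] [IsSimpleGroup X], ¬ IsMulCommutative X → HasSCA X → Concl X
  goldschmidt : ∀ (X : Type u) [Group X] [Finite X] [IsSimpleGroup X], ¬ IsMulCommutative X →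
    ∀ (S : Sylow 2 X) (A : Subgroup X), A ≠ ⊥ → IsMulCommutative ↥A →
      Cfsg.IsStronglyClosed A (S : Subgroup X) → Cfsg.IsGoldschmidtGroup X
  goodComps : ∀ {H : Type u} [Group H] [Finite H], Cfsg.pPrimeCore 2 H = ⊥ → ∀ (T : Sylow 2 H)
    {B : Subgroup H}, IsMulCommutative ↥B → Cfsg.IsStronglyClosed B (T : Subgroup H) → GoodComps B
  localFacts : ∀ {H : Type u} [Group H] [Finite H], Cfsg.pPrimeCore 2 H = ⊥ → ∀ (T : Sylow 2 H)
    {B : Subgroup H}, IsMulCommutative ↥B → Cfsg.IsStronglyClosed B (T : Subgroup H) → GoodComps B →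
      LocalFacts (T : Subgroup H) B

variable {G : Type u} [Group G] [Finite G]

/-- The normal closure of a strongly closed subgroup is generated by its own conjugates. -/
theorem normalClosure_subgroupOf_eq_top (S : Sylow 2 G) (A : Subgroup G)
    (hsc : Cfsg.IsStronglyClosed A (S : Subgroup G)) (K : Subgroup G)
    (hK : K = normalClosure (A : Set G)) :
    normalClosure ((A.subgroupOf K : Subgroup ↥K) : Set ↥K) = ⊤ := by
  haveI hKn : K.Normal := hK ▸ normalClosure_normal
  have hAK : A ≤ K := fun a ha => hK ▸ subset_normalClosure ha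
  obtain ⟨P, hP⟩ := CfsgLib.SubJoin.exists_sylow_subnormal S (A := K) hKn.isSubnormal
  set M := normalClosure ((A.subgroupOf K : Subgroup ↥K) : Set ↥K) with hM
  have hconj : ∀ g : G, ∀ a ∈ A, g * a * g⁻¹ ∈ M.map K.subtype := by
    intro g a ha
    obtain ⟨n, hn, k, hk, rfl⟩ := mem_sup_of_normal_right.1
      (show g ∈ normalizer ((map K.subtype (P : Subgroup ↥K)) : Set G) ⊔ K from
        (Sylow.normalizer_sup_eq_top P).symm ▸ mem_top g)
    have hkn : n * k * n⁻¹ ∈ K := hKn.conj_mem k hk n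
    have hna : n * a * n⁻¹ ∈ A := by
      refine hsc.2 a ha n ?_
      have h1 : n * a * n⁻¹ ∈ map K.subtype (P : Subgroup ↥K) :=
        (mem_normalizer_iff.1 hn a).1 ⟨⟨a, hAK ha⟩, by rw [hP]; exact mem_subgroupOf.2 (hsc.1 ha), rfl⟩
      obtain ⟨w, hw, hwe⟩ := h1
      rw [hP] at hw
      exact hwe ▸ mem_subgroupOf.1 hw
    refine ⟨⟨n * k * n⁻¹, hkn⟩ * ⟨n * a * n⁻¹, hAK hna⟩ * ⟨n * k * n⁻¹, hkn⟩⁻¹,
      normalClosure_normal.conj_mem _ (subset_normalClosure (mem_subgroupOf.2 hna)) _, ?_⟩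
    simp only [coe_subtype, Subgroup.coe_mul, Subgroup.coe_inv]
    group
  have hle : K ≤ M.map K.subtype := by
    conv_lhs => rw [hK]
    refine (closure_le _).2 fun x hx => ?_
    obtain ⟨a, ha, hax⟩ := Group.mem_conjugatesOfSet_iff.1 hx
    obtain ⟨c, rfl⟩ := isConj_iff.1 hax
    exact hconj c a ha
  refine top_unique fun x _ => ?_
  obtain ⟨y, hy, hyx⟩ := hle x.2
  rwa [← show y = x from Subtype.ext hyx]

/-- **S2775** from the inputs. -/
theorem structure_of_inputs (I : StructureInputs.{u}) (S : Sylow 2 G) (A : Subgroup G)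
    (hA : IsMulCommutative ↥A) (hsc : Cfsg.IsStronglyClosed A (S : Subgroup G)) (K : Subgroup G)
    (hK : K = Subgroup.normalClosure (A : Set G)) (Q : Type u) [Group Q] (π : ↥K →* Q)
    (hπ : Function.Surjective π) (hker : π.ker = Cfsg.pPrimeCore 2 ↥K) :
    Cfsg.pCore 2 Q ⊔ commutator Q = ⊤ ∧ Cfsg.pCore 2 Q ≤ Subgroup.center Q ∧
      (∃ T : Sylow 2 Q, (A.subgroupOf K).map π ≤ (T : Subgroup Q) ∧
        (A.subgroupOf K).map π = Cfsg.pCore 2 Q ⊔ Cfsg.omegaOne 2 (T : Subgroup Q)) ∧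
      ∃ (ι : Type) (_ : Fintype ι) (L : ι → Type u) (_ : ∀ i, Group (L i)),
        (∀ i, IsSimpleGroup (L i) ∧ ¬ IsMulCommutative (L i) ∧ Cfsg.IsGoldschmidtGroup (L i)) ∧
        Nonempty (↥(commutator Q) ⧸ Subgroup.center ↥(commutator Q) ≃* ((i : ι) → L i)) := by
  haveI : Finite Q := Finite.of_surjective π hπ
  haveI hKn : K.Normal := hK ▸ normalClosure_normal
  obtain ⟨P, hP⟩ := CfsgLib.SubJoin.exists_sylow_subnormal S (A := K) hKn.isSubnormal
  have hscK : Cfsg.IsStronglyClosed (A.subgroupOf K) (P : Subgroup ↥K) := by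
    refine ⟨fun a ha => by rw [hP]; exact mem_subgroupOf.2 (hsc.1 (mem_subgroupOf.1 ha)),
      fun a ha g hg => ?_⟩
    rw [hP, mem_subgroupOf] at hg
    rw [mem_subgroupOf] at ha ⊢
    simp only [Subgroup.coe_mul, Subgroup.coe_inv] at hg ⊢
    exact hsc.2 a ha g hg
  haveI : (Cfsg.pPrimeCore 2 ↥K).Normal := hker ▸ π.normal_ker
  let e : ↥K ⧸ Cfsg.pPrimeCore 2 ↥K ≃* Q :=
    (QuotientGroup.quotientMulEquivOfEq hker.symm).trans
      (QuotientGroup.quotientKerEquivOfSurjective π hπ)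
  have he : ∀ k : ↥K, e (QuotientGroup.mk' _ k) = π k := fun k => rfl
  have hO : Cfsg.pPrimeCore 2 Q = ⊥ :=
    CfsgLib.PCore.pPrimeCore_eq_bot_of_equiv e CfsgLib.PCore.pPrimeCore_quotient_pPrimeCore
  have hscm := CfsgLib.LocalEvenSix.ZJClosed.stronglyClosed_map_of_coprime (P := P)
    (K := Cfsg.pPrimeCore 2 ↥K) hscK CfsgLib.PCore.pPrimeCore_coprime
  set T := P.mapSurjective hπ with hT
  set B := (A.subgroupOf K).map π with hB
  have hscB : Cfsg.IsStronglyClosed B (T : Subgroup Q) := by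
    have hmem : ∀ (D : Subgroup ↥K) (k : ↥K), π k ∈ D.map π ↔
        QuotientGroup.mk' (Cfsg.pPrimeCore 2 ↥K) k ∈ D.map (QuotientGroup.mk' _) := by
      intro D k
      constructor
      · rintro ⟨d, hd, hdk⟩
        exact ⟨d, hd, e.injective (by rw [he, he, hdk])⟩
      · rintro ⟨d, hd, hdk⟩
        exact ⟨d, hd, by rw [← he, hdk, he]⟩
    rw [hT, Sylow.coe_mapSurjective]
    refine ⟨map_mono hscK.1, ?_⟩
    rintro _ ⟨a, ha, rfl⟩ y hy
    obtain ⟨k, rfl⟩ := hπ y
    rw [← map_inv, ← map_mul, ← map_mul] at hy ⊢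
    rw [hB]
    refine (hmem _ _).2 ?_
    rw [map_mul, map_mul, map_inv]
    refine hscm.2 _ ⟨a, ha, rfl⟩ _ ?_
    rw [← map_inv, ← map_mul, ← map_mul]
    exact (hmem _ _).1 hy
  have hBc : IsMulCommutative ↥B := by
    refine ⟨⟨?_⟩⟩
    rintro ⟨_, a, ha, rfl⟩ ⟨_, b, hb, rfl⟩
    refine Subtype.ext ?_
    show π a * π b = π b * π a
    rw [← map_mul, ← map_mul]
    exact congrArg π (Subtype.ext (congrArg Subtype.val
      (hA.is_comm.comm (⟨a, mem_subgroupOf.1 ha⟩ : A) ⟨b, mem_subgroupOf.1 hb⟩) :))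
  have hgen : normalClosure (B : Set Q) = ⊤ := by
    refine top_unique ?_
    rw [← map_top_of_surjective π hπ, ← normalClosure_subgroupOf_eq_top S A hsc K hK, map_normalClosure _ π hπ]
    exact (normalClosure_mono (by rw [hB, coe_map]))
  have hgood := I.goodComps hO T hBc hscB
  have hloc := I.localFacts hO T hBc hscB hgood
  exact ⟨structure_pCore_sup hO hBc hscB hloc hgen, structure_pCore_le_center hO hBc hscB hloc hgen,
    ⟨T, hscB.1, structure_omega I.coverFacts I.concl hO hBc hscB hgood hloc hgen⟩,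
    structure_quotient hO hBc hscB hloc hgen I.goldschmidt⟩

end Statement

end CfsgLib.Goldschmidt
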